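import Mathlib
import Cfsg.Prelude.Def_Local
import Cfsg.Prelude.Def_CaseTheorems

/-!
Definitions for the split of S1915 (a four-group acting on a semisimple group), architect helper42.
-/

set_option autoImplicit false

namespace Cfsg.Agent.Lib.helper42.FG

variable {G : Type*} [Group G]

/-- `E` is an elementary abelian 2-subgroup. -/
def El (E : Subgroup G) : Prop :=
  (∀ x ∈ E, ∀ y ∈ E, x * y = y * x) ∧ ∀ e ∈ E, e ^ 2 = 1

/-- The configuration: `S` a Sylow 2-subgroup of `A` normalized by the four-group `U`,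
`U ⊓ A = ⊥`, no `U`-invariant elementary abelian subgroup of `S` of order `> 2`, no elementary
abelian subgroup of order `> 2` centralized by a non-identity element of `U`, but `S` has
an elementary abelian subgroup of order `> 2`. -/
structure Cfg (A S U : Subgroup G) : Prop where
  hSA : S ≤ A
  hSyl : Nat.card S = 2 ^ (Nat.card A).factorization 2
  hU : IsKleinFour U
  hUA : U ≤ Subgroup.normalizer (A : Set G)
  hUS : U ≤ Subgroup.normalizer (S : Set G)
  hUA' : U ⊓ A = ⊥
  ha : ∀ E : Subgroup G, E ≤ S → U ≤ Subgroup.normalizer (E : Set G) → El E → Nat.card E ≤ 2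
  hb : ∀ u ∈ U, u ≠ 1 → ∀ E : Subgroup G, E ≤ S → (∀ e ∈ E, u * e = e * u) → El E → Nat.card E ≤ 2
  hc : ∃ E : Subgroup G, E ≤ S ∧ El E ∧ 2 < Nat.card E

/-- `B` is a cyclic subgroup of index 2 of `S`, invariant under `S` and `U`, self-centralizing in `S`. -/
structure BData (S U B : Subgroup G) : Prop where
  hBS : B ≤ S
  hcyc : IsCyclic B
  hidx : B.relIndex S = 2
  hSB : S ≤ Subgroup.normalizer (B : Set G)
  hUB : U ≤ Subgroup.normalizer (B : Set G)
  hself : ∀ y ∈ S, (∀ x ∈ B, y * x = x * y) → y ∈ B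

/-- `z` is the unique central involution of `S`, it lies in every four-subgroup `V` of `S`,
and every four-subgroup of `S` is self-centralizing in `S`. -/
structure ZData (S : Subgroup G) (z : G) : Prop where
  hzS : z ∈ S
  hz2 : orderOf z = 2
  hzc : ∀ y ∈ S, y * z = z * y
  hzu : ∀ y ∈ S, (∀ x ∈ S, y * x = x * y) → y = 1 ∨ y = z
  h4 : ∀ V : Subgroup G, V ≤ S → IsKleinFour V →
    z ∈ V ∧ ∀ y ∈ S, (∀ v ∈ V, y * v = v * y) → y ∈ V

/-- `S` has a subgroup `Q` of index 2 containing `z` whose only involution is `z`. -/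
def K1 (S : Subgroup G) (z : G) : Prop :=
  ∃ Q : Subgroup G, Q ≤ S ∧ Q.relIndex S = 2 ∧ z ∈ Q ∧ ∀ q ∈ Q, q ^ 2 = 1 → q = 1 ∨ q = z

/-- Some non-identity element of `U` acts on `S` as conjugation by an element of `S`. -/
def Inner (S U : Subgroup G) : Prop :=
  ∃ u ∈ U, u ≠ 1 ∧ ∃ x ∈ S, ∀ y ∈ S, u * y * u⁻¹ = x * y * x⁻¹

end Cfsg.Agent.Lib.helper42.FG
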