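import Mathlib

/-!
helper42: common definitions for S2202 (finite groups in which the centralizer of every
involution is abelian).  Points are the Sylow 2-subgroups, with Mathlib's conjugation action
`g • P` of `G` on `Sylow 2 G`.
-/

set_option autoImplicit false

namespace Cfsg.Agent.Lib.helper42.AIC

/-- normalizer of a Sylow 2-subgroup (the stabilizer of the point `P`). -/
abbrev NP {G : Type*} [Group G] (P : Sylow 2 G) : Subgroup G :=
  Subgroup.normalizer ((P : Subgroup G) : Set G)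

/-- centralizer of a Sylow 2-subgroup. -/
abbrev CP {G : Type*} [Group G] (P : Sylow 2 G) : Subgroup G :=
  Subgroup.centralizer ((P : Subgroup G) : Set G)

/-- the centralizer of every involution is commutative (hypothesis of S2202). -/
def AIC (G : Type*) [Group G] : Prop :=
  ∀ t : G, orderOf t = 2 → IsMulCommutative ↥(Subgroup.centralizer ({t} : Set G))

/-- no Sylow 2-subgroup is cyclic. -/
def NCyc (G : Type*) [Group G] : Prop := ∀ P : Sylow 2 G, ¬ IsCyclic ↥(P : Subgroup G)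

/-- no Sylow 2-subgroup is normal. -/
def NNor (G : Type*) [Group G] : Prop := ∀ P : Sylow 2 G, ¬ (P : Subgroup G).Normal

/-- the odd parts of the centralizers of distinct Sylow 2-subgroups meet trivially. -/
def KTI (G : Type*) [Group G] : Prop :=
  ∀ P Q : Sylow 2 G, P ≠ Q → ∀ x : G, Odd (orderOf x) → x ∈ CP P → x ∈ CP Q → x = 1

/-- the odd parts of the centralizers of all Sylow 2-subgroups coincide. -/
def KEq (G : Type*) [Group G] : Prop :=
  ∀ (P Q : Sylow 2 G) (x : G), Odd (orderOf x) → x ∈ CP P → x ∈ CP Q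

/-- the centralizer of every involution is an elementary abelian 2-group
(the hypothesis `hC` of S1229 / S1230 and of helper26's `CIT` library). -/
def CITH (G : Type*) [Group G] : Prop :=
  ∀ t : G, orderOf t = 2 → IsMulCommutative ↥(Subgroup.centralizer ({t} : Set G)) ∧
    ∀ c ∈ Subgroup.centralizer ({t} : Set G), c ^ 2 = 1

/-- `Z` is the set of odd-order elements centralizing every Sylow 2-subgroup. -/
def IsKsub {G : Type*} [Group G] (Z : Subgroup G) : Prop :=
  ∀ x : G, x ∈ Z ↔ (Odd (orderOf x) ∧ ∀ P : Sylow 2 G, x ∈ CP P)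

/-- `M` is the stabilizer of the block of `P` (the Sylow 2-subgroups `R` with `K_R = K_P`). -/
def IsBlockStab {G : Type*} [Group G] (M : Subgroup G) (P : Sylow 2 G) : Prop :=
  ∀ g : G, g ∈ M ↔ ∀ x : G, Odd (orderOf x) → (x ∈ CP (g • P) ↔ x ∈ CP P)

/-- the dichotomy of step 1: a common non-trivial odd element forces `K_P ≤ K_Q`. -/
def Dich (G : Type*) [Group G] : Prop :=
  ∀ P Q : Sylow 2 G, (∃ z : G, z ≠ 1 ∧ Odd (orderOf z) ∧ z ∈ CP P ∧ z ∈ CP Q) →
    ∀ x : G, Odd (orderOf x) → x ∈ CP P → x ∈ CP Q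

/-- the structure of a group in which all `K_P` coincide (clauses S1 - S6). -/
def KStruct {G : Type*} [Group G] (Z : Subgroup G) : Prop :=
  (∀ P : Sylow 2 G, Nat.card (Sylow 2 G) = Nat.card (P : Subgroup G) + 1) ∧
  (∀ P : Sylow 2 G, ∀ x ∈ (P : Subgroup G), x ^ 2 = 1) ∧
  (∀ P Q R : Sylow 2 G, P ≠ Q → P ≠ R → Q ≠ R → ∀ g : G, g ∈ NP P → g ∈ NP Q → g ∈ NP R → g ∈ Z) ∧
  (∀ P Q R : Sylow 2 G, Q ≠ P → R ≠ P → ∃ s ∈ (P : Subgroup G), s • Q = R) ∧
  (∀ P Q : Sylow 2 G, P ≠ Q → ∀ w : G, orderOf w = 2 → w • P = Q →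
    ∀ d ∈ NP P ⊓ NP Q, ∃ z ∈ Z, w * d * w⁻¹ = d⁻¹ * z) ∧
  (∀ P Q : Sylow 2 G, P ≠ Q →
    Nat.card ↥(NP P ⊓ NP Q) = (Nat.card (P : Subgroup G) - 1) * Nat.card Z)

end Cfsg.Agent.Lib.helper42.AIC
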