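import Mathlib
import Cfsg.Agent.Lib.helper42.AICDefs
import Cfsg.Agent.Lib.helper26.CIT

/-!
helper42: S2202 pieces A1, A2, A2', A3, A4, A10, B1 (basic facts on groups with abelian
involution centralizers), plus small reusable lemmas on the conjugation action on Sylow subgroups.
-/

set_option autoImplicit false

open Cfsg.Agent.Lib.helper42.AIC

namespace Cfsg.Agent.Lib.helper42.AIC

/-- membership in a conjugate Sylow subgroup. -/
theorem mem_smul_sylow {G : Type*} [Group G] (g : G) (P : Sylow 2 G) (y : G) :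
    y ∈ ((g • P : Sylow 2 G) : Subgroup G) ↔ g⁻¹ * y * g ∈ (P : Subgroup G) := by
  rw [Sylow.coe_subgroup_smul, Subgroup.mem_pointwise_smul_iff_inv_smul_mem]
  simp [MulAut.smul_def]

/-- conjugation maps `CP P` to `CP (g • P)`. -/
theorem conj_mem_cp {G : Type*} [Group G] (g : G) (P : Sylow 2 G) {x : G} (hx : x ∈ CP P) :
    g * x * g⁻¹ ∈ CP (g • P) := by
  rw [Subgroup.mem_centralizer_iff] at hx ⊢
  intro y hy
  have hy' : g⁻¹ * y * g ∈ (P : Subgroup G) := (mem_smul_sylow g P y).1 hy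
  have h1 := hx _ hy'
  calc y * (g * x * g⁻¹) = g * ((g⁻¹ * y * g) * x) * g⁻¹ := by group
    _ = g * (x * (g⁻¹ * y * g)) * g⁻¹ := by rw [h1]
    _ = g * x * g⁻¹ * y := by group

/-- A1 -/
theorem sylow_comm {G : Type*} [Group G] [Finite G] (hA : AIC G) (hnc : NCyc G) (P : Sylow 2 G) :
    ∀ x ∈ (P : Subgroup G), ∀ y ∈ (P : Subgroup G), x * y = y * x := by
  obtain ⟨z, hzP, hz2, hzc⟩ := Cfsg.Agent.Lib.helper26.CIT.exists_central_involution P (hnc P)
  intro x hx y hy
  have hcomm := hA z hz2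
  have hxC : x ∈ Subgroup.centralizer ({z} : Set G) := by
    rw [Subgroup.mem_centralizer_iff]
    intro h hh
    rw [Set.mem_singleton_iff] at hh
    rw [hh]
    exact (hzc x hx).symm
  have hyC : y ∈ Subgroup.centralizer ({z} : Set G) := by
    rw [Subgroup.mem_centralizer_iff]
    intro h hh
    rw [Set.mem_singleton_iff] at hh
    rw [hh]
    exact (hzc y hy).symm
  exact congrArg Subtype.val
    (mul_comm' (⟨x, hxC⟩ : Subgroup.centralizer ({z} : Set G)) ⟨y, hyC⟩)

/-- A2 -/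
theorem cent_eq {G : Type*} [Group G] [Finite G] (hA : AIC G) (hnc : NCyc G) (P : Sylow 2 G) {t : G}
    (ht : orderOf t = 2) (htP : t ∈ (P : Subgroup G)) :
    Subgroup.centralizer ({t} : Set G) = CP P := by
  have hcomm := hA t ht
  apply le_antisymm
  · intro g hg
    rw [Subgroup.mem_centralizer_iff]
    intro s hs
    have hsC : s ∈ Subgroup.centralizer ({t} : Set G) := by
      rw [Subgroup.mem_centralizer_iff]
      intro h hh
      rw [Set.mem_singleton_iff] at hh
      rw [hh]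
      exact sylow_comm hA hnc P t htP s hs
    exact congrArg Subtype.val
      (mul_comm' (⟨s, hsC⟩ : Subgroup.centralizer ({t} : Set G)) ⟨g, hg⟩)
  · intro g hg
    rw [Subgroup.mem_centralizer_iff] at hg ⊢
    intro h hh
    rw [Set.mem_singleton_iff] at hh
    rw [hh]
    exact hg t htP

/-- A2' -/
theorem cp_comm {G : Type*} [Group G] [Finite G] (hA : AIC G) (hnc : NCyc G) (P : Sylow 2 G) :
    ∀ x ∈ CP P, ∀ y ∈ CP P, x * y = y * x := by
  obtain ⟨z, hzP, hz2, -⟩ := Cfsg.Agent.Lib.helper26.CIT.exists_central_involution P (hnc P)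
  have hcomm := hA z hz2
  have he := cent_eq hA hnc P hz2 hzP
  intro x hx y hy
  rw [← he] at hx hy
  exact congrArg Subtype.val
    (mul_comm' (⟨x, hx⟩ : Subgroup.centralizer ({z} : Set G)) ⟨y, hy⟩)

/-- `P ≤ CP P`. -/
theorem sylow_le_cp {G : Type*} [Group G] [Finite G] (hA : AIC G) (hnc : NCyc G) (P : Sylow 2 G) :
    (P : Subgroup G) ≤ CP P := by
  intro x hx
  rw [Subgroup.mem_centralizer_iff]
  intro y hy
  exact sylow_comm hA hnc P y hy x hx

/-- `CP P ≤ NP P`. -/
theorem cp_le_np {G : Type*} [Group G] (P : Sylow 2 G) : CP P ≤ NP P :=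
  Subgroup.centralizer_le_normalizer _

/-- A4 : a 2-element normalizing a Sylow 2-subgroup lies in it (general) -/
theorem mem_of_np {G : Type*} [Group G] [Finite G] (P : Sylow 2 G) {x : G} (hx : x ∈ NP P) (k : ℕ)
    (hk : x ^ (2 ^ k) = 1) : x ∈ (P : Subgroup G) :=
  Cfsg.Agent.Lib.helper26.mem_sylow_of_mem_normalizer P hx ⟨k, hk⟩

/-- a non-identity element of a Sylow 2-subgroup has an involution among its powers. -/
theorem exists_pow_inv {G : Type*} [Group G] [Finite G] (P : Sylow 2 G) {x : G}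
    (hxP : x ∈ (P : Subgroup G)) (hx : x ≠ 1) : ∃ n : ℕ, orderOf (x ^ n) = 2 := by
  obtain ⟨k, hk⟩ := (IsPGroup.iff_orderOf.1 P.isPGroup') ⟨x, hxP⟩
  have hk' : orderOf x = 2 ^ k := by
    rw [← Subgroup.orderOf_coe] at hk
    exact hk
  rcases k with _ | k
  · exfalso
    apply hx
    rw [pow_zero, orderOf_eq_one_iff] at hk'
    exact hk'
  · refine ⟨2 ^ k, ?_⟩
    have h2 : orderOf x = 2 ^ k * 2 := by rw [hk', pow_succ]
    exact orderOf_pow_of_dvd (by positivity) (by rw [h2]; exact Dvd.intro _ rfl) |>.trans (by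
      rw [h2]; exact Nat.mul_div_cancel_left 2 (by positivity))

/-- A3 : Sylow 2-subgroups are TI -/
theorem sylow_ti {G : Type*} [Group G] [Finite G] (hA : AIC G) (hnc : NCyc G) (P Q : Sylow 2 G) {x : G}
    (hxP : x ∈ (P : Subgroup G)) (hxQ : x ∈ (Q : Subgroup G)) (hx : x ≠ 1) : P = Q := by
  obtain ⟨n, hn⟩ := exists_pow_inv P hxP hx
  have htP : x ^ n ∈ (P : Subgroup G) := pow_mem hxP n
  have htQ : x ^ n ∈ (Q : Subgroup G) := pow_mem hxQ n
  have h1 := cent_eq hA hnc P hn htP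
  have h2 := cent_eq hA hnc Q hn htQ
  have hPQ : (P : Subgroup G) ≤ (Q : Subgroup G) := by
    intro y hy
    have hyC : y ∈ CP Q := by
      rw [← h2, h1]
      exact sylow_le_cp hA hnc P hy
    obtain ⟨k, hk⟩ := (IsPGroup.iff_orderOf.1 P.isPGroup') ⟨y, hy⟩
    have hk' : orderOf y = 2 ^ k := by
      rw [← Subgroup.orderOf_coe] at hk
      exact hk
    exact mem_of_np Q (cp_le_np Q hyC) k (by rw [← hk']; exact pow_orderOf_eq_one y)
  have := P.is_maximal' Q.isPGroup' hPQ
  exact (Sylow.ext this).symm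

/-- A10 -/
theorem exists_sylow_inv {G : Type*} [Group G] [Finite G] (hA : AIC G) (hnc : NCyc G) {t : G}
    (ht : orderOf t = 2) :
    ∃ R : Sylow 2 G, t ∈ (R : Subgroup G) ∧ Subgroup.centralizer ({t} : Set G) = CP R := by
  have hp : IsPGroup 2 (Subgroup.zpowers t) := by
    apply IsPGroup.of_card (n := 1)
    rw [Nat.card_zpowers, ht, pow_one]
  obtain ⟨R, hR⟩ := hp.exists_le_sylow
  have htR : t ∈ (R : Subgroup G) := hR (Subgroup.mem_zpowers t)
  exact ⟨R, htR, cent_eq hA hnc R ht htR⟩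

/-- B1 -/
theorem cent_le_np {G : Type*} [Group G] [Finite G] (hK : KTI G) (P : Sylow 2 G) {x : G}
    (hxo : Odd (orderOf x)) (hxP : x ∈ CP P) (hx1 : x ≠ 1) {h : G} (hh : h * x = x * h) :
    h ∈ NP P := by
  by_contra hcon
  have hne : h • P ≠ P := fun he => hcon (Sylow.smul_eq_iff_mem_normalizer.1 he)
  have h1 : h * x * h⁻¹ ∈ CP (h • P) := conj_mem_cp h P hxP
  have h2 : h * x * h⁻¹ = x := by rw [hh]; group
  rw [h2] at h1
  exact hx1 (hK (h • P) P hne x hxo h1 hxP)

end Cfsg.Agent.Lib.helper42.AIC
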