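import Mathlib
import Cfsg.Prelude.Def_Classical
import Cfsg.Prelude.Def_EvenType
import Cfsg.Prelude.Def_CaseTheorems
import Cfsg.Agent.Lib.helper42.OrthoRank2

set_option autoImplicit false

namespace Cfsg.Agent.Lib.helper42

open Matrix

/-! ### `-1 ∈ Ω(Q)` or not, from a diagonalization -/

/-- a form of square discriminant is carried to the sum of squares -/
theorem unif_const_of_isSquare {ι : Type} [Fintype ι] [DecidableEq ι] [Nonempty ι] {F : Type*} [Field F]
    [Fintype F] (hF : Odd (Fintype.card F)) (Q : (ι → F) → F) (d : ι → F) (hd : ∀ k, d k ≠ 0)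
    (hQ : Unif Q d) (hsq : IsSquare (∏ k, d k)) : Unif Q (fun _ => (1 : F)) := by
  obtain ⟨i₀⟩ := ‹Nonempty ι›
  have hD : ∏ k, d k ≠ 0 := Finset.prod_ne_zero_iff.mpr (fun k _ => hd k)
  have hnf := unif_nf hF Q d hd hQ i₀
  obtain ⟨ρ, hρ⟩ := hsq
  have hρ0 : ρ ≠ 0 := by
    rintro rfl
    apply hD
    rw [hρ, mul_zero]
  have hsc := unif_scale (nf i₀ (∏ k, d k)) (fun k => if k = i₀ then ρ⁻¹ else 1)
  have hone : (fun k => nf i₀ (∏ k, d k) k * (if k = i₀ then ρ⁻¹ else 1) ^ 2) = fun _ => (1 : F) := by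
    funext k
    unfold nf
    by_cases hk : k = i₀
    · rw [if_pos hk, if_pos hk, hρ]
      field_simp
    · rw [if_neg hk, if_neg hk]
      simp
  rw [hone] at hsc
  exact hnf.trans hsc

theorem map_commutator_le_commutator {G H : Type*} [Group G] [Group H] (f : G →* H) (x : G)
    (hx : x ∈ commutator G) : f x ∈ commutator H := by
  have hle : (commutator G).map f ≤ commutator H := by
    rw [commutator_def, Subgroup.map_commutator, commutator_def]
    exact Subgroup.commutator_mono le_top le_top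
  exact hle (Subgroup.mem_map_of_mem f hx)

/-- if `Q` is carried to a constant diagonal form and the dimension is even, then `-1 ∈ Ω(Q)` -/
theorem neg_one_mem_Omega_of_unif {ι : Type} [Fintype ι] [DecidableEq ι] {F : Type*} [Field F]
    (h2 : (2 : F) ≠ 0) (Q : (ι → F) → F) (c : F) (hc : c ≠ 0) (hQ : Unif Q (fun _ => c))
    (hN : Even (Fintype.card ι)) :
    ∃ g : Cfsg.isometryGroup F Q, g ∈ Cfsg.Omega F Q ∧ ((g : GL ι F) : Matrix ι ι F) = -1 := by
  obtain ⟨P, hP⟩ := hQ
  have hunit := isUnit_of_unif h2 Q P _ (fun _ => hc) hP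
  have hP' : ∀ y, Q ((hunit.unit : Matrix ι ι F) *ᵥ y) = diagForm (fun _ : ι => c) y := by
    intro y
    rw [IsUnit.unit_spec]
    exact hP y
  let ε : ι → ℤˣ := fun _ => -1
  have hε : ε ∈ (signProd ι).ker := by
    rw [MonoidHom.mem_ker, signProd_apply]
    show ∏ _i : ι, (-1 : ℤˣ) = 1
    rw [Finset.prod_const, Finset.card_univ]
    exact hN.neg_one_pow
  have hext : extHom (id : ι → ι) ε = ε := by
    funext i
    exact Function.injective_id.extend_apply ε 1 i
  have hmem := dHomD_mem_commutator (fun _ : ι => c) (id : ι → ι) Function.injective_id (fun _ _ => rfl) ε hε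
  rw [hext] at hmem
  refine ⟨conjIso Q (diagForm (fun _ : ι => c)) hunit.unit hP' (dHomD (fun _ : ι => c) ε),
    map_commutator_le_commutator _ _ hmem, ?_⟩
  have hd : dmat F ε = -1 := by
    unfold dmat
    ext i j
    by_cases h : i = j
    · subst h
      simp [ε]
    · simp [h]
  show (hunit.unit : Matrix ι ι F) * dmat F ε * ((hunit.unit⁻¹ : GL ι F) : Matrix ι ι F) = -1
  rw [hd, mul_neg, mul_one, neg_mul, ← Units.val_mul, mul_inv_cancel]
  rfl

/-- if `Q` is carried to a diagonal form of non-square discriminant in even dimension, then `-1 ∉ Ω(Q)` -/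
theorem neg_one_not_mem_Omega_of_unif {ι : Type} [Fintype ι] [DecidableEq ι] [Nonempty ι] {F : Type*}
    [Field F] [Fintype F] (hF : Odd (Fintype.card F)) (Q : (ι → F) → F) (d : ι → F) (hd : ∀ k, d k ≠ 0)
    (hQ : Unif Q d) (hns : ¬ IsSquare (∏ k, d k)) (hev : Even (Fintype.card ι))
    (g : Cfsg.isometryGroup F Q) (hg : ((g : GL ι F) : Matrix ι ι F) = -1) : g ∉ Cfsg.Omega F Q := by
  have h2 := two_ne_zero_of_odd_card hF
  obtain ⟨i₀⟩ := ‹Nonempty ι›
  have hD : ∏ k, d k ≠ 0 := Finset.prod_ne_zero_iff.mpr (fun k _ => hd k)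
  have hnf := unif_nf hF Q d hd hQ i₀
  have hnf0 : ∀ k, nf i₀ (∏ k, d k) k ≠ 0 := by
    intro k
    unfold nf
    split_ifs
    · exact hD
    · exact one_ne_zero
  have hcard' : Fintype.card {k : ι // k ≠ i₀} = Fintype.card ι - 1 := by
    rw [Fintype.card_subtype_compl, Fintype.card_subtype_eq]
  obtain ⟨P, hP⟩ := hnf
  have hunit := isUnit_of_unif h2 Q P _ hnf0 hP
  have hQ0 : Q 0 ≠ 1 := by
    have := hP 0
    rw [Matrix.mulVec_zero] at this
    rw [this]
    unfold diagForm
    simp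
  have hcount : Nat.card {v : ι → F // Q v = 1} = Nat.card {y : ι → F // diagForm (nf i₀ (∏ k, d k)) y = 1} := by
    apply Nat.card_congr
    symm
    let U : GL ι F := hunit.unit
    have hU : (U : Matrix ι ι F) = P := IsUnit.unit_spec hunit
    let E : (ι → F) ≃ (ι → F) :=
      { toFun := fun y => P *ᵥ y
        invFun := fun v => ((U⁻¹ : GL ι F) : Matrix ι ι F) *ᵥ v
        left_inv := fun y => by
          show ((U⁻¹ : GL ι F) : Matrix ι ι F) *ᵥ (P *ᵥ y) = y
          rw [← hU, Matrix.mulVec_mulVec, ← Units.val_mul, inv_mul_cancel]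
          simp
        right_inv := fun v => by
          show P *ᵥ (((U⁻¹ : GL ι F) : Matrix ι ι F) *ᵥ v) = v
          rw [← hU, Matrix.mulVec_mulVec, ← Units.val_mul, mul_inv_cancel]
          simp }
    refine Equiv.subtypeEquiv E ?_
    intro y
    show diagForm (nf i₀ (∏ k, d k)) y = 1 ↔ Q (P *ᵥ y) = 1
    rw [hP]
  have hlevel := card_diag_level h2 (nf i₀ (∏ k, d k)) 1 one_ne_zero
  have hidx : Nat.card {k : ι // ∃ t : F, nf i₀ (∏ k, d k) k * t ^ 2 = 1} = Fintype.card ι - 1 := by
    rw [← hcard', ← Nat.card_eq_fintype_card]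
    apply Nat.card_congr
    refine Equiv.subtypeEquivRight ?_
    intro k
    unfold nf
    constructor
    · rintro ⟨t, ht⟩ hk
      rw [if_pos hk] at ht
      apply hns
      have ht0 : t ≠ 0 := by
        rintro rfl
        simp at ht
      refine ⟨t⁻¹, ?_⟩
      field_simp
      linear_combination ht
    · intro hk
      exact ⟨1, by rw [if_neg hk]; simp⟩
  refine neg_one_not_mem_Omega h2 Q hQ0 ?_ g hg
  rw [hcount]
  rw [hidx] at hlevel
  have hl : Nat.card {y : ι → F // diagForm (nf i₀ (∏ k, d k)) y = 1} % 4 = (2 * (Fintype.card ι - 1)) % 4 := hlevel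
  rw [hl]
  have hpos : 0 < Fintype.card ι := Fintype.card_pos_iff.mpr ⟨i₀⟩
  obtain ⟨m, hm⟩ := hev
  omega

end Cfsg.Agent.Lib.helper42
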