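import Mathlib
import Cfsg.Prelude.Def_Classical
import Cfsg.Prelude.Def_EvenType
import Cfsg.Prelude.Def_CaseTheorems
import Cfsg.Agent.Lib.helper42.OrthoRank3

set_option autoImplicit false

namespace Cfsg.Agent.Lib.helper42

open Matrix

/-! ### non-degeneracy of the polar form from a diagonalization -/

theorem nondegenerate_of_unif {ι : Type} [Fintype ι] [DecidableEq ι] {F : Type*} [Field F] (h2 : (2 : F) ≠ 0)
    (Q : QuadraticForm F (ι → F)) (d : ι → F) (hd : ∀ k, d k ≠ 0) (hQ : Unif (⇑Q) d) :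
    (QuadraticMap.polarBilin Q).Nondegenerate := by
  obtain ⟨P, hP⟩ := hQ
  have hunit := isUnit_of_unif h2 (⇑Q) P d hd hP
  have hsurj : ∀ x : ι → F, ∃ y, P *ᵥ y = x := by
    intro x
    obtain ⟨U, hU⟩ := hunit
    refine ⟨((U⁻¹ : (Matrix ι ι F)ˣ) : Matrix ι ι F) *ᵥ x, ?_⟩
    rw [← hU, Matrix.mulVec_mulVec, ← Units.val_mul, mul_inv_cancel]
    simp
  have hpol : ∀ y z : ι → F, QuadraticMap.polar (⇑Q) (P *ᵥ y) (P *ᵥ z) = 2 * ∑ k, d k * y k * z k := by
    intro y z
    unfold QuadraticMap.polar
    rw [← Matrix.mulVec_add, hP, hP, hP]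
    unfold diagForm
    rw [Finset.mul_sum, ← Finset.sum_sub_distrib, ← Finset.sum_sub_distrib]
    apply Finset.sum_congr rfl
    intro k _
    simp only [Pi.add_apply]
    ring
  have key : ∀ x : ι → F, (∀ w, QuadraticMap.polar (⇑Q) x w = 0) → x = 0 := by
    intro x hx
    obtain ⟨y, rfl⟩ := hsurj x
    have hy : y = 0 := by
      funext k
      have h := hx (P *ᵥ (Pi.single k 1))
      rw [hpol] at h
      have hsum : ∑ j, d j * y j * (Pi.single k (1 : F) : ι → F) j = d k * y k := by
        rw [Finset.sum_eq_single k]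
        · simp
        · intro j _ hj
          simp [hj]
        · intro h'
          exact absurd (Finset.mem_univ k) h'
      rw [hsum] at h
      rcases mul_eq_zero.mp h with h | h
      · exact absurd h h2
      · rcases mul_eq_zero.mp h with h | h
        · exact absurd h (hd k)
        · exact h
    rw [hy, Matrix.mulVec_zero]
  constructor
  · intro x hx
    apply key x
    intro w
    have := hx w
    simpa using this
  · intro x hx
    apply key x
    intro w
    have := hx w
    rw [QuadraticMap.polarBilin_apply_apply, QuadraticMap.polar_comm] at this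
    exact this

/-! ### the centre of `Ω` consists of scalars -/

theorem exists_third {ι : Type} [Fintype ι] [DecidableEq ι] (h3 : 3 ≤ Fintype.card ι) (a b : ι) :
    ∃ c : ι, c ≠ a ∧ c ≠ b := by
  have hlt : ({a, b} : Finset ι).card < (Finset.univ : Finset ι).card := by
    rw [Finset.card_univ]
    have := Finset.card_le_two (a := a) (b := b)
    omega
  obtain ⟨c, -, hc⟩ := Finset.exists_mem_notMem_of_card_lt_card hlt
  refine ⟨c, ?_, ?_⟩
  · rintro rfl
    exact hc (by simp)
  · rintro rfl
    exact hc (by simp)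

/-- a matrix commuting with all sign matrices of determinant one and all commutators of two transposition
matrices is scalar (dimension at least 3, `2 ≠ 0`) -/
theorem scalar_of_commute {ι : Type} [Fintype ι] [DecidableEq ι] {F : Type*} [Field F] (h2 : (2 : F) ≠ 0)
    (Z : Matrix ι ι F) (h3 : 3 ≤ Fintype.card ι)
    (hd : ∀ ε : ι → ℤˣ, ε ∈ (signProd ι).ker → Z * dmat F ε = dmat F ε * Z)
    (hp : ∀ a b c : ι, a ≠ b → b ≠ c → a ≠ c →
      Z * (Equiv.swap b c * Equiv.swap a b * Equiv.swap b c * Equiv.swap a b).permMatrix F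
        = (Equiv.swap b c * Equiv.swap a b * Equiv.swap b c * Equiv.swap a b).permMatrix F * Z) :
    ∃ lam : F, Z = lam • (1 : Matrix ι ι F) := by
  have hoff : ∀ a b : ι, a ≠ b → Z a b = 0 := by
    intro a b hab
    obtain ⟨c, hca, hcb⟩ := exists_third h3 a b
    let ε : ι → ℤˣ := Pi.mulSingle a (-1) * Pi.mulSingle c (-1)
    have hε : ε ∈ (signProd ι).ker := by
      rw [MonoidHom.mem_ker, signProd_apply]
      show ∏ i, (Pi.mulSingle a (-1 : ℤˣ) * Pi.mulSingle c (-1 : ℤˣ) : ι → ℤˣ) i = 1
      simp only [Pi.mul_apply]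
      rw [Finset.prod_mul_distrib, Fintype.prod_pi_mulSingle', Fintype.prod_pi_mulSingle']
      rfl
    have h := congrFun (congrFun (hd ε hε) a) b
    unfold dmat at h
    rw [Matrix.mul_diagonal, Matrix.diagonal_mul] at h
    have ea : ε a = -1 := by
      show (Pi.mulSingle a (-1 : ℤˣ) * Pi.mulSingle c (-1 : ℤˣ) : ι → ℤˣ) a = -1
      simp [hca.symm]
    have eb : ε b = 1 := by
      show (Pi.mulSingle a (-1 : ℤˣ) * Pi.mulSingle c (-1 : ℤˣ) : ι → ℤˣ) b = 1
      simp [hab.symm, hcb.symm]
    rw [ea, eb] at h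
    have h' : 2 * Z a b = 0 := by
      push_cast at h
      linear_combination h
    rcases mul_eq_zero.mp h' with h | h
    · exact absurd h h2
    · exact h
  have hdiag : ∀ a b : ι, a ≠ b → Z a a = Z b b := by
    intro a b hab
    obtain ⟨c, hca, hcb⟩ := exists_third h3 a b
    have h := congrFun (congrFun (hp a b c hab hcb.symm hca.symm) a) b
    have hperm : ∀ σ : Equiv.Perm ι, σ.permMatrix F = σ.toPEquiv.toMatrix := fun σ => rfl
    rw [hperm, PEquiv.mul_toMatrix_toPEquiv, PEquiv.toMatrix_toPEquiv_mul, Matrix.submatrix_apply,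
      Matrix.submatrix_apply] at h
    simp only [id] at h
    have e1 : (Equiv.swap b c * Equiv.swap a b * Equiv.swap b c * Equiv.swap a b) a = b := by
      simp only [Equiv.Perm.mul_apply, Equiv.swap_apply_left, Equiv.swap_apply_right,
        Equiv.swap_apply_of_ne_of_ne hca hcb]
    have e2 : (Equiv.swap b c * Equiv.swap a b * Equiv.swap b c * Equiv.swap a b).symm b = a := by
      rw [Equiv.symm_apply_eq]
      exact e1.symm
    rw [e1, e2] at h
    exact h
  by_cases hne : Nonempty ι
  · obtain ⟨a₀⟩ := hne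
    refine ⟨Z a₀ a₀, ?_⟩
    ext i j
    rw [Matrix.smul_apply, Matrix.one_apply]
    by_cases hij : i = j
    · subst hij
      rw [if_pos rfl, smul_eq_mul, mul_one]
      by_cases h : i = a₀
      · rw [h]
      · exact hdiag i a₀ h
    · rw [if_neg hij, smul_zero]
      exact hoff i j hij
  · exfalso
    have : Fintype.card ι = 0 := Fintype.card_eq_zero_iff.mpr ⟨fun i => hne ⟨i⟩⟩
    omega

/-- the centre of `Ω(Q)` consists of scalar matrices, when `Q` is carried to a constant diagonal form in
dimension at least 3 -/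
theorem center_Omega_scalar {ι : Type} [Fintype ι] [DecidableEq ι] {F : Type*} [Field F] (h2 : (2 : F) ≠ 0)
    (Q : (ι → F) → F) (c : F) (hc : c ≠ 0) (hQ : Unif Q (fun _ => c)) (h3 : 3 ≤ Fintype.card ι)
    (z : Cfsg.Omega F Q) (hz : z ∈ Subgroup.center (Cfsg.Omega F Q)) :
    ∃ lam : F, (((z : Cfsg.isometryGroup F Q) : GL ι F) : Matrix ι ι F) = lam • (1 : Matrix ι ι F) := by
  obtain ⟨P, hP⟩ := hQ
  have hunit := isUnit_of_unif h2 Q P _ (fun _ => hc) hP
  have hP' : ∀ y, Q ((hunit.unit : Matrix ι ι F) *ᵥ y) = diagForm (fun _ : ι => c) y := by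
    intro y
    rw [IsUnit.unit_spec]
    exact hP y
  set U : GL ι F := hunit.unit with hU
  set zm : Matrix ι ι F := (((z : Cfsg.isometryGroup F Q) : GL ι F) : Matrix ι ι F) with hzm
  -- `z` commutes with the conjugates of the elements of `Ω` of the diagonal form
  have hcomm : ∀ x : Cfsg.isometryGroup F (diagForm (fun _ : ι => c)),
      x ∈ commutator (Cfsg.isometryGroup F (diagForm (fun _ : ι => c))) →
      ((U⁻¹ : GL ι F) : Matrix ι ι F) * zm * (U : Matrix ι ι F) * ((x : GL ι F) : Matrix ι ι F)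
        = ((x : GL ι F) : Matrix ι ι F) * (((U⁻¹ : GL ι F) : Matrix ι ι F) * zm * (U : Matrix ι ι F)) := by
    intro x hx
    have hmem := map_commutator_le_commutator (conjIso Q (diagForm (fun _ : ι => c)) U hP') x hx
    have h := Subgroup.mem_center_iff.mp hz ⟨_, hmem⟩
    have h' : (conjIso Q (diagForm (fun _ : ι => c)) U hP' x : GL ι F) * (z : Cfsg.isometryGroup F Q)
        = (z : Cfsg.isometryGroup F Q) * (conjIso Q (diagForm (fun _ : ι => c)) U hP' x : GL ι F) := by
      have := congrArg (fun w : Cfsg.Omega F Q => ((w : Cfsg.isometryGroup F Q) : GL ι F)) h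
      exact this
    have h'' : U * (x : GL ι F) * U⁻¹ * ((z : Cfsg.isometryGroup F Q) : GL ι F)
        = ((z : Cfsg.isometryGroup F Q) : GL ι F) * (U * (x : GL ι F) * U⁻¹) := h'
    have h3' : U⁻¹ * ((z : Cfsg.isometryGroup F Q) : GL ι F) * U * (x : GL ι F)
        = (x : GL ι F) * (U⁻¹ * ((z : Cfsg.isometryGroup F Q) : GL ι F) * U) := by
      calc U⁻¹ * ((z : Cfsg.isometryGroup F Q) : GL ι F) * U * (x : GL ι F)
          = U⁻¹ * (((z : Cfsg.isometryGroup F Q) : GL ι F) * (U * (x : GL ι F) * U⁻¹)) * U := by group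
        _ = U⁻¹ * (U * (x : GL ι F) * U⁻¹ * ((z : Cfsg.isometryGroup F Q) : GL ι F)) * U := by rw [h'']
        _ = (x : GL ι F) * (U⁻¹ * ((z : Cfsg.isometryGroup F Q) : GL ι F) * U) := by group
    have := congrArg (fun w : GL ι F => (w : Matrix ι ι F)) h3'
    simpa using this
  obtain ⟨lam, hlam⟩ := scalar_of_commute h2
    (((U⁻¹ : GL ι F) : Matrix ι ι F) * zm * (U : Matrix ι ι F)) h3
    (by
      intro ε hε
      have hmem := dHomD_mem_commutator (fun _ : ι => c) (id : ι → ι) Function.injective_id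
        (fun _ _ => rfl) ε hε
      have hext : extHom (id : ι → ι) ε = ε := by
        funext i
        exact Function.injective_id.extend_apply ε 1 i
      rw [hext] at hmem
      exact hcomm _ hmem)
    (by
      intro a b c' hab hbc hac
      let s : Cfsg.isometryGroup F (diagForm (fun _ : ι => c)) := ⟨swgl F a b, swgl_mem_diag _ a b rfl⟩
      let t : Cfsg.isometryGroup F (diagForm (fun _ : ι => c)) := ⟨swgl F b c', swgl_mem_diag _ b c' rfl⟩
      have hmem : s * t * s⁻¹ * t⁻¹ ∈ commutator (Cfsg.isometryGroup F (diagForm (fun _ : ι => c))) := by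
        rw [commutator_def]
        exact Subgroup.commutator_mem_commutator (Subgroup.mem_top s) (Subgroup.mem_top t)
      have hmat : (((s * t * s⁻¹ * t⁻¹ : Cfsg.isometryGroup F (diagForm (fun _ : ι => c))) : GL ι F) : Matrix ι ι F)
          = (Equiv.swap b c' * Equiv.swap a b * Equiv.swap b c' * Equiv.swap a b).permMatrix F := by
        show (Equiv.swap a b).permMatrix F * (Equiv.swap b c').permMatrix F * (Equiv.swap a b).permMatrix F
          * (Equiv.swap b c').permMatrix F = _
        simp only [Matrix.permMatrix_mul, Matrix.mul_assoc]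
      have := hcomm _ hmem
      rw [hmat] at this
      exact this)
  refine ⟨lam, ?_⟩
  have hUU : (U : Matrix ι ι F) * ((U⁻¹ : GL ι F) : Matrix ι ι F) = 1 := by
    rw [← Units.val_mul, mul_inv_cancel]
    rfl
  calc zm = ((U : Matrix ι ι F) * ((U⁻¹ : GL ι F) : Matrix ι ι F)) * zm
        * ((U : Matrix ι ι F) * ((U⁻¹ : GL ι F) : Matrix ι ι F)) := by rw [hUU, one_mul, mul_one]
    _ = (U : Matrix ι ι F) * (((U⁻¹ : GL ι F) : Matrix ι ι F) * zm * (U : Matrix ι ι F))
        * ((U⁻¹ : GL ι F) : Matrix ι ι F) := by simp only [Matrix.mul_assoc]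
    _ = lam • (1 : Matrix ι ι F) := by
        rw [hlam, Matrix.mul_smul, Matrix.mul_one, Matrix.smul_mul, hUU]

end Cfsg.Agent.Lib.helper42
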