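import Mathlib
import Cfsg.Prelude.Def_Involutions
import Cfsg.Agent.Lib.helper42.AICDefs
import Cfsg.Agent.Lib.helper42.AIC_A
import Cfsg.Agent.Lib.helper26.StronglyEmbedded
import Cfsg.Agent.Lib.helper1.Fpf

/-!
helper42: S2202 pieces A5, A6, A7, A8, A9, A11, A12.
-/

set_option autoImplicit false

open Cfsg.Agent.Lib.helper42.AIC

namespace Cfsg.Agent.Lib.helper42.AIC

/-- A5 -/
theorem odd_of_cp_np {G : Type*} [Group G] [Finite G] (hA : AIC G) (hnc : NCyc G) (P Q : Sylow 2 G)
    (hPQ : P ≠ Q) {x : G} (hxP : x ∈ CP P) (hxQ : x ∈ NP Q) : Odd (orderOf x) := by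
  obtain ⟨k, m, hm, hn⟩ := Nat.exists_eq_two_pow_mul_odd (orderOf_pos x).ne'
  have hy : (x ^ m) ^ (2 ^ k) = 1 := by
    rw [← pow_mul, mul_comm, ← hn, pow_orderOf_eq_one]
  have hyP : x ^ m ∈ (P : Subgroup G) := mem_of_np P (cp_le_np P (pow_mem hxP m)) k hy
  have hyQ : x ^ m ∈ (Q : Subgroup G) := mem_of_np Q (pow_mem hxQ m) k hy
  have hy1 : x ^ m = 1 := by
    by_contra hne
    exact hPQ (sylow_ti hA hnc P Q hyP hyQ hne)
  have hdvd : orderOf x ∣ m := orderOf_dvd_of_pow_eq_one hy1
  exact Odd.of_dvd_nat hm hdvd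

/-- an involution normalizing `P` lies in `P`. -/
theorem inv_mem_of_np {G : Type*} [Group G] [Finite G] (P : Sylow 2 G) {t : G} (ht : orderOf t = 2)
    (htN : t ∈ NP P) : t ∈ (P : Subgroup G) :=
  mem_of_np P htN 1 (by rw [pow_one, ← ht, pow_orderOf_eq_one])

/-- `4 ≤ |P|`, in particular `|P|` is even. -/
theorem even_card_sylow {G : Type*} [Group G] [Finite G] (hnc : NCyc G) (P : Sylow 2 G) :
    Even (Nat.card (P : Subgroup G)) := by
  obtain ⟨k, hk⟩ := IsPGroup.iff_card.1 P.isPGroup'
  rcases k with _ | k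
  · exfalso
    apply hnc P
    have : Subsingleton (P : Subgroup G) := by
      rw [← Finite.card_le_one_iff_subsingleton, hk]
      simp
    exact isCyclic_of_subsingleton
  · rw [hk, pow_succ]
    exact even_two.mul_left _

/-- A6 -/
theorem se_np {G : Type*} [Group G] [Finite G] (hA : AIC G) (hnc : NCyc G) (hnn : NNor G)
    (P : Sylow 2 G) : Cfsg.IsStronglyEmbedded (NP P) := by
  refine ⟨?_, ?_, ?_⟩
  · intro htop
    exact hnn P (Subgroup.normalizer_eq_top_iff.1 htop)
  · have h1 : Nat.card (P : Subgroup G) ∣ Nat.card (NP P) :=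
      Subgroup.card_dvd_of_le Subgroup.le_normalizer
    exact (even_card_sylow hnc P).trans_dvd h1
  · intro g hg
    by_contra hodd
    rw [Nat.not_odd_iff_even] at hodd
    obtain ⟨t, ht⟩ := exists_prime_orderOf_dvd_card'
      (G := ↥(NP P ⊓ (NP P).map (MulAut.conj g).toMonoidHom)) 2 (even_iff_two_dvd.1 hodd)
    have ht2 : orderOf (t : G) = 2 := by rw [Subgroup.orderOf_coe]; exact ht
    have h1 : (t : G) ∈ NP P := (Subgroup.mem_inf.1 t.2).1
    have h2 : g⁻¹ * (t : G) * g ∈ NP P :=
      (Cfsg.Agent.Lib.helper26.SE.mem_map_conj_iff _ g _).1 (Subgroup.mem_inf.1 t.2).2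
    have h3 : (t : G) ∈ (P : Subgroup G) := inv_mem_of_np P ht2 h1
    have h4 : g⁻¹ * (t : G) * g ∈ (P : Subgroup G) :=
      inv_mem_of_np P (by rw [Cfsg.Agent.Lib.helper26.orderOf_conj_eq']; exact ht2) h2
    have h5 : (t : G) ∈ ((g • P : Sylow 2 G) : Subgroup G) := (mem_smul_sylow g P _).2 h4
    have hne : (t : G) ≠ 1 := by
      intro h
      rw [h, orderOf_one] at ht2
      exact absurd ht2 (by norm_num)
    have h6 : P = g • P := sylow_ti hA hnc P (g • P) h3 h5 hne
    exact hg (Sylow.smul_eq_iff_mem_normalizer.1 h6.symm)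

/-- A7 : exactly `q - 1` involutions map `P` to `Q` -/
theorem card_swap {G : Type*} [Group G] [Finite G] (hA : AIC G) (hnc : NCyc G) (hnn : NNor G)
    (P Q : Sylow 2 G) (hPQ : P ≠ Q) :
    Nat.card {i : G // orderOf i = 2 ∧ i • P = Q} =
      Nat.card {t : G // orderOf t = 2 ∧ t ∈ (P : Subgroup G)} := by
  obtain ⟨g, hg⟩ := MulAction.exists_smul_eq G P Q
  have h := Cfsg.Agent.Lib.helper26.SE.card_coset_eq (se_np hA hnc hnn P) g
  have e1 : Nat.card {i : G // orderOf i = 2 ∧ i • P = Q} =
      Nat.card {i : G // orderOf i = 2 ∧ g⁻¹ * i ∈ NP P} := by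
    apply Nat.card_congr
    apply Equiv.subtypeEquivRight
    intro i
    apply and_congr_right
    intro _
    constructor
    · intro h
      apply Sylow.smul_eq_iff_mem_normalizer.1
      rw [mul_smul, h, ← hg, inv_smul_smul]
    · intro h
      have h' : (g⁻¹ * i) • P = P := Sylow.smul_eq_iff_mem_normalizer.2 h
      calc i • P = g • ((g⁻¹ * i) • P) := by rw [← mul_smul, mul_inv_cancel_left]
        _ = Q := by rw [h', hg]
  have e2 : Nat.card {t : G // orderOf t = 2 ∧ t ∈ NP P} =
      Nat.card {t : G // orderOf t = 2 ∧ t ∈ (P : Subgroup G)} := by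
    apply Nat.card_congr
    apply Equiv.subtypeEquivRight
    intro t
    constructor
    · rintro ⟨h1, h2⟩
      exact ⟨h1, inv_mem_of_np P h1 h2⟩
    · rintro ⟨h1, h2⟩
      exact ⟨h1, Subgroup.le_normalizer h2⟩
  rw [e1, h, e2]

/-- A11 : two distinct commuting involutions in every Sylow 2-subgroup -/
theorem exists_two_inv {G : Type*} [Group G] [Finite G] (hA : AIC G) (hnc : NCyc G) (P : Sylow 2 G) :
    ∃ s t : G, s ∈ (P : Subgroup G) ∧ t ∈ (P : Subgroup G) ∧ orderOf s = 2 ∧ orderOf t = 2 ∧
      s ≠ t ∧ s * t = t * s := by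
  classical
  by_contra hcon
  push Not at hcon
  apply hnc P
  apply Cfsg.Agent.Lib.helper1.isCyclic_of_comm_of_card_pow_prime_le
  · intro a b
    exact Subtype.ext (sylow_comm hA hnc P a.1 a.2 b.1 b.2)
  · intro p hp
    haveI : Fact p.Prime := ⟨hp⟩
    have hord : ∀ a : (P : Subgroup G), a ^ p = 1 → a ≠ 1 → orderOf (a : G) = 2 := by
      intro a ha ha1
      obtain ⟨k, hk⟩ := (IsPGroup.iff_orderOf.1 P.isPGroup') a
      have h1 : orderOf a = p := orderOf_eq_prime ha ha1
      have h2 : p = 2 := by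
        rw [h1] at hk
        have : p ∣ 2 ^ k := by rw [← hk]
        exact (Nat.prime_dvd_prime_iff_eq hp Nat.prime_two).1 (hp.dvd_of_dvd_pow this)
      rw [Subgroup.orderOf_coe, h1, h2]
    have hsub : ∀ a b : {a : (P : Subgroup G) // a ^ p = 1}, a.1 ≠ 1 → b.1 ≠ 1 → a = b := by
      intro a b ha hb
      have hoa := hord a.1 a.2 ha
      have hob := hord b.1 b.2 hb
      by_contra hne
      have hne' : (a.1 : G) ≠ (b.1 : G) := fun h => hne (Subtype.ext (Subtype.ext h))
      exact hcon _ _ a.1.2 b.1.2 hoa hob hne' (sylow_comm hA hnc P _ a.1.2 _ b.1.2)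
    let f : {a : (P : Subgroup G) // a ^ p = 1} → Bool := fun a => decide (a.1 = 1)
    have hinj : Function.Injective f := by
      intro a b hab
      by_cases ha : a.1 = 1
      · have hb : b.1 = 1 := by
          have h1 : f a = true := by simp [f, ha]
          rw [hab] at h1
          simpa [f] using h1
        exact Subtype.ext (ha.trans hb.symm)
      · have hb : b.1 ≠ 1 := by
          intro hb
          have h1 : f b = true := by simp [f, hb]
          rw [← hab] at h1
          exact ha (by simpa [f] using h1)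
        exact hsub a b ha hb
    have hle : Nat.card {a : (P : Subgroup G) // a ^ p = 1} ≤ 2 := by
      have := Nat.card_le_card_of_injective f hinj
      simpa using this
    exact hle.trans hp.two_le

/-- A12 -/
theorem three_le_inv {G : Type*} [Group G] [Finite G] (hA : AIC G) (hnc : NCyc G) (P : Sylow 2 G) :
    3 ≤ Nat.card {t : G // orderOf t = 2 ∧ t ∈ (P : Subgroup G)} := by
  classical
  obtain ⟨s, t, hs, ht, hs2, ht2, hst, hc⟩ := exists_two_inv hA hnc P
  have hst2 : orderOf (s * t) = 2 := by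
    have hs' : s * s = 1 := by rw [← pow_two, ← hs2, pow_orderOf_eq_one]
    have ht' : t * t = 1 := by rw [← pow_two, ← ht2, pow_orderOf_eq_one]
    apply orderOf_eq_prime
    · rw [pow_two]
      calc s * t * (s * t) = s * (t * s) * t := by group
        _ = s * (s * t) * t := by rw [hc]
        _ = (s * s) * (t * t) := by group
        _ = 1 := by rw [hs', ht', one_mul]
    · intro h
      apply hst
      calc s = s * (t * t) := by rw [ht', mul_one]
        _ = (s * t) * t := by group
        _ = t := by rw [h, one_mul]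
  let a : {t : G // orderOf t = 2 ∧ t ∈ (P : Subgroup G)} := ⟨s, hs2, hs⟩
  let b : {t : G // orderOf t = 2 ∧ t ∈ (P : Subgroup G)} := ⟨t, ht2, ht⟩
  let c : {t : G // orderOf t = 2 ∧ t ∈ (P : Subgroup G)} := ⟨s * t, hst2, mul_mem hs ht⟩
  have hab : a ≠ b := fun h => hst (congrArg Subtype.val h)
  have hac : a ≠ c := by
    intro h
    have h' : s = s * t := congrArg Subtype.val h
    have : t = 1 := by
      have := mul_left_cancel (a := s) (b := 1) (c := t) (by rw [mul_one]; exact h')
      exact this.symm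
    rw [this, orderOf_one] at ht2
    exact absurd ht2 (by norm_num)
  have hbc : b ≠ c := by
    intro h
    have h' : t = s * t := congrArg Subtype.val h
    have : s = 1 := by
      have := mul_right_cancel (a := 1) (b := t) (c := s) (by rw [one_mul]; exact h')
      exact this.symm
    rw [this, orderOf_one] at hs2
    exact absurd hs2 (by norm_num)
  let f : Fin 3 → {t : G // orderOf t = 2 ∧ t ∈ (P : Subgroup G)} := ![a, b, c]
  have hinj : Function.Injective f := by
    intro i j hij
    fin_cases i <;> fin_cases j <;> simp [f] at hij ⊢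
    · exact hab hij
    · exact hac hij
    · exact hab hij.symm
    · exact hbc hij
    · exact hac hij.symm
    · exact hbc hij.symm
  have := Nat.card_le_card_of_injective f hinj
  simpa using this

end Cfsg.Agent.Lib.helper42.AIC
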