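import Cfsg.Agent.Lib.helper5.Dihedral

/-!
Recognition of the dihedral group of order 8: a group of order 8 containing an involution that is not central.
-/

set_option autoImplicit false

namespace Cfsg.Agent.Lib.helper42

open Cfsg.Agent.Lib.helper5

theorem nonempty_mulEquiv_dihedral_of_involutions {G : Type*} [Group G] (a b : G) (ha : a * a = 1)
    (hb : b * b = 1) (ha1 : a ≠ 1) (hb1 : b ≠ 1) (n : ℕ) (hn : orderOf (a * b) = n)
    (hcard : Nat.card G = 2 * n) (hn0 : n ≠ 0) : Nonempty (G ≃* DihedralGroup n) := by
  subst hn
  have : Finite G := Nat.finite_of_card_ne_zero (by omega)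
  have hinj := dihedralHom_injective a b ha hb ha1 hb1
  have hbij := hinj.bijective_of_nat_card_le (by rw [hcard, DihedralGroup.nat_card])
  exact ⟨(MulEquiv.ofBijective _ hbij).symm⟩

theorem orderOf_cases_of_card_eight {G : Type*} [Group G] (hG : Nat.card G = 8) (x : G) :
    orderOf x = 1 ∨ orderOf x = 2 ∨ orderOf x = 4 ∨ orderOf x = 8 := by
  have h := orderOf_dvd_natCard x
  rw [hG] at h
  have h8 : (8 : ℕ) = 2 ^ 3 := by norm_num
  rw [h8] at h
  obtain ⟨m, hm, hx⟩ := (Nat.dvd_prime_pow Nat.prime_two).mp h
  interval_cases m
  · left; simpa using hx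
  · right; left; simpa using hx
  · right; right; left; simpa using hx
  · right; right; right; simpa using hx

theorem orderOf_ne_eight_of_not_comm {G : Type*} [Group G] (hG : Nat.card G = 8) (a σ : G)
    (hcomm : a * σ ≠ σ * a) (x : G) : orderOf x ≠ 8 := by
  intro hx
  have : Finite G := Nat.finite_of_card_ne_zero (by omega)
  have hcyc : IsCyclic G := isCyclic_of_orderOf_eq_card x (by rw [hx, hG])
  obtain ⟨g, hg⟩ := IsCyclic.exists_generator (α := G)
  obtain ⟨m, rfl⟩ := Subgroup.mem_zpowers_iff.mp (hg a)
  obtain ⟨n, rfl⟩ := Subgroup.mem_zpowers_iff.mp (hg σ)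
  exact hcomm (zpow_mul_comm g m n)

/-- two non-commuting involutions in a group of order 8 -/
theorem nonempty_mulEquiv_dihedral_of_card_eight_aux {G : Type*} [Group G] (hG : Nat.card G = 8)
    (a b : G) (ha : a * a = 1) (hb : b * b = 1) (hcomm : a * b ≠ b * a) :
    Nonempty (G ≃* DihedralGroup 4) := by
  have ha1 : a ≠ 1 := by
    rintro rfl
    exact hcomm (by rw [one_mul, mul_one])
  have hb1 : b ≠ 1 := by
    rintro rfl
    exact hcomm (by rw [one_mul, mul_one])
  have hainv : a⁻¹ = a := inv_eq_of_mul_eq_one_left ha
  have hbinv : b⁻¹ = b := inv_eq_of_mul_eq_one_left hb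
  have hsq : (a * b) * (a * b) ≠ 1 := by
    intro h
    apply hcomm
    have h1 : a * b = (a * b)⁻¹ := (inv_eq_of_mul_eq_one_left h).symm
    rw [mul_inv_rev, hainv, hbinv] at h1
    exact h1
  have h4 : orderOf (a * b) = 4 := by
    rcases orderOf_cases_of_card_eight hG (a * b) with h | h | h | h
    · exfalso
      rw [orderOf_eq_one_iff] at h
      exact hsq (by rw [h, one_mul])
    · exfalso
      have := pow_orderOf_eq_one (a * b)
      rw [h, pow_two] at this
      exact hsq this
    · exact h
    · exact absurd h (orderOf_ne_eight_of_not_comm hG a b hcomm _)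
  exact nonempty_mulEquiv_dihedral_of_involutions a b ha hb ha1 hb1 4 h4 (by rw [hG]) (by norm_num)

/-- a group of order 8 with an involution `a` and an element `σ` not commuting with `a` is dihedral -/
theorem nonempty_mulEquiv_dihedral_of_card_eight {G : Type*} [Group G] (hG : Nat.card G = 8)
    (a σ : G) (ha : a * a = 1) (hcomm : a * σ ≠ σ * a) : Nonempty (G ≃* DihedralGroup 4) := by
  have hainv : a⁻¹ = a := inv_eq_of_mul_eq_one_left ha
  by_cases hσ : σ * σ = 1
  · exact nonempty_mulEquiv_dihedral_of_card_eight_aux hG a σ ha hσ hcomm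
  · -- `σ` has order 4 and is inverted by `a`
    have hσ4 : orderOf σ = 4 := by
      rcases orderOf_cases_of_card_eight hG σ with h | h | h | h
      · exfalso
        rw [orderOf_eq_one_iff] at h
        exact hσ (by rw [h, one_mul])
      · exfalso
        have := pow_orderOf_eq_one σ
        rw [h, pow_two] at this
        exact hσ this
      · exact h
      · exact absurd h (orderOf_ne_eight_of_not_comm hG a σ hcomm _)
    have hσpow : σ ^ 4 = 1 := by
      rw [← hσ4]
      exact pow_orderOf_eq_one σ
    have hcardH : Nat.card (Subgroup.zpowers σ) = 4 := by rw [Nat.card_zpowers, hσ4]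
    have hidx : (Subgroup.zpowers σ).index = 2 := by
      have := Subgroup.card_mul_index (Subgroup.zpowers σ)
      rw [hcardH, hG] at this
      omega
    have hnorm : (Subgroup.zpowers σ).Normal := Subgroup.normal_of_index_eq_two hidx
    have hmem : a * σ * a⁻¹ ∈ Subgroup.zpowers σ := hnorm.conj_mem σ (Subgroup.mem_zpowers σ) a
    obtain ⟨k, hk⟩ := Subgroup.mem_zpowers_iff.mp hmem
    have hk' : σ ^ (k % 4) = a * σ * a⁻¹ := by
      rw [← hk]
      have := zpow_mod_orderOf σ k
      rw [hσ4] at this
      exact_mod_cast this
    have h0 := Int.emod_nonneg k (by norm_num : (4 : ℤ) ≠ 0)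
    have h4 := Int.emod_lt_of_pos k (by norm_num : (0 : ℤ) < 4)
    have hcase : a * σ * a⁻¹ = σ ^ 3 := by
      generalize k % 4 = j at hk' h0 h4
      interval_cases j
      · exfalso
        rw [zpow_zero] at hk'
        have : σ = 1 := by
          have h1 : a * σ = a := by
            have := congrArg (· * a) hk'
            simpa using this.symm
          exact mul_left_cancel (a := a) (by rw [h1, mul_one])
        exact hσ (by rw [this, one_mul])
      · exfalso
        rw [zpow_one] at hk'
        apply hcomm
        have := congrArg (· * a) hk'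
        simpa using this.symm
      · exfalso
        have hk2 : σ ^ 2 = a * σ * a⁻¹ := by exact_mod_cast hk'
        have h1 : (a * σ * a⁻¹) * (a * σ * a⁻¹) = 1 := by
          rw [← hk2, ← pow_add]
          exact hσpow
        have h2 : a * (σ * σ) * a⁻¹ = 1 := by
          rw [← h1]
          group
        apply hσ
        have h3 : a * (σ * σ) = a := by
          have := congrArg (· * a) h2
          simpa using this
        exact mul_left_cancel (a := a) (by rw [h3, mul_one])
      · exact_mod_cast hk'.symm
    have hb : (σ * a) * (σ * a) = 1 := by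
      have : (σ * a) * (σ * a) = σ * (a * σ * a⁻¹) := by
        rw [hainv]
        group
      rw [this, hcase, ← pow_succ', hσpow]
    have hcomm' : a * (σ * a) ≠ (σ * a) * a := by
      intro h
      apply hcomm
      rw [mul_assoc σ a a, ha, mul_one] at h
      have := congrArg (· * a) h
      simp only [mul_assoc, ha, mul_one] at this
      exact this
    exact nonempty_mulEquiv_dihedral_of_card_eight_aux hG a (σ * a) ha hb hcomm'

end Cfsg.Agent.Lib.helper42
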