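import Mathlib
import Cfsg.Agent.Lib.helper21.M11Defs
import Cfsg.Agent.Lib.helper81.Kernel

/-!
# S4429 piece D: a nontrivial irreducible character of a simple group is faithful
-/

set_option autoImplicit false

namespace Cfsg.Agent.Lib.helper42

open Cfsg Cfsg.Agent.Lib.helper4 Cfsg.Agent.Lib.helper21

universe u

/-- A nontrivial irreducible character of a simple group takes the value `ψ 1` only at `1`. -/
theorem irr_apply_ne_degree_of_simple {G : Type u} [Group G] [Fintype G] [IsSimpleGroup G]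
    (hnp : ¬ (Nat.card G).Prime) (ψ : IrrCharacter G) (hψ : ψ ≠ trivIrr G) (x : G)
    (hx : x ≠ 1) : (ψ : G → ℂ) x ≠ (ψ : G → ℂ) 1 := by
  intro h
  have hchar : IsCharacter G (ψ : G → ℂ) :=
    Cfsg.Agent.Lib.helper4.isCharacter_of_isIrrCharacter ψ.2
  obtain ⟨K, hKn, hK⟩ := Cfsg.Agent.Lib.helper82.exists_ker_of_isCharacter hchar
  rcases hKn.eq_bot_or_eq_top with h0 | h1
  · have hxK : x ∈ K := (hK x).mpr h
    rw [h0] at hxK
    exact hx (Subgroup.mem_bot.mp hxK)
  · have hne : ψ ≠ Cfsg.Agent.Lib.helper81.trivChar G := by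
      intro he
      apply hψ
      rw [he]
      rfl
    obtain ⟨g, hg⟩ := Cfsg.Agent.Lib.helper81.irr_exists_ne_of_ne_triv ψ hne
    exact hg ((hK g).mp (h1 ▸ Subgroup.mem_top g))

end Cfsg.Agent.Lib.helper42
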