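import Mathlib
import Cfsg.Agent.Lib.helper21.M11Defs
import Cfsg.Agent.S0840

/-!
# S4429 piece CL: class multiplication constants, with centralizer orders
-/

set_option autoImplicit false

namespace Cfsg.Agent.Lib.helper42

open Cfsg Cfsg.Agent.Lib.helper4 Cfsg.Agent.Lib.helper21

universe u

theorem card_isConj_mul_card_centralizer {G : Type u} [Group G] [Finite G] (a : G) :
    Nat.card {x : G // IsConj a x} * Nat.card (Subgroup.centralizer ({a} : Set G)) =
      Nat.card G := by
  rw [← Cfsg.Agent.Lib.helper83.card_conj_mul_card_centralizer a]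
  congr 1
  exact Nat.card_congr (Equiv.subtypeEquivRight fun x => isConj_comm)

/-- Class multiplication constants (S0840) with centralizer orders and a `Finset` sum. -/
theorem class_count_mul {G : Type u} [Group G] [Fintype G] [Fintype (IrrCharacter G)]
    (a b c : G) :
    ∃ N : ℕ, (N : ℂ) * (Nat.card (Subgroup.centralizer ({a} : Set G)) : ℂ) *
        (Nat.card (Subgroup.centralizer ({b} : Set G)) : ℂ) =
      (Nat.card G : ℂ) * ∑ χ : IrrCharacter G,
        (χ : G → ℂ) a * (χ : G → ℂ) b * (starRingEnd ℂ) ((χ : G → ℂ) c) / (χ : G → ℂ) 1 ∧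
      (N = 0 ↔ ¬ ∃ u v : G, IsConj a u ∧ IsConj b v ∧ u * v = c) := by
  classical
  refine ⟨Nat.card {p : G × G // IsConj a p.1 ∧ IsConj b p.2 ∧ p.1 * p.2 = c}, ?_, ?_⟩
  · have h := Cfsg.Agent.S0840.result a b c
    rw [finsum_eq_sum_of_fintype] at h
    rw [h]
    have ha : (Nat.card {x : G // IsConj a x} : ℂ) *
        (Nat.card (Subgroup.centralizer ({a} : Set G)) : ℂ) = (Nat.card G : ℂ) := by
      rw [← Nat.cast_mul, card_isConj_mul_card_centralizer]
    have hb : (Nat.card {x : G // IsConj b x} : ℂ) *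
        (Nat.card (Subgroup.centralizer ({b} : Set G)) : ℂ) = (Nat.card G : ℂ) := by
      rw [← Nat.cast_mul, card_isConj_mul_card_centralizer]
    have hG : (Nat.card G : ℂ) ≠ 0 := by
      have : 0 < Nat.card G := Nat.card_pos
      exact_mod_cast this.ne'
    set S : ℂ := ∑ χ : IrrCharacter G,
        (χ : G → ℂ) a * (χ : G → ℂ) b * (starRingEnd ℂ) ((χ : G → ℂ) c) / (χ : G → ℂ) 1 with hS
    have e : (Nat.card {x : G // IsConj a x} : ℂ) * (Nat.card {x : G // IsConj b x} : ℂ) /
        (Nat.card G : ℂ) * S * (Nat.card (Subgroup.centralizer ({a} : Set G)) : ℂ) *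
        (Nat.card (Subgroup.centralizer ({b} : Set G)) : ℂ)
        = ((Nat.card {x : G // IsConj a x} : ℂ) *
            (Nat.card (Subgroup.centralizer ({a} : Set G)) : ℂ)) *
          ((Nat.card {x : G // IsConj b x} : ℂ) *
            (Nat.card (Subgroup.centralizer ({b} : Set G)) : ℂ)) / (Nat.card G : ℂ) * S := by
      ring
    rw [e, ha, hb]
    field_simp
  · rw [Nat.card_eq_zero]
    constructor
    · rintro (h | h)
      · rintro ⟨u, v, hu, hv, huv⟩
        exact h.false ⟨(u, v), hu, hv, huv⟩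
      · exact absurd (Finite.of_fintype _) (by simpa using h)
    · intro h
      left
      constructor
      rintro ⟨⟨u, v⟩, hu, hv, huv⟩
      exact h ⟨u, v, hu, hv, huv⟩

end Cfsg.Agent.Lib.helper42
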