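import Mathlib
import Cfsg.Prelude.Def_Involutions
import Cfsg.Agent.Lib.helper42.AICDefs
import Cfsg.Agent.Lib.helper42.AIC_A
import Cfsg.Agent.Lib.helper42.AIC_A2
import Cfsg.Agent.Lib.helper26.StronglyEmbedded

/-!
helper42: S2202 pieces A8 (card_np), A9 (card_cp).
-/

set_option autoImplicit false

open Cfsg.Agent.Lib.helper42.AIC

namespace Cfsg.Agent.Lib.helper42.AIC

/-- A8 -/
theorem card_np {G : Type*} [Group G] [Finite G] (hA : AIC G) (hnc : NCyc G) (hnn : NNor G)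
    (P : Sylow 2 G) :
    Nat.card (NP P) =
      Nat.card {t : G // orderOf t = 2 ∧ t ∈ (P : Subgroup G)} * Nat.card (CP P) := by
  classical
  have hSE := se_np hA hnc hnn P
  obtain ⟨t₀, -, ht₀P, -, ht₀, -⟩ := exists_two_inv hA hnc P
  have hcent : Subgroup.centralizer ({t₀} : Set G) = CP P := cent_eq hA hnc P ht₀ ht₀P
  have hex : ∀ t : {t : G // orderOf t = 2 ∧ t ∈ (P : Subgroup G)},
      ∃ c : G, c ∈ NP P ∧ c * t₀ * c⁻¹ = t.1 := by
    intro t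
    obtain ⟨c, hc⟩ := Cfsg.Agent.Lib.helper26.SE.exists_conj_involutions hSE ht₀ t.2.1
    refine ⟨c, ?_, hc⟩
    apply Cfsg.Agent.Lib.helper26.SE.mem_of_conj_mem' hSE ht₀ (Subgroup.le_normalizer ht₀P)
    rw [hc]
    exact Subgroup.le_normalizer t.2.2
  choose c hcN hc using hex
  have hz : ∀ z : G, z ∈ CP P → z * t₀ * z⁻¹ = t₀ := by
    intro z hz
    rw [← hcent, Subgroup.mem_centralizer_singleton_iff] at hz
    rw [hz, mul_inv_cancel_right]
  rw [← Nat.card_prod]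
  symm
  apply Nat.card_congr
  refine Equiv.ofBijective
    (fun p => ⟨c p.1 * p.2.1, (NP P).mul_mem (hcN p.1) (cp_le_np P p.2.2)⟩) ⟨?_, ?_⟩
  · rintro ⟨t, z⟩ ⟨t', z'⟩ h
    have h' : c t * z.1 = c t' * z'.1 := congrArg Subtype.val h
    have key : ∀ (t : {t : G // orderOf t = 2 ∧ t ∈ (P : Subgroup G)}) (z : CP P),
        (c t * z.1) * t₀ * (c t * z.1)⁻¹ = t.1 := by
      intro t z
      calc (c t * z.1) * t₀ * (c t * z.1)⁻¹ = c t * (z.1 * t₀ * z.1⁻¹) * (c t)⁻¹ := by group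
        _ = t.1 := by rw [hz z.1 z.2, hc t]
    have ht : t = t' := by
      apply Subtype.ext
      rw [← key t z, ← key t' z', h']
    subst ht
    have hzz : z = z' := Subtype.ext (mul_left_cancel h')
    rw [hzz]
  · rintro ⟨h, hh⟩
    have hmem : h * t₀ * h⁻¹ ∈ (P : Subgroup G) :=
      (Subgroup.mem_normalizer_iff.1 hh t₀).1 ht₀P
    let t : {t : G // orderOf t = 2 ∧ t ∈ (P : Subgroup G)} :=
      ⟨h * t₀ * h⁻¹, by rw [Cfsg.Agent.Lib.helper26.orderOf_conj_eq]; exact ht₀, hmem⟩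
    have hzc : (c t)⁻¹ * h ∈ CP P := by
      rw [← hcent, Subgroup.mem_centralizer_singleton_iff]
      have e : c t * t₀ * (c t)⁻¹ = h * t₀ * h⁻¹ := hc t
      calc (c t)⁻¹ * h * t₀ = (c t)⁻¹ * (h * t₀ * h⁻¹) * h := by group
        _ = (c t)⁻¹ * (c t * t₀ * (c t)⁻¹) * h := by rw [e]
        _ = t₀ * ((c t)⁻¹ * h) := by group
    refine ⟨(t, ⟨(c t)⁻¹ * h, hzc⟩), ?_⟩
    apply Subtype.ext
    show c t * ((c t)⁻¹ * h) = h
    rw [mul_inv_cancel_left]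

/-- A9 -/
theorem card_cp {G : Type*} [Group G] [Finite G] (hA : AIC G) (hnc : NCyc G) (P : Sylow 2 G) :
    Nat.card (CP P) =
      Nat.card (P : Subgroup G) * Nat.card {x : G // Odd (orderOf x) ∧ x ∈ CP P} := by
  classical
  have hcomm := cp_comm hA hnc P
  have hPC := sylow_le_cp hA hnc P
  rw [← Nat.card_prod]
  symm
  apply Nat.card_congr
  refine Equiv.ofBijective
    (fun p => ⟨p.1.1 * p.2.1, (CP P).mul_mem (hPC p.1.2) p.2.2.2⟩) ⟨?_, ?_⟩
  · rintro ⟨p, k⟩ ⟨p', k'⟩ h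
    have h' : p.1 * k.1 = p'.1 * k'.1 := congrArg Subtype.val h
    have hy : p'.1⁻¹ * p.1 = k'.1 * k.1⁻¹ := by
      calc p'.1⁻¹ * p.1 = p'.1⁻¹ * (p.1 * k.1) * k.1⁻¹ := by group
        _ = p'.1⁻¹ * (p'.1 * k'.1) * k.1⁻¹ := by rw [h']
        _ = k'.1 * k.1⁻¹ := by group
    have hyP : p'.1⁻¹ * p.1 ∈ (P : Subgroup G) := mul_mem (inv_mem p'.2) p.2
    have hodd : Odd (orderOf (p'.1⁻¹ * p.1)) := by
      rw [hy]
      have hc : Commute k'.1 k.1⁻¹ := hcomm _ k'.2.2 _ (inv_mem k.2.2)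
      have hd : orderOf (k'.1 * k.1⁻¹) ∣ orderOf k'.1 * orderOf k.1⁻¹ :=
        hc.orderOf_mul_dvd_mul_orderOf
      rw [orderOf_inv] at hd
      exact Odd.of_dvd_nat (k'.2.1.mul k.2.1) hd
    have h1 : p'.1⁻¹ * p.1 = 1 := by
      obtain ⟨j, hj⟩ := (IsPGroup.iff_orderOf.1 P.isPGroup') ⟨_, hyP⟩
      rw [← Subgroup.orderOf_coe] at hj
      simp only at hj
      rw [hj] at hodd
      rcases j with _ | j
      · rw [pow_zero] at hj
        exact orderOf_eq_one_iff.1 hj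
      · exfalso
        rw [pow_succ] at hodd
        exact (Nat.not_even_iff_odd.2 hodd) (even_two.mul_left _)
    have hp : p = p' := by
      apply Subtype.ext
      have := inv_mul_eq_one.1 h1
      exact this.symm
    subst hp
    have hk : k = k' := Subtype.ext (mul_left_cancel h')
    rw [hk]
  · rintro ⟨x, hx⟩
    obtain ⟨k, m, hm, hn⟩ := Nat.exists_eq_two_pow_mul_odd (orderOf_pos x).ne'
    have hcop : IsCoprime (m : ℤ) ((2 ^ k : ℕ) : ℤ) := by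
      rw [Nat.isCoprime_iff_coprime]
      exact (Nat.Coprime.pow_right k (Nat.coprime_two_right.2 hm))
    obtain ⟨a, b, hab⟩ := hcop
    have hy : (x ^ m) ^ (2 ^ k) = 1 := by
      rw [← pow_mul, mul_comm, ← hn, pow_orderOf_eq_one]
    have hyP : x ^ m ∈ (P : Subgroup G) := mem_of_np P (cp_le_np P (pow_mem hx m)) k hy
    have hpP : (x ^ m) ^ a ∈ (P : Subgroup G) := zpow_mem hyP a
    have hkC : (x ^ (2 ^ k)) ^ b ∈ CP P := zpow_mem (pow_mem hx _) b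
    have hko : Odd (orderOf ((x ^ (2 ^ k)) ^ b)) := by
      have h1 : ((x ^ (2 ^ k)) ^ b) ^ m = 1 := by
        rw [← zpow_natCast, ← zpow_mul, mul_comm, zpow_mul, zpow_natCast, ← pow_mul, ← hn,
          pow_orderOf_eq_one, one_zpow]
      exact Odd.of_dvd_nat hm (orderOf_dvd_of_pow_eq_one h1)
    refine ⟨(⟨(x ^ m) ^ a, hpP⟩, ⟨(x ^ (2 ^ k)) ^ b, hko, hkC⟩), ?_⟩
    apply Subtype.ext
    show (x ^ m) ^ a * (x ^ (2 ^ k)) ^ b = x
    rw [← zpow_natCast, ← zpow_natCast, ← zpow_mul, ← zpow_mul, ← zpow_add]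
    have : (m : ℤ) * a + ((2 ^ k : ℕ) : ℤ) * b = 1 := by
      rw [← hab]; ring
    rw [this, zpow_one]

end Cfsg.Agent.Lib.helper42.AIC
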