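import Mathlib
import Cfsg.Agent.Lib.helper42.AICDefs
import Cfsg.Agent.Lib.helper42.AIC_A
import Cfsg.Agent.Lib.helper42.AIC_A2
import Cfsg.Agent.Lib.helper42.AIC_A3
import Cfsg.Agent.Lib.helper42.AIC_STw
import Cfsg.Agent.Lib.helper4.AIC_KS
import Cfsg.Agent.Lib.helper39.AIC_INVMcore
import Cfsg.Agent.Lib.helper39.AIC_HALLcore
import Cfsg.Agent.Lib.helper39.AIC_SP1core
import Cfsg.Agent.Lib.helper39.AIC_SP2core

/-!
helper42: S2202 pieces INVM (card_inv), HALL (no_hall), SP1 (ksub_central), SP2 (D_comm_keq):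
verbatim wrappers around helper39's cores.
-/

set_option autoImplicit false

open Cfsg.Agent.Lib.helper42.AIC

namespace Cfsg.Agent.Lib.helper42.AIC

/-- INVM : number of involutions -/
theorem card_inv {X : Type*} [Group X] [Finite X] (hA : AIC X) (hnc : NCyc X) (hnn : NNor X)
    (hE : KEq X) (P : Sylow 2 X) :
    Nat.card {t : X // orderOf t = 2} =
      (Nat.card (P : Subgroup X) + 1) * (Nat.card (P : Subgroup X) - 1) := by
  obtain ⟨Z, hZn, hZ⟩ := Cfsg.Agent.Lib.helper4.AIC.exists_ksub hA hnc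
  have := hZn
  have hKS := keq_struct hA hnc hnn hE Z hZ
  exact Cfsg.Agent.Lib.helper39.AIC.h39_card_inv_core
    (fun P Q x hxP hxQ hx => sylow_ti hA hnc P Q hxP hxQ hx) hKS.1 hKS.2.1 P

/-- HALL : no odd subgroup of index `|P|` modulo `Z` (KStruct + A8 + A9 + NOIDX) -/
theorem no_hall {X : Type*} [Group X] [Finite X] (hA : AIC X) (hnc : NCyc X) (hnn : NNor X)
    (hE : KEq X) (Z : Subgroup X) [Z.Normal] (hZ : IsKsub Z) (P : Sylow 2 X) (Y : Subgroup X)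
    (hYodd : Odd (Nat.card Y))
    (hY : (Nat.card (P : Subgroup X) + 1) * (Nat.card (P : Subgroup X) - 1) * Nat.card ↥(Y ⊓ Z) ≤
      Nat.card Y) : False :=
  Cfsg.Agent.Lib.helper39.AIC.h39_no_hall_core hnc hE Z hZ (keq_struct hA hnc hnn hE Z hZ)
    (fun P => card_np hA hnc hnn P) (fun P => card_cp hA hnc P) P Y hYodd hY

/-- SP1 -/
theorem ksub_central {G : Type*} [Group G] [Finite G] (hA : AIC G) (hnc : NCyc G) (hnn : NNor G)
    (hE : KEq G) (Z : Subgroup G) [Z.Normal] (hZ : IsKsub Z) :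
    ∀ z ∈ Z, ∀ g : G, z * g = g * z :=
  Cfsg.Agent.Lib.helper39.AIC.h39_ksub_central_core hnc Z hZ (keq_struct hA hnc hnn hE Z hZ)
    (fun P => cp_comm hA hnc P)

/-- SP2 -/
theorem D_comm_keq {G : Type*} [Group G] [Finite G] (hA : AIC G) (hnc : NCyc G) (hnn : NNor G)
    (hE : KEq G) (Z : Subgroup G) [Z.Normal] (hZ : IsKsub Z) (P Q : Sylow 2 G) (hPQ : P ≠ Q) :
    ∀ d ∈ NP P ⊓ NP Q, ∀ e ∈ NP P ⊓ NP Q, d * e = e * d :=
  Cfsg.Agent.Lib.helper39.AIC.h39_D_comm_core hnc hE Z hZ (keq_struct hA hnc hnn hE Z hZ)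
    (ksub_central hA hnc hnn hE Z hZ) (fun P => sylow_comm hA hnc P)
    (fun P t ht htP => cent_eq hA hnc P ht htP)
    (fun P Q hPQ x hxP hxQ => odd_of_cp_np hA hnc P Q hPQ hxP hxQ) P Q hPQ

end Cfsg.Agent.Lib.helper42.AIC
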