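import Mathlib
import Cfsg.Agent.Lib.helper42.AICDefs
import Cfsg.Agent.Lib.helper42.AIC_A
import Cfsg.Agent.Lib.helper42.AIC_A2
import Cfsg.Agent.Lib.helper42.AIC_A3
import Cfsg.Agent.Lib.helper42.AIC_STw
import Cfsg.Agent.Lib.helper42.AIC_W3
import Cfsg.Agent.Lib.helper69.AIC_SP3core
import Cfsg.Agent.Lib.helper70.AIC_SP4of
import Cfsg.Agent.Lib.helper46.AIC_E3dcore

/-!
helper42: S2202 pieces SP3 (exists_torus), SP4a (bruhat_conj), SP4b (exists_complement),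
E3d (caseA): verbatim wrappers around the cores of helper69, helper70, helper46.
-/

set_option autoImplicit false

open Cfsg.Agent.Lib.helper42.AIC

namespace Cfsg.Agent.Lib.helper42.AIC

/-- SP3 -/
theorem exists_torus {G : Type*} [Group G] [Finite G] (hA : AIC G) (hnc : NCyc G) (hnn : NNor G)
    (hE : KEq G) (Z : Subgroup G) [Z.Normal] (hZ : IsKsub Z) (P Q : Sylow 2 G) (hPQ : P ≠ Q)
    (w : G) (hw : orderOf w = 2) (hwP : w • P = Q) :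
    ∃ T : Subgroup G, T ≤ NP P ⊓ NP Q ∧ T ⊓ Z = ⊥ ∧
      (∀ d ∈ NP P ⊓ NP Q, ∃ t ∈ T, ∃ z ∈ Z, d = t * z) ∧
      (∀ t ∈ T, w * t * w⁻¹ = t⁻¹) ∧
      (∀ d ∈ NP P ⊓ NP Q, w * d * w⁻¹ = d⁻¹ → d ∈ T) :=
  Cfsg.Agent.Lib.helper69.AIC.h69_torus_core Z hZ P Q w (ksub_central hA hnc hnn hE Z hZ)
    (D_comm_keq hA hnc hnn hE Z hZ P Q hPQ)
    ((keq_struct hA hnc hnn hE Z hZ).2.2.2.2.1 P Q hPQ w hw hwP)

/-- SP4a -/
theorem bruhat_conj {G : Type*} [Group G] [Finite G] (hA : AIC G) (hnc : NCyc G) (hnn : NNor G)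
    (hE : KEq G) (Z : Subgroup G) [Z.Normal] (hZ : IsKsub Z) (P Q : Sylow 2 G) (hPQ : P ≠ Q)
    (w : G) (hw : orderOf w = 2) (hwP : w • P = Q) (p : G) (hp : p ∈ (P : Subgroup G))
    (hp1 : p ≠ 1) :
    ∃ s ∈ (P : Subgroup G), ∃ h ∈ NP P ⊓ NP Q, w * h * w⁻¹ = h⁻¹ ∧
      w * p * w⁻¹ = s * h * w * s :=
  Cfsg.Agent.Lib.helper70.AIC.bruhat_conj_of hA hnc hnn hE Z hZ (keq_struct hA hnc hnn hE Z hZ)
    P Q hPQ w hw hwP p hp hp1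

/-- SP4b -/
theorem exists_complement {G : Type*} [Group G] [Finite G] (hA : AIC G) (hnc : NCyc G)
    (hnn : NNor G) (hE : KEq G) (Z : Subgroup G) [Z.Normal] (hZ : IsKsub Z) :
    ∃ L : Subgroup G, L ⊓ Z = ⊥ ∧ L ⊔ Z = ⊤ :=
  Cfsg.Agent.Lib.helper70.AIC.exists_complement_of hA hnc hnn hE Z hZ
    (keq_struct hA hnc hnn hE Z hZ)
    (fun P Q hPQ w hw hwP => exists_torus hA hnc hnn hE Z hZ P Q hPQ w hw hwP)

/-- E3d -/
theorem caseA {G : Type*} [Group G] [Finite G] (hA : AIC G) (hnc : NCyc G) (hnn : NNor G)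
    (hIH : ∀ M : Subgroup G, M ≠ ⊤ → AIC ↥M → NCyc ↥M → KEq ↥M) (hD : Dich G)
    (P Q : Sylow 2 G) (hPQ : P ≠ Q) (z : G) (hz1 : z ≠ 1) (hzo : Odd (orderOf z))
    (hzP : z ∈ CP P) (hzQ : z ∈ CP Q) : KEq G :=
  Cfsg.Agent.Lib.helper46.AIC.caseA_core hA hnc hnn hIH hD
    (fun M hAM hncM hnnM hEM P' => card_inv hAM hncM hnnM hEM P')
    (fun M hAM hncM hnnM hEM Z _ hZ P' Y hYodd hY => no_hall hAM hncM hnnM hEM Z hZ P' Y hYodd hY)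
    P Q hPQ z hz1 hzo hzP hzQ

end Cfsg.Agent.Lib.helper42.AIC
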