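import Mathlib
import Cfsg.Agent.Lib.helper42.AICDefs
import Cfsg.Agent.Lib.helper69.AIC_Z2
import Cfsg.Agent.Lib.helper42.AIC_W4
import Cfsg.Agent.Lib.helper4.AIC_E0a
import Cfsg.Agent.Lib.helper4.AIC_KS
import Cfsg.Agent.Lib.helper5.AIC_QK
import Cfsg.Agent.Lib.helper5.AIC_E0b
import Cfsg.Agent.Lib.helper46.AIC_QB1
import Cfsg.Agent.Lib.helper69.AIC_E2

/-!
helper42: S2202 piece E4 : all the odd parts `K_P` coincide (`KEq G`), by induction on `|G|`.
-/

set_option autoImplicit false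
open Cfsg.Agent.Lib.helper42.AIC

namespace Cfsg.Agent.Lib.helper42.AIC

universe u

theorem keq_all : ∀ (n : ℕ) (G : Type u) [Group G] [Finite G], Nat.card G = n → AIC G → NCyc G →
    KEq G := by
  intro n
  induction n using Nat.strong_induction_on with
  | _ n ih =>
    intro G _ _ hn hA hnc
    by_cases hnn : NNor G
    swap
    · exact Cfsg.Agent.Lib.helper4.AIC.keq_of_not_nnor hnn
    obtain ⟨Z, hZn, hZ⟩ := Cfsg.Agent.Lib.helper4.AIC.exists_ksub hA hnc
    have := hZn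
    have hZo : ∀ z ∈ Z, Odd (orderOf z) := fun z hz => ((hZ z).1 hz).1
    have hZc : ∀ z ∈ Z, ∀ P : Sylow 2 G, z ∈ CP P := fun z hz => ((hZ z).1 hz).2
    by_cases hZ1 : Z = ⊥
    swap
    · have hlt : Nat.card (G ⧸ Z) < n := by
        have h1 : Nat.card G = Nat.card (G ⧸ Z) * Nat.card Z :=
          Subgroup.card_eq_card_quotient_mul_card_subgroup Z
        have h2 : 1 < Nat.card Z := by
          rw [Subgroup.one_lt_card_iff_ne_bot]
          exact hZ1
        have h3 : 0 < Nat.card (G ⧸ Z) := Nat.card_pos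
        rw [← hn, h1]
        nlinarith
      exact Cfsg.Agent.Lib.helper5.AIC.keq_of_quot Z hZo hZc
        (ih _ hlt (G ⧸ Z) rfl (Cfsg.Agent.Lib.helper46.AIC.aic_quot hA Z hZo hZc)
          (Cfsg.Agent.Lib.helper5.AIC.ncyc_quot hnc Z hZo hZc))
    · have hIH : ∀ M : Subgroup G, M ≠ ⊤ → AIC ↥M → NCyc ↥M → KEq ↥M := by
        intro M hM hAM hncM
        have hlt : Nat.card M < n := by
          rw [← hn]
          exact lt_of_le_of_ne (Subgroup.card_le_card_group M)
            (fun h => hM ((Subgroup.card_eq_iff_eq_top M).mp h))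
        exact ih _ hlt ↥M rfl hAM hncM
      have hZ1' : ∀ x : G, Odd (orderOf x) → (∀ P : Sylow 2 G, x ∈ CP P) → x = 1 := by
        intro x hxo hx
        have hxZ : x ∈ Z := (hZ x).2 ⟨hxo, hx⟩
        rw [hZ1] at hxZ
        simpa using hxZ
      have hD : Dich G := by
        rintro P Q ⟨z, hz1, hzo, hzP, hzQ⟩ x hxo hxP
        exact Cfsg.Agent.Lib.helper69.AIC.step1 hA hnc hIH hZ1' P Q z hz1 hzo hzP hzQ x hxo hxP
      by_cases hTI : KTI G
      · exact Cfsg.Agent.Lib.helper5.AIC.keq_of_cith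
          (Cfsg.Agent.Lib.helper69.AIC.cith_of_kti hA hnc hnn hTI) hnc
      · unfold KTI at hTI
        push Not at hTI
        obtain ⟨P, Q, hPQ, x, hxo, hxP, hxQ, hx1⟩ := hTI
        exact caseA hA hnc hnn hIH hD P Q hPQ x hx1 hxo hxP hxQ

end Cfsg.Agent.Lib.helper42.AIC
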