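import Mathlib

/-!
Artin–Schreier in characteristic two over a finite field with `2^f` elements: the partial traces
`t_0 = 0`, `t_{j+1} = t_j² + τ` (so `t_f = τ + τ² + ⋯ + τ^{2^{f-1}}`), and `t_f(τ) = 0` implies `τ = y² + y`.
-/

set_option autoImplicit false

namespace Cfsg.Agent.Lib.helper42

section
variable {F : Type*} [Field F]

/-- partial traces: `tseq τ j = τ + τ² + ⋯ + τ^{2^{j-1}}` in characteristic two -/
def tseq (τ : F) : ℕ → F
  | 0 => 0
  | (j + 1) => (tseq τ j) ^ 2 + τ

theorem tseq_zero (τ : F) : tseq τ 0 = 0 := rfl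

theorem tseq_succ (τ : F) (j : ℕ) : tseq τ (j + 1) = (tseq τ j) ^ 2 + τ := rfl

theorem tseq_zero_left (j : ℕ) : tseq (0 : F) j = 0 := by
  induction j with
  | zero => rfl
  | succ j ih => rw [tseq_succ, ih]; simp

theorem tseq_add (h2 : (2 : F) = 0) (τ₁ τ₂ : F) (j : ℕ) :
    tseq (τ₁ + τ₂) j = tseq τ₁ j + tseq τ₂ j := by
  induction j with
  | zero => simp [tseq_zero]
  | succ j ih =>
    rw [tseq_succ, tseq_succ, tseq_succ, ih]
    linear_combination (tseq τ₁ j * tseq τ₂ j) * h2

theorem tseq_wp (h2 : (2 : F) = 0) (y : F) (j : ℕ) : tseq (y ^ 2 + y) j = y ^ (2 ^ j) + y := by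
  induction j with
  | zero =>
    rw [tseq_zero, pow_zero, pow_one]
    linear_combination (-y) * h2
  | succ j ih =>
    have e : y ^ 2 ^ (j + 1) = (y ^ 2 ^ j) ^ 2 := by rw [pow_succ, pow_mul]
    rw [tseq_succ, ih, e]
    linear_combination (y ^ (2 ^ j) * y + y ^ 2) * h2

/-- the polynomials of the partial traces -/
noncomputable def tpoly (F : Type*) [Field F] : ℕ → Polynomial F
  | 0 => 0
  | (j + 1) => (tpoly F j) ^ 2 + Polynomial.X

theorem tpoly_succ (j : ℕ) : tpoly F (j + 1) = (tpoly F j) ^ 2 + Polynomial.X := rfl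

theorem tpoly_eval (τ : F) (j : ℕ) : (tpoly F j).eval τ = tseq τ j := by
  induction j with
  | zero => simp [tpoly, tseq_zero]
  | succ j ih =>
    rw [tpoly_succ, tseq_succ, Polynomial.eval_add, Polynomial.eval_pow, Polynomial.eval_X, ih]

theorem tpoly_natDegree (j : ℕ) : (tpoly F j).natDegree + 1 ≤ 2 ^ j := by
  induction j with
  | zero => simp [tpoly]
  | succ j ih =>
    rw [tpoly_succ]
    have h1 := Polynomial.natDegree_add_le ((tpoly F j) ^ 2) (Polynomial.X : Polynomial F)
    rw [Polynomial.natDegree_pow, Polynomial.natDegree_X] at h1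
    have h3 : 2 ^ (j + 1) = 2 * 2 ^ j := by ring
    have h4 : 1 ≤ 2 ^ j := Nat.one_le_two_pow
    rcases le_max_iff.mp h1 with h | h <;> omega

theorem tpoly_succ_ne_zero (j : ℕ) : tpoly F (j + 1) ≠ 0 := by
  intro h
  rw [tpoly_succ] at h
  have h1 : (Polynomial.X : Polynomial F) = -(tpoly F j) ^ 2 := by
    linear_combination h
  have h2 := congrArg Polynomial.natDegree h1
  rw [Polynomial.natDegree_X, Polynomial.natDegree_neg, Polynomial.natDegree_pow] at h2
  omega

variable [Fintype F]

/-- the trace is not identically zero -/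
theorem exists_tseq_ne_zero (f : ℕ) (hf : 1 ≤ f) (hF : Fintype.card F = 2 ^ f) :
    ∃ u : F, tseq u f ≠ 0 := by
  by_contra h
  push_neg at h
  obtain ⟨j, rfl⟩ : ∃ j, f = j + 1 := ⟨f - 1, by omega⟩
  apply tpoly_succ_ne_zero (F := F) j
  apply Polynomial.eq_zero_of_natDegree_lt_card_of_eval_eq_zero (tpoly F (j + 1)) (f := id)
    Function.injective_id (fun i => by rw [tpoly_eval]; exact h i)
  have := tpoly_natDegree (F := F) (j + 1)
  rw [hF]
  omega

/-- **Artin–Schreier**: an element of trace zero is of the form `y² + y` -/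
theorem exists_artinSchreier (h2 : (2 : F) = 0) (f : ℕ) (hf : 1 ≤ f) (hF : Fintype.card F = 2 ^ f)
    (τ : F) (hτ : tseq τ f = 0) : ∃ y : F, y ^ 2 + y = τ := by
  let wp : F →+ F :=
    { toFun := fun y => y ^ 2 + y
      map_zero' := by simp
      map_add' := fun x y => by
        show (x + y) ^ 2 + (x + y) = x ^ 2 + x + (y ^ 2 + y)
        linear_combination (x * y) * h2 }
  let T : F →+ F :=
    { toFun := fun t => tseq t f
      map_zero' := tseq_zero_left f
      map_add' := fun x y => tseq_add h2 x y f }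
  have hle : wp.range ≤ T.ker := by
    rintro _ ⟨y, rfl⟩
    rw [AddMonoidHom.mem_ker]
    show tseq (y ^ 2 + y) f = 0
    rw [tseq_wp h2, ← hF, FiniteField.pow_card]
    linear_combination y * h2
  have hker : Nat.card wp.ker = 2 := by
    rw [Nat.card_eq_two_iff]
    refine ⟨⟨0, by rw [AddMonoidHom.mem_ker]; exact map_zero wp⟩,
      ⟨1, by
        rw [AddMonoidHom.mem_ker]
        show (1 : F) ^ 2 + 1 = 0
        linear_combination h2⟩, ?_, ?_⟩
    · intro h
      exact zero_ne_one (congrArg Subtype.val h)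
    · ext ⟨y, hy⟩
      simp only [Set.mem_insert_iff, Set.mem_singleton_iff, Set.mem_univ, iff_true, Subtype.mk.injEq]
      rw [AddMonoidHom.mem_ker] at hy
      have hy' : y ^ 2 + y = 0 := hy
      have h3 : y * (y + 1) = 0 := by linear_combination hy'
      rcases mul_eq_zero.mp h3 with h | h
      · left; exact h
      · right
        linear_combination h - h2
  have hTne : T.ker ≠ ⊤ := by
    obtain ⟨u, hu⟩ := exists_tseq_ne_zero f hf hF
    intro h
    apply hu
    have : u ∈ T.ker := by rw [h]; exact AddSubgroup.mem_top u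
    exact AddMonoidHom.mem_ker.mp this
  have hc1 : Nat.card wp.range * 2 = 2 ^ f := by
    have h := AddSubgroup.card_mul_index wp.ker
    rw [AddSubgroup.index_ker, hker, Nat.card_eq_fintype_card (α := F), hF] at h
    rw [← h, mul_comm]
  have hc2 : Nat.card T.ker * 2 ≤ 2 ^ f := by
    have h := AddSubgroup.card_mul_index T.ker
    rw [Nat.card_eq_fintype_card (α := F), hF] at h
    have hi1 : T.ker.index ≠ 1 := fun h1 => hTne (AddSubgroup.index_eq_one.mp h1)
    have hi0 : T.ker.index ≠ 0 := AddSubgroup.index_ne_zero_of_finite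
    have hi2 : 2 ≤ T.ker.index := by omega
    calc Nat.card T.ker * 2 ≤ Nat.card T.ker * T.ker.index := Nat.mul_le_mul_left _ hi2
      _ = 2 ^ f := h
  have hcard : Nat.card T.ker ≤ Nat.card wp.range := by omega
  have heq : wp.range = T.ker := AddSubgroup.eq_of_le_of_card_ge hle hcard
  have hmem : τ ∈ wp.range := by
    rw [heq, AddMonoidHom.mem_ker]
    exact hτ
  obtain ⟨y, hy⟩ := hmem
  exact ⟨y, hy⟩

end

end Cfsg.Agent.Lib.helper42
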