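import Cfsg.Agent.Lib.helper42.AutImage3
import Cfsg.Agent.Lib.helper42.DihedralEight

/-!
The image of the conformal orthogonal group in `Aut(PΩ(Q))` modulo `Inn(PΩ(Q))`: a Klein four group if
`-1 ∉ Ω(Q)`, dihedral of order 8 if `-1 ∈ Ω(Q)` (odd `q`, even dimension, three hyperbolic pairs, and a
similarity with non-square multiplier).
-/

set_option autoImplicit false
set_option linter.unusedSectionVars false

namespace Cfsg.Agent.Lib.helper42

open Matrix Cfsg Cfsg.Agent.Lib.helper17 Module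
open Cfsg.Agent.Lib.helper49 (detHom spinorSign)

section
variable {ι : Type} [Fintype ι] [DecidableEq ι] {F : Type*} [Field F]

/-- conjugating a reflection by a similarity -/
theorem refl_conj_similarity (Q : QuadraticForm F (ι → F)) (A : Matrix ι ι F) (c : F) (hc : c ≠ 0)
    (hA : ∀ x, Q (A *ᵥ x) = c * Q x) (v : ι → F) :
    A * reflectionMatrix ⇑Q v = reflectionMatrix ⇑Q (A *ᵥ v) * A := by
  apply Cfsg.Agent.Lib.helper91.matrix_eq_of_mulVec
  intro x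
  have hpol : QuadraticMap.polar ⇑Q (A *ᵥ v) (A *ᵥ x) = c * QuadraticMap.polar ⇑Q v x := by
    unfold QuadraticMap.polar
    rw [← Matrix.mulVec_add, hA, hA, hA]
    ring
  rw [← Matrix.mulVec_mulVec, ← Matrix.mulVec_mulVec, reflectionMatrix_mulVec, reflectionMatrix_mulVec,
    Matrix.mulVec_add, Matrix.mulVec_smul, hA, hpol]
  congr 2
  by_cases hv : Q v = 0
  · rw [hv]
    simp
  · field_simp

theorem OmegaGL_le_special (Q : (ι → F) → F) : OmegaGL Q ≤ specialIsometryGL F Q := by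
  intro g hg
  obtain ⟨s, rfl⟩ := (mem_OmegaGL Q g).mp hg
  refine ⟨s.1.2, ?_⟩
  have h := Abelianization.commutator_subset_ker (detHom Q) s.2
  exact h

theorem img_mono (Q : (ι → F) → F) {K L : Subgroup (GL ι F)} (h : K ≤ L) : img Q K ≤ img Q L := by
  intro β hβ
  obtain ⟨g, hg, rfl⟩ := (mem_img _ _ _).mp hβ
  exact (mem_img _ _ _).mpr ⟨g, h hg, rfl⟩

theorem Inn_le_psoAut (Q : (ι → F) → F) : Inn (POmega F Q) ≤ psoAut F Q := by
  rw [Inn_eq, psoAut_eq]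
  exact img_mono Q (OmegaGL_le_special Q)

theorem psoAut_le_pgoAut (Q : (ι → F) → F) : psoAut F Q ≤ pgoAut F Q := by
  rw [pgoAut_eq, psoAut_eq]
  exact img_mono Q (inf_le_left.trans (isometryGroup_le_similarity Q))

/-- `Ψ` with values in the image of the conformal orthogonal group -/
noncomputable def PsiPgo (Q : (ι → F) → F) :
    ↥(Geo.quadSimilarityGroup (F := F) Q) →* ↥(pgoAut F Q) :=
  (PsiAut Q).codRestrict (pgoAut F Q) (fun g => by
    rw [pgoAut_eq]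
    exact (mem_img _ _ _).mpr ⟨g, g.2, rfl⟩)

theorem PsiPgo_val (Q : (ι → F) → F) (g : ↥(Geo.quadSimilarityGroup (F := F) Q)) :
    ((PsiPgo Q g : ↥(pgoAut F Q)) : MulAut (POmega F Q)) = PsiAut Q g := rfl

/-- when `-1 ∈ Ω(Q)`, an isometry induces an inner automorphism iff it lies in `Ω(Q)` -/
theorem PsiO_mem_Inn_iff_mem_Omega (Q : QuadraticForm F (ι → F))
    (hQ : (QuadraticMap.polarBilin Q).Nondegenerate) (fr : HypFrame3 Q) (h5 : 5 ≤ Fintype.card ι)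
    (hneg : ∃ w : ↥(Omega F ⇑Q),
      (((w : ↥(isometryGroup F ⇑Q)) : GL ι F) : Matrix ι ι F) = -1)
    (x : ↥(isometryGroup F ⇑Q)) : PsiO ⇑Q x ∈ Inn (POmega F ⇑Q) ↔ x ∈ Omega F ⇑Q := by
  rw [PsiO_mem_Inn_iff Q hQ fr h5 x]
  constructor
  · rintro ⟨w, hw | hw⟩
    · have : x = w.1 := Subtype.ext (Units.ext hw)
      rw [this]
      exact w.2
    · obtain ⟨n, hn⟩ := hneg
      have : x = (n * w : ↥(Omega F ⇑Q)).1 := Subtype.ext (Units.ext (by
        rw [hw]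
        simp only [Subgroup.coe_mul, Units.val_mul, hn, Matrix.neg_mul, Matrix.one_mul]))
      rw [this]
      exact (n * w).2
  · intro hx
    exact ⟨⟨x, hx⟩, Or.inl rfl⟩

variable [Fintype F]

/-- if `-1 ∉ Ω(Q)`: the image of the conformal orthogonal group modulo `Inn` is a Klein four group -/
theorem pgo_mod_inn_klein (h2 : (2 : F) ≠ 0) (Q : QuadraticForm F (ι → F))
    (hQ : (QuadraticMap.polarBilin Q).Nondegenerate) (fr : HypFrame3 Q) (h5 : 5 ≤ Fintype.card ι)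
    (heven : Even (Fintype.card ι)) (s₀ : GL ι F) (c : Fˣ) (hc : ¬ IsSquare (c : F))
    (hs₀ : ∀ v, Q ((s₀ : Matrix ι ι F) *ᵥ v) = (c : F) * Q v)
    (hneg : ¬ ∃ w : ↥(Omega F ⇑Q),
      (((w : ↥(isometryGroup F ⇑Q)) : GL ι F) : Matrix ι ι F) = -1) :
    ∃ φ : ↥(pgoAut F ⇑Q) →* Multiplicative (ZMod 2 × ZMod 2), Function.Surjective φ ∧
      φ.ker = (Inn (POmega F ⇑Q)).subgroupOf (pgoAut F ⇑Q) := by
  have hEq : Inn (POmega F ⇑Q) = psoAut F ⇑Q :=
    le_antisymm (Inn_le_psoAut _)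
      (Subgroup.relIndex_eq_one.mp (relIndex_Inn_psoAut_one h2 Q hQ fr h5 heven hneg))
  rw [hEq]
  exact pgo_mod_pso_klein h2 Q hQ fr h5 heven s₀ c hc hs₀

/-- if `-1 ∈ Ω(Q)`: the image of the conformal orthogonal group modulo `Inn` is dihedral of order 8 -/
theorem pgo_mod_inn_dihedral (h2 : (2 : F) ≠ 0) (Q : QuadraticForm F (ι → F))
    (hQ : (QuadraticMap.polarBilin Q).Nondegenerate) (fr : HypFrame3 Q) (h5 : 5 ≤ Fintype.card ι)
    (heven : Even (Fintype.card ι)) (s₀ : GL ι F) (c : Fˣ) (hc : ¬ IsSquare (c : F))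
    (hs₀ : ∀ v, Q ((s₀ : Matrix ι ι F) *ᵥ v) = (c : F) * Q v)
    (hneg : ∃ w : ↥(Omega F ⇑Q),
      (((w : ↥(isometryGroup F ⇑Q)) : GL ι F) : Matrix ι ι F) = -1) :
    ∃ φ : ↥(pgoAut F ⇑Q) →* DihedralGroup 4, Function.Surjective φ ∧
      φ.ker = (Inn (POmega F ⇑Q)).subgroupOf (pgoAut F ⇑Q) := by
  -- the order of the quotient
  obtain ⟨φK, hsurjK, hkerK⟩ := pgo_mod_pso_klein h2 Q hQ fr h5 heven s₀ c hc hs₀
  have h4 : (psoAut F ⇑Q).relIndex (pgoAut F ⇑Q) = 4 := by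
    unfold Subgroup.relIndex
    rw [← hkerK, Subgroup.index_ker, MonoidHom.range_eq_top.mpr hsurjK, Subgroup.card_top]
    exact IsKleinFour.card_four
  have h2' := relIndex_Inn_psoAut_two h2 Q hQ fr h5 hneg
  have hcard : Nat.card (↥(pgoAut F ⇑Q) ⧸ (Inn (POmega F ⇑Q)).subgroupOf (pgoAut F ⇑Q)) = 8 := by
    rw [← Subgroup.index_eq_card]
    show (Inn (POmega F ⇑Q)).relIndex (pgoAut F ⇑Q) = 8
    rw [← Subgroup.relIndex_mul_relIndex _ _ _ (Inn_le_psoAut _) (psoAut_le_pgoAut _), h2', h4]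
  -- the two elements
  have hx₁ : Q (fr.e 0 + (1 : F) • fr.f 0) ≠ 0 := fr.Q_x1_ne
  have hQx₁ : Q (fr.e 0 + (1 : F) • fr.f 0) = 1 := fr.Q_add_smul 0 1
  set x₁ : ι → F := fr.e 0 + (1 : F) • fr.f 0 with hx₁def
  have hrmem : ((reflectionIsom Q x₁ hx₁ : ↥(isometryGroup F ⇑Q)) : GL ι F)
      ∈ Geo.quadSimilarityGroup (F := F) ⇑Q :=
    isometryGroup_le_similarity _ (reflectionIsom Q x₁ hx₁).2
  have hsmem : s₀ ∈ Geo.quadSimilarityGroup (F := F) ⇑Q := ⟨c, hs₀⟩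
  have hrr : (⟨_, hrmem⟩ : ↥(Geo.quadSimilarityGroup (F := F) ⇑Q)) * ⟨_, hrmem⟩ = 1 := by
    have h := congrArg (fun z : ↥(isometryGroup F ⇑Q) => (z : GL ι F))
      (reflectionIsom_mul_self Q x₁ hx₁)
    exact Subtype.ext h
  have hsx : Q ((s₀ : Matrix ι ι F) *ᵥ x₁) ≠ 0 := by
    rw [hs₀, hQx₁, mul_one]
    exact Units.ne_zero c
  have ha : (QuotientGroup.mk (PsiPgo ⇑Q ⟨_, hrmem⟩) :
        ↥(pgoAut F ⇑Q) ⧸ (Inn (POmega F ⇑Q)).subgroupOf (pgoAut F ⇑Q))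
      * QuotientGroup.mk (PsiPgo ⇑Q ⟨_, hrmem⟩) = 1 := by
    rw [← QuotientGroup.mk_mul, ← map_mul, hrr, map_one]
    rfl
  have hcomm : (QuotientGroup.mk (PsiPgo ⇑Q ⟨_, hrmem⟩) :
        ↥(pgoAut F ⇑Q) ⧸ (Inn (POmega F ⇑Q)).subgroupOf (pgoAut F ⇑Q))
      * QuotientGroup.mk (PsiPgo ⇑Q ⟨s₀, hsmem⟩)
      ≠ QuotientGroup.mk (PsiPgo ⇑Q ⟨s₀, hsmem⟩) * QuotientGroup.mk (PsiPgo ⇑Q ⟨_, hrmem⟩) := by
    intro h
    rw [← QuotientGroup.mk_mul, ← QuotientGroup.mk_mul, ← map_mul, ← map_mul] at h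
    have h1 := QuotientGroup.eq.mp h
    rw [← map_inv, ← map_mul, Subgroup.mem_subgroupOf, PsiPgo_val] at h1
    -- the commutator is a product of two reflections
    have hy : ((⟨_, hrmem⟩ : ↥(Geo.quadSimilarityGroup (F := F) ⇑Q)) * ⟨s₀, hsmem⟩)⁻¹
          * (⟨s₀, hsmem⟩ * ⟨_, hrmem⟩)
        = ⟨(((reflectionIsom Q (((s₀⁻¹ : GL ι F) : Matrix ι ι F) *ᵥ x₁) (by
              have h := hs₀ (((s₀⁻¹ : GL ι F) : Matrix ι ι F) *ᵥ x₁)
              rw [Matrix.mulVec_mulVec, ← Units.val_mul, mul_inv_cancel, Units.val_one,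
                Matrix.one_mulVec, hQx₁] at h
              intro h0
              rw [h0, mul_zero] at h
              exact one_ne_zero h)
            * reflectionIsom Q x₁ hx₁ : ↥(isometryGroup F ⇑Q)) : GL ι F)),
            isometryGroup_le_similarity _ (Subtype.property _)⟩ := by
      apply Subtype.ext
      rw [_root_.mul_inv_rev]
      simp only [Subgroup.coe_mul, Subgroup.coe_inv]
      have hr_inv : ((reflectionIsom Q x₁ hx₁ : ↥(isometryGroup F ⇑Q)) : GL ι F)⁻¹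
          = ((reflectionIsom Q x₁ hx₁ : ↥(isometryGroup F ⇑Q)) : GL ι F) :=
        congrArg Subtype.val (reflectionIsom_inv Q x₁ hx₁)
      rw [hr_inv]
      have hconj : s₀⁻¹ * ((reflectionIsom Q x₁ hx₁ : ↥(isometryGroup F ⇑Q)) : GL ι F)
          = ((reflectionIsom Q (((s₀⁻¹ : GL ι F) : Matrix ι ι F) *ᵥ x₁) (by
              have h := hs₀ (((s₀⁻¹ : GL ι F) : Matrix ι ι F) *ᵥ x₁)
              rw [Matrix.mulVec_mulVec, ← Units.val_mul, mul_inv_cancel, Units.val_one,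
                Matrix.one_mulVec, hQx₁] at h
              intro h0
              rw [h0, mul_zero] at h
              exact one_ne_zero h) : ↥(isometryGroup F ⇑Q)) : GL ι F) * s₀⁻¹ := by
        apply Units.ext
        rw [Units.val_mul, Units.val_mul, reflectionIsom_coe, reflectionIsom_coe]
        apply refl_conj_similarity Q _ ((c : F)⁻¹) (inv_ne_zero (Units.ne_zero c))
        intro y
        have h := hs₀ (((s₀⁻¹ : GL ι F) : Matrix ι ι F) *ᵥ y)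
        rw [Matrix.mulVec_mulVec, ← Units.val_mul, mul_inv_cancel, Units.val_one,
          Matrix.one_mulVec] at h
        rw [h, ← mul_assoc, inv_mul_cancel₀ (Units.ne_zero c), one_mul]
      rw [hconj, mul_assoc, ← mul_assoc s₀⁻¹, inv_mul_cancel, one_mul]
    rw [hy] at h1
    have h3 := (PsiO_mem_Inn_iff_mem_Omega Q hQ fr h5 hneg _).mp h1
    rw [mem_Omega_iff_Phi h2 Q hQ, map_mul, map_mul] at h3
    have hs_a : spinorSign (⇑Q) (reflectionIsom Q x₁ hx₁) = -1 := by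
      have e : reflectionIsom Q x₁ hx₁ = Cfsg.Agent.Lib.helper49.reflG Q x₁ hx₁ :=
        Subtype.ext (Units.ext rfl)
      rw [e]
      exact (Cfsg.Agent.Lib.helper49.spinorSign_refl h2 Q x₁ hx₁).1 ⟨1, by rw [hQx₁, one_mul]⟩
    have hQs : Q (((s₀⁻¹ : GL ι F) : Matrix ι ι F) *ᵥ x₁) = (c : F)⁻¹ := by
      have h := hs₀ (((s₀⁻¹ : GL ι F) : Matrix ι ι F) *ᵥ x₁)
      rw [Matrix.mulVec_mulVec, ← Units.val_mul, mul_inv_cancel, Units.val_one,
        Matrix.one_mulVec, hQx₁] at h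
      calc Q (((s₀⁻¹ : GL ι F) : Matrix ι ι F) *ᵥ x₁)
          = (c : F)⁻¹ * ((c : F) * Q (((s₀⁻¹ : GL ι F) : Matrix ι ι F) *ᵥ x₁)) := by
            rw [← mul_assoc, inv_mul_cancel₀ (Units.ne_zero c), one_mul]
        _ = (c : F)⁻¹ := by rw [← h, mul_one]
    have hns : ¬ IsSquare (Q (((s₀⁻¹ : GL ι F) : Matrix ι ι F) *ᵥ x₁)) := by
      rw [hQs]
      rintro ⟨d, hd⟩
      apply hc
      refine ⟨d⁻¹, ?_⟩
      rw [← mul_inv, ← hd, inv_inv]
    have hs_b : ∀ hv, spinorSign (⇑Q)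
        (reflectionIsom Q (((s₀⁻¹ : GL ι F) : Matrix ι ι F) *ᵥ x₁) hv) = 1 := by
      intro hv
      have e : reflectionIsom Q (((s₀⁻¹ : GL ι F) : Matrix ι ι F) *ᵥ x₁) hv
          = Cfsg.Agent.Lib.helper49.reflG Q _ hv := Subtype.ext (Units.ext rfl)
      rw [e]
      exact (Cfsg.Agent.Lib.helper49.spinorSign_refl h2 Q _ hv).2 hns
    rw [hs_a, hs_b] at h3
    exact absurd h3.2 (by decide)
  obtain ⟨e⟩ := nonempty_mulEquiv_dihedral_of_card_eight hcard _ _ ha hcomm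
  refine ⟨e.toMonoidHom.comp (QuotientGroup.mk' _), ?_, ?_⟩
  · exact e.surjective.comp (QuotientGroup.mk'_surjective _)
  · ext β
    rw [MonoidHom.mem_ker, MonoidHom.comp_apply]
    show e (QuotientGroup.mk β) = 1 ↔ _
    rw [MulEquiv.map_eq_one_iff, QuotientGroup.eq_one_iff]

end

end Cfsg.Agent.Lib.helper42
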