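import Cfsg.Agent.S1411
import Cfsg.Agent.S0005

/-!
# S1430 (NA), piece N5d: the Sylow kill (hypothesis-passing form)

`sylow_kill_of` is the statement `sylow_kill` of `tools/S1430_NA_Skel.lean.txt` with the pieces
N5a (`na_comm_cent`), N5b (`na_not_le_comm`) and N5c (`na_fix_le_comm`) as explicit hypotheses.
-/

set_option autoImplicit false
open Cfsg
open scoped commutatorElement

namespace Cfsg.Agent.Lib.helper42.BGNA

variable {G : Type*} [Group G]

/-- in a cyclic group `F`, a subgroup `R` of order `r` contains every element `y` with `y ^ r = 1` -/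
theorem mem_of_pow_eq_one_of_cyclic [Finite G] (F R : Subgroup G) (hF : IsCyclic ↥F) (hRF : R ≤ F)
    {r : ℕ} (hr : 0 < r) (hR : Nat.card R = r) (y : G) (hy : y ∈ F) (hyr : y ^ r = 1) : y ∈ R := by
  classical
  haveI : Fintype ↥F := Fintype.ofFinite _
  have hT : (Finset.univ.filter (fun a : ↥F => a ^ r = 1)).card ≤ r := IsCyclic.card_pow_eq_one_le hr
  have hsub : Finset.univ.filter (fun a : ↥F => (a : G) ∈ R)
      ⊆ Finset.univ.filter (fun a : ↥F => a ^ r = 1) := by
    intro a ha
    rw [Finset.mem_filter] at ha ⊢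
    refine ⟨Finset.mem_univ _, ?_⟩
    have h1 : (⟨(a : G), ha.2⟩ : ↥R) ^ Nat.card ↥R = 1 := pow_card_eq_one'
    rw [hR] at h1
    have h2 := congrArg Subtype.val h1
    apply Subtype.ext
    simpa using h2
  have hcard : (Finset.univ.filter (fun a : ↥F => (a : G) ∈ R)).card = r := by
    rw [← hR, ← Nat.card_congr (Subgroup.subgroupOfEquivOfLe hRF).toEquiv,
      Nat.card_eq_fintype_card, Fintype.card_subtype]
    congr 1
  have heq := Finset.eq_of_subset_of_card_le hsub (by rw [hcard]; exact hT)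
  have hmem : (⟨y, hy⟩ : ↥F) ∈ Finset.univ.filter (fun a : ↥F => a ^ r = 1) := by
    rw [Finset.mem_filter]
    refine ⟨Finset.mem_univ _, ?_⟩
    apply Subtype.ext
    simpa using hyr
  rw [← heq, Finset.mem_filter] at hmem
  exact hmem.2

/-- PIECE N5d (the Sylow kill), with N5a, N5b, N5c as hypotheses -/
theorem sylow_kill_of [Finite G] (hG : IsMinSimpleOddOrder G) (r : ℕ) [Fact r.Prime] (S : Sylow r G)
    (R : Subgroup G) (hRS' : R ≤ (S : Subgroup G)) (hR : Nat.card R = r)
    (hNR : Subgroup.normalizer (R : Set G) ≤ Subgroup.centralizer (R : Set G))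
    (P : Subgroup G) (hPN : P ≤ Subgroup.normalizer ((S : Subgroup G) : Set G))
    (hPr : (Nat.card P).Coprime r) (hPR : P ≤ Subgroup.centralizer (R : Set G))
    (hF : IsCyclic ↥((S : Subgroup G) ⊓ Subgroup.centralizer (P : Set G)))
    (h5a : ∀ V : Subgroup G, V ≤ Subgroup.normalizer ((S : Subgroup G) : Set G) →
      (Nat.card V).Coprime r → ⁅V, V⁆ ≤ Subgroup.centralizer ((S : Subgroup G) : Set G))
    (h5b : ¬ R ≤ ⁅(S : Subgroup G), (S : Subgroup G)⁆)
    (h5c : ∀ V : Subgroup G, V ≤ Subgroup.normalizer ((S : Subgroup G) : Set G) →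
      (Nat.card (S : Subgroup G)).Coprime (Nat.card V) →
      Group.IsSolvable ↥((S : Subgroup G) ⊔ V) → (S : Subgroup G) ≤ ⁅(S : Subgroup G), V⁆ →
      (S : Subgroup G) ⊓ Subgroup.centralizer (V : Set G) ≤ ⁅(S : Subgroup G), (S : Subgroup G)⁆) :
    False := by
  classical
  have hr : r.Prime := Fact.out
  obtain ⟨N, hNdef⟩ : ∃ N : Subgroup G, N = Subgroup.normalizer ((S : Subgroup G) : Set G) :=
    ⟨_, rfl⟩
  rw [← hNdef] at hPN
  have hSN : (S : Subgroup G) ≤ N := by rw [hNdef]; exact Subgroup.le_normalizer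
  have hSbot : (S : Subgroup G) ≠ ⊥ := by
    intro h
    have h1 : R = ⊥ := le_bot_iff.mp (h ▸ hRS')
    rw [h1, Subgroup.card_bot] at hR
    exact hr.one_lt.ne hR
  have hNtop : N ≠ ⊤ := by
    intro h
    rw [hNdef] at h
    have hnorm : (S : Subgroup G).Normal := Subgroup.normalizer_eq_top_iff.mp h
    haveI := hG.2.1
    rcases hnorm.eq_bot_or_eq_top with h1 | h1
    · exact hSbot h1
    · have hGr : IsPGroup r G := by
        intro g
        have hg : g ∈ (S : Subgroup G) := by rw [h1]; trivial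
        obtain ⟨k, hk⟩ := S.isPGroup' ⟨g, hg⟩
        refine ⟨k, ?_⟩
        have h2 := congrArg Subtype.val hk
        simpa using h2
      have hcen := hGr.center_nontrivial
      have hcn : (Subgroup.center G) ≠ ⊥ := by
        intro h2
        rw [h2] at hcen
        exact not_nontrivial _ hcen
      rcases (Subgroup.Normal.eq_bot_or_eq_top (inferInstance : (Subgroup.center G).Normal))
        with h2 | h2
      · exact hcn h2
      · apply hG.2.2.1
        refine ⟨⟨fun a b => ?_⟩⟩
        have hb : b ∈ Subgroup.center G := by rw [h2]; trivial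
        exact Subgroup.mem_center_iff.mp hb a
  haveI hsolv : Group.IsSolvable ↥N := hG.2.2.2 N hNtop
  obtain ⟨m, hm⟩ : ∃ m, Nat.card ↥N = m * Nat.card ↥(S : Subgroup G) := by
    obtain ⟨m, hm⟩ := Subgroup.card_dvd_of_le hSN
    exact ⟨m, by rw [hm, mul_comm]⟩
  have hcopS : (Nat.card ↥(S : Subgroup G)).Coprime (S : Subgroup G).index := S.card_coprime_index
  have hm_cop : m.Coprime (Nat.card ↥(S : Subgroup G)) := by
    have h1 : Nat.card ↥N ∣ Nat.card G := Subgroup.card_subgroup_dvd_card N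
    have h2 : Nat.card ↥(S : Subgroup G) * (S : Subgroup G).index = Nat.card G :=
      Subgroup.card_mul_index _
    have hSpos : 0 < Nat.card ↥(S : Subgroup G) := Nat.card_pos
    have h3 : m ∣ (S : Subgroup G).index := by
      rw [hm, ← h2, mul_comm m] at h1
      exact Nat.dvd_of_mul_dvd_mul_left hSpos h1
    exact Nat.Coprime.coprime_dvd_left h3 hcopS.symm
  have hPcop : (Nat.card ↥(P.subgroupOf N)).Coprime (Nat.card ↥(S : Subgroup G)) := by
    rw [Nat.card_congr (Subgroup.subgroupOfEquivOfLe hPN).toEquiv]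
    obtain ⟨k, hk⟩ := (S.isPGroup').exists_card_eq
    rw [hk]
    exact Nat.Coprime.pow_right k hPr
  obtain ⟨H', hH'card, hPH'⟩ := Cfsg.Agent.S0005.result (G := ↥N) m (Nat.card ↥(S : Subgroup G)) hm
    hm_cop (P.subgroupOf N) hPcop
  obtain ⟨V, hVdef⟩ : ∃ V : Subgroup G, V = H'.map N.subtype := ⟨_, rfl⟩
  have hVN : V ≤ N := by rw [hVdef]; exact Subgroup.map_subtype_le H'
  have hVcard : Nat.card ↥V = m := by
    rw [hVdef, Subgroup.card_map_of_injective (Subgroup.subtype_injective N), hH'card]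
  have hPV : P ≤ V := by
    intro x hx
    rw [hVdef]
    exact ⟨⟨x, hPN hx⟩, hPH' (Subgroup.mem_subgroupOf.mpr hx), rfl⟩
  have hrS : r ∣ Nat.card ↥(S : Subgroup G) := by
    have h1 := Subgroup.card_dvd_of_le hRS'
    rw [hR] at h1
    exact h1
  have hVr : (Nat.card ↥V).Coprime r := by
    rw [hVcard]
    exact Nat.Coprime.coprime_dvd_right hrS hm_cop
  have hSVcop : (Nat.card ↥(S : Subgroup G)).Coprime (Nat.card ↥V) := by
    rw [hVcard]
    exact hm_cop.symm
  have hVN' : V ≤ Subgroup.normalizer ((S : Subgroup G) : Set G) := by rw [← hNdef]; exact hVN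
  -- `V` is a complement of `S` in `N`
  have hcompl : IsComplIn (S : Subgroup G) V (Subgroup.normalizer ((S : Subgroup G) : Set G)) := by
    rw [← hNdef]
    refine ⟨hSN, hVN, Subgroup.inf_eq_bot_of_coprime hSVcop, ?_⟩
    intro n hn
    have hc : Subgroup.IsComplement' ((S : Subgroup G).subgroupOf N) H' := by
      apply Subgroup.isComplement'_of_coprime
      · rw [Nat.card_congr (Subgroup.subgroupOfEquivOfLe hSN).toEquiv, hH'card, hm, mul_comm]
      · rw [Nat.card_congr (Subgroup.subgroupOfEquivOfLe hSN).toEquiv, hH'card]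
        exact hm_cop.symm
    obtain ⟨⟨a, b⟩, hab⟩ := hc.2 (⟨n, hn⟩ : ↥N)
    refine ⟨((a : ↥N) : G), Subgroup.mem_subgroupOf.mp a.2, ((b : ↥N) : G), ?_, ?_⟩
    · rw [hVdef]
      exact ⟨(b : ↥N), b.2, rfl⟩
    · have h1 := congrArg Subtype.val hab
      exact h1.symm
  have hSV : (S : Subgroup G) = ⁅(S : Subgroup G), V⁆ := (Cfsg.Agent.S1411.result hG r S V hcompl).1
  have hcomm := h5a V hVN' hVr
  -- `V` normalizes `F = S ⊓ C(P)`
  have hVF : ∀ v ∈ V, ∀ f ∈ (S : Subgroup G) ⊓ Subgroup.centralizer (P : Set G),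
      v * f * v⁻¹ ∈ (S : Subgroup G) ⊓ Subgroup.centralizer (P : Set G) := by
    intro v hv f hf
    obtain ⟨hf1, hf2⟩ := Subgroup.mem_inf.mp hf
    refine Subgroup.mem_inf.mpr ⟨(Subgroup.mem_normalizer_iff.mp (hVN' hv) f).mp hf1, ?_⟩
    rw [Subgroup.mem_centralizer_iff]
    intro x hx
    obtain ⟨c, hcdef⟩ : ∃ c : G, c = ⁅v⁻¹, x⁆ := ⟨_, rfl⟩
    have hcV : c ∈ ⁅V, V⁆ := by
      rw [hcdef]
      exact Subgroup.commutator_mem_commutator (V.inv_mem hv) (hPV hx)
    have hcS := Subgroup.mem_centralizer_iff.mp (hcomm hcV)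
    have hc : c * f = f * c := (hcS f hf1).symm
    have hxf : x * f = f * x := Subgroup.mem_centralizer_iff.mp hf2 x hx
    have hvx : v⁻¹ * x * v = c * x := by
      rw [hcdef, commutatorElement_def]
      group
    calc x * (v * f * v⁻¹) = v * (v⁻¹ * x * v) * f * v⁻¹ := by group
      _ = v * (c * x) * f * v⁻¹ := by rw [hvx]
      _ = v * (c * (x * f)) * v⁻¹ := by group
      _ = v * (c * (f * x)) * v⁻¹ := by rw [hxf]
      _ = v * ((c * f) * x) * v⁻¹ := by group
      _ = v * ((f * c) * x) * v⁻¹ := by rw [hc]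
      _ = v * f * (c * x) * v⁻¹ := by group
      _ = v * f * (v⁻¹ * x * v) * v⁻¹ := by rw [hvx]
      _ = v * f * v⁻¹ * x := by group
  have hRF : R ≤ (S : Subgroup G) ⊓ Subgroup.centralizer (P : Set G) := by
    refine le_inf hRS' ?_
    intro y hy
    rw [Subgroup.mem_centralizer_iff]
    intro x hx
    exact ((Subgroup.mem_centralizer_iff.mp (hPR hx)) y hy).symm
  have key : ∀ w ∈ V, ∀ n ∈ R, w * n * w⁻¹ ∈ R := by
    intro w hw n hn
    apply mem_of_pow_eq_one_of_cyclic ((S : Subgroup G) ⊓ Subgroup.centralizer (P : Set G)) R hF hRF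
      hr.pos hR
    · exact hVF w hw n (hRF hn)
    · have h1 : (⟨n, hn⟩ : ↥R) ^ Nat.card ↥R = 1 := pow_card_eq_one'
      rw [hR] at h1
      have h2 : n ^ r = 1 := by
        have h3 := congrArg Subtype.val h1
        simpa using h3
      rw [conj_pow, h2]
      group
  have hVR : V ≤ Subgroup.normalizer (R : Set G) := by
    intro v hv
    rw [Subgroup.mem_normalizer_iff]
    intro n
    constructor
    · exact key v hv n
    · intro h
      have h1 := key v⁻¹ (V.inv_mem hv) _ h
      have e : v⁻¹ * (v * n * v⁻¹) * v⁻¹⁻¹ = n := by group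
      rw [e] at h1
      exact h1
  have hVCR : V ≤ Subgroup.centralizer (R : Set G) := hVR.trans hNR
  have hRCV : R ≤ (S : Subgroup G) ⊓ Subgroup.centralizer (V : Set G) := by
    refine le_inf hRS' ?_
    intro y hy
    rw [Subgroup.mem_centralizer_iff]
    intro v hv
    exact ((Subgroup.mem_centralizer_iff.mp (hVCR hv)) y hy).symm
  have hsol : Group.IsSolvable ↥((S : Subgroup G) ⊔ V) := by
    have hle : (S : Subgroup G) ⊔ V ≤ N := sup_le hSN hVN
    exact Group.isSolvable_of_isSolvable_injective (Subgroup.inclusion_injective hle)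
  have hfin := h5c V hVN' hSVcop hsol (le_of_eq hSV)
  exact h5b (hRCV.trans hfin)

end Cfsg.Agent.Lib.helper42.BGNA
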