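import Cfsg.Agent.Lib.helper42.BGNAN5d
import Cfsg.Agent.Lib.helper51.BGNAN5a
import Cfsg.Agent.Lib.helper32.BGNAN5b
import Cfsg.Agent.Lib.helper63.BGNAN5c

/-!
# S1430 (NA), piece N5d: the Sylow kill (exact skeleton statement)
-/

set_option autoImplicit false
open Cfsg

namespace Cfsg.Agent.Lib.helper42.BGNA

variable {G : Type*} [Group G]

/-- PIECE N5d (the Sylow kill). -/
theorem sylow_kill [Finite G] (hG : IsMinSimpleOddOrder G) (r : ℕ) [Fact r.Prime] (S : Sylow r G)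
    (A : Subgroup G) (hAS : A ≤ (S : Subgroup G)) (hAe : IsElementaryAbelian r A)
    (hA2 : Nat.card A = r ^ 2)
    (hAmax : ∀ B : Subgroup G, IsElementaryAbelian r B → A ≤ B → B = A)
    (R : Subgroup G) (hRA : R ≤ A) (hR : Nat.card R = r)
    (hRS : ¬ (S : Subgroup G) ≤ Subgroup.centralizer (R : Set G))
    (hNR : Subgroup.normalizer (R : Set G) ≤ Subgroup.centralizer (R : Set G))
    (P : Subgroup G) (hPN : P ≤ Subgroup.normalizer ((S : Subgroup G) : Set G))
    (hPr : (Nat.card P).Coprime r) (hPR : P ≤ Subgroup.centralizer (R : Set G))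
    (hF : IsCyclic ↥((S : Subgroup G) ⊓ Subgroup.centralizer (P : Set G))) : False :=
  sylow_kill_of hG r S R (hRA.trans hAS) hR hNR P hPN hPr hPR hF
    (fun V hVN hV => Cfsg.Agent.Lib.helper51.BGNA.na_comm_cent hG r S A hAS hAe hA2 hAmax V hVN hV)
    (Cfsg.Agent.Lib.helper32.BGNA.na_not_le_comm hG r S A hAS hAe hA2 hAmax R hRA hR hRS)
    (fun V hVN hcop hsolv hSV =>
      Cfsg.Agent.Lib.helper63.BGNA.na_fix_le_comm (S : Subgroup G) V hVN hcop hsolv hSV)

end Cfsg.Agent.Lib.helper42.BGNA
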