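import Cfsg.Agent.Lib.helper34.Deg11Defs

/-!
# S0679 piece J: an element with exactly 8 fixed model points is a 3-cycle, so `Alt ≤ G` (Jordan)
-/

set_option autoImplicit false

namespace Cfsg.Agent.Lib.helper42

open Cfsg Cfsg.Agent.Lib.helper34

/-- PIECE J (Jordan: an element with exactly 8 fixed points is a 3-cycle) -/
theorem deg11_alt_le {α : Type*} [Fintype α] [DecidableEq α] (hα : Fintype.card α = 11)
    (G : Subgroup (Equiv.Perm α)) [MulAction.IsPretransitive G α]
    (K : Subgroup (Equiv.Perm GolayPt)) (φ : α ≃ Pt11) (e : G ≃* K) (hK : K ≤ F11)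
    (heq : ∀ (g : G) (a : α), ((e g : Equiv.Perm GolayPt) (φ a : GolayPt)) = (φ ((g : Equiv.Perm α) a) : GolayPt))
    (k : Equiv.Perm GolayPt) (hk : k ∈ K) (h8 : mfix k = 8) :
    alternatingGroup α ≤ G := by
  classical
  obtain ⟨g, hg⟩ : ∃ g : G, g = e.symm ⟨k, hk⟩ := ⟨_, rfl⟩
  have heg : (e g : Equiv.Perm GolayPt) = k := by
    rw [hg, MulEquiv.apply_symm_apply]
  have hact : ∀ a : α, k (φ a : GolayPt) = (φ ((g : Equiv.Perm α) a) : GolayPt) := by
    intro a
    rw [← heg]
    exact heq g a
  -- the fixed points of `g`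
  have hfixcard : (Finset.univ.filter (fun a : α => (g : Equiv.Perm α) a = a)).card = 8 := by
    rw [← h8]
    unfold mfix
    apply Finset.card_bij (fun a _ => idx (φ a : GolayPt))
    · intro a ha
      rw [Finset.mem_filter] at ha ⊢
      refine ⟨Finset.mem_range.mpr (φ a).2, ?_⟩
      rw [ptOf_idx, hact a, ha.2]
    · intro a _ b _ hab
      have h1 : (φ a : GolayPt) = (φ b : GolayPt) := idx_injective hab
      exact φ.injective (Subtype.ext h1)
    · intro t ht
      rw [Finset.mem_filter, Finset.mem_range] at ht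
      obtain ⟨ht11, htfix⟩ := ht
      have hidx : idx (ptOf t) = t := idx_ptOf (by omega)
      obtain ⟨p, hp⟩ : ∃ p : Pt11, (p : GolayPt) = ptOf t := ⟨⟨ptOf t, by rw [hidx]; exact ht11⟩, rfl⟩
      refine ⟨φ.symm p, ?_, ?_⟩
      · rw [Finset.mem_filter]
        refine ⟨Finset.mem_univ _, ?_⟩
        have h1 := hact (φ.symm p)
        rw [Equiv.apply_symm_apply, hp] at h1
        have h2 : k (ptOf t) = ptOf t := by
          apply idx_injective
          rw [htfix, hidx]
        rw [h2] at h1
        apply φ.injective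
        apply Subtype.ext
        rw [← h1, Equiv.apply_symm_apply, hp]
      · rw [Equiv.apply_symm_apply, hp, hidx]
  have hsupp : ((g : Equiv.Perm α)).support.card = 3 := by
    have h1 : ((g : Equiv.Perm α)).support
        = Finset.univ.filter (fun a : α => ¬ (g : Equiv.Perm α) a = a) := by
      ext a
      simp [Equiv.Perm.mem_support]
    rw [h1]
    have h2 := Finset.card_filter_add_card_filter_not (s := (Finset.univ : Finset α))
      (fun a : α => (g : Equiv.Perm α) a = a)
    rw [hfixcard, Finset.card_univ, hα] at h2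
    omega
  have h3 : ((g : Equiv.Perm α)).IsThreeCycle := card_support_eq_three_iff.mp hsupp
  have hprim : MulAction.IsPreprimitive G α := by
    apply MulAction.IsPreprimitive.of_prime_card
    rw [Nat.card_eq_fintype_card, hα]
    norm_num
  exact Equiv.Perm.alternatingGroup_le_of_isPreprimitive_of_isThreeCycle_mem hprim h3 g.2

end Cfsg.Agent.Lib.helper42
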