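import Mathlib

/-!
# S0679 piece S: a group generated by `x` and an element normalizing `⟨x⟩` is solvable
-/

set_option autoImplicit false

namespace Cfsg.Agent.Lib.helper42

/-- PIECE S (metacyclic ⟹ solvable) -/
theorem deg11_solvable {G : Type*} [Group G] (x h : G)
    (h1 : h * x * h⁻¹ ∈ Subgroup.zpowers x) (h2 : h⁻¹ * x * h ∈ Subgroup.zpowers x) :
    Group.IsSolvable (Subgroup.closure ({x, h} : Set G)) := by
  classical
  obtain ⟨C, hC⟩ : ∃ C : Subgroup G, C = Subgroup.closure ({x, h} : Set G) := ⟨_, rfl⟩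
  obtain ⟨Z, hZ⟩ : ∃ Z : Subgroup G, Z = Subgroup.zpowers x := ⟨_, rfl⟩
  rw [← hC]
  rw [← hZ] at h1 h2
  have hconj : ∀ z ∈ Z, h * z * h⁻¹ ∈ Z := by
    intro z hz
    rw [hZ] at hz
    obtain ⟨k, rfl⟩ := Subgroup.mem_zpowers_iff.mp hz
    rw [← conj_zpow]
    exact Subgroup.zpow_mem _ h1 k
  have hconj' : ∀ z ∈ Z, h⁻¹ * z * h ∈ Z := by
    intro z hz
    rw [hZ] at hz
    obtain ⟨k, rfl⟩ := Subgroup.mem_zpowers_iff.mp hz
    have e : h⁻¹ * x ^ k * h = (h⁻¹ * x * h⁻¹⁻¹) ^ k := by
      rw [conj_zpow, inv_inv]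
    rw [e, inv_inv]
    exact Subgroup.zpow_mem _ h2 k
  have hxZ : x ∈ Z := by rw [hZ]; exact Subgroup.mem_zpowers x
  have hnorm : C ≤ Subgroup.normalizer (Z : Set G) := by
    rw [hC, Subgroup.closure_le]
    intro g hg
    rcases hg with rfl | hg
    · exact Subgroup.le_normalizer hxZ
    · rw [Set.mem_singleton_iff] at hg
      subst hg
      rw [SetLike.mem_coe, Subgroup.mem_normalizer_iff]
      intro n
      constructor
      · exact hconj n
      · intro hn
        have h3 := hconj' _ hn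
        have e : g⁻¹ * (g * n * g⁻¹) * g = n := by group
        rw [e] at h3
        exact h3
  have hnormal : (Z.subgroupOf C).Normal := Subgroup.normal_subgroupOf_of_le_normalizer hnorm
  -- every element of `C` is `h ^ k * z`
  have hrep : ∀ c ∈ C, ∃ (k : ℤ) (z : G), z ∈ Z ∧ c = h ^ k * z := by
    intro c hc
    rw [hC] at hc
    induction hc using Subgroup.closure_induction with
    | mem g hg =>
      rcases hg with rfl | hg
      · exact ⟨0, g, hxZ, by simp⟩
      · rw [Set.mem_singleton_iff] at hg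
        subst hg
        exact ⟨1, 1, Z.one_mem, by simp⟩
    | one => exact ⟨0, 1, Z.one_mem, by simp⟩
    | mul a b _ _ iha ihb =>
      obtain ⟨k, z, hz, rfl⟩ := iha
      obtain ⟨l, w, hw, rfl⟩ := ihb
      refine ⟨k + l, (h ^ l)⁻¹ * z * h ^ l * w, Z.mul_mem ?_ hw, ?_⟩
      · have hl : h ^ l ∈ Subgroup.normalizer (Z : Set G) := by
          apply Subgroup.zpow_mem
          apply hnorm
          rw [hC]
          exact Subgroup.subset_closure (by simp)
        have h4 := (Subgroup.mem_normalizer_iff.mp (Subgroup.inv_mem _ hl) z).mp hz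
        rw [inv_inv] at h4
        exact h4
      · rw [zpow_add]
        group
    | inv a _ iha =>
      obtain ⟨k, z, hz, rfl⟩ := iha
      refine ⟨-k, h ^ k * z⁻¹ * (h ^ k)⁻¹, ?_, ?_⟩
      · have hl : h ^ k ∈ Subgroup.normalizer (Z : Set G) := by
          apply Subgroup.zpow_mem
          apply hnorm
          rw [hC]
          exact Subgroup.subset_closure (by simp)
        exact (Subgroup.mem_normalizer_iff.mp hl z⁻¹).mp (Z.inv_mem hz)
      · rw [zpow_neg]
        group
  have hhC : h ∈ C := by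
    rw [hC]
    exact Subgroup.subset_closure (by simp)
  -- the quotient is commutative
  have hquot : ∀ a b : C ⧸ Z.subgroupOf C, a * b = b * a := by
    have hpow : ∀ a : C ⧸ Z.subgroupOf C, ∃ k : ℤ,
        a = (QuotientGroup.mk (⟨h, hhC⟩ : C) : C ⧸ Z.subgroupOf C) ^ k := by
      intro a
      obtain ⟨c, rfl⟩ := QuotientGroup.mk_surjective a
      obtain ⟨k, z, hz, hc⟩ := hrep c.1 c.2
      refine ⟨k, ?_⟩
      rw [← QuotientGroup.mk_zpow, QuotientGroup.eq]
      rw [Subgroup.mem_subgroupOf]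
      have e : (((c⁻¹ * (⟨h, hhC⟩ : C) ^ k : C)) : G) = z⁻¹ := by
        rw [Subgroup.coe_mul, Subgroup.coe_inv, Subgroup.coe_zpow, hc]
        group
      rw [e]
      exact Z.inv_mem hz
    intro a b
    obtain ⟨k, rfl⟩ := hpow a
    obtain ⟨l, rfl⟩ := hpow b
    rw [← zpow_add, ← zpow_add, add_comm]
  have : Group.IsSolvable (C ⧸ Z.subgroupOf C) := Group.isSolvable_of_comm hquot
  have hZc : ∀ a b : Z.subgroupOf C, a * b = b * a := by
    intro a b
    have ha : (a : C).1 ∈ Z := Subgroup.mem_subgroupOf.mp a.2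
    have hb : (b : C).1 ∈ Z := Subgroup.mem_subgroupOf.mp b.2
    have ha' : (a : C).1 ∈ Subgroup.zpowers x := by rw [← hZ]; exact ha
    have hb' : (b : C).1 ∈ Subgroup.zpowers x := by rw [← hZ]; exact hb
    obtain ⟨k, hk⟩ := Subgroup.mem_zpowers_iff.mp ha'
    obtain ⟨l, hl⟩ := Subgroup.mem_zpowers_iff.mp hb'
    apply Subtype.ext
    apply Subtype.ext
    show (a : C).1 * (b : C).1 = (b : C).1 * (a : C).1
    rw [← hk, ← hl, ← zpow_add, ← zpow_add, add_comm]
  have : Group.IsSolvable (Z.subgroupOf C) := Group.isSolvable_of_comm hZc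
  refine solvable_of_ker_le_range (Z.subgroupOf C).subtype (QuotientGroup.mk' (Z.subgroupOf C)) ?_
  rw [QuotientGroup.ker_mk', Subgroup.range_subtype]

end Cfsg.Agent.Lib.helper42
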