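import Cfsg.Agent.Lib.helper42.FGDefs
import Cfsg.Agent.Lib.helper7.FGP0
import Cfsg.Agent.Lib.helper77.FGP2
import Cfsg.Agent.Lib.helper77.FGP3
import Cfsg.Agent.Lib.helper22.FGC1
import Cfsg.Agent.Lib.helper56.FGC2A
import Cfsg.Agent.Lib.helper90.FGC2B
import Cfsg.Agent.Lib.helper73.FGC3
import Cfsg.Agent.Lib.helper73.FGCARD
import Cfsg.Agent.Lib.helper33.FGT1A
import Cfsg.Agent.Lib.helper79.FGLEMN
import Cfsg.Agent.Lib.helper66.FGT1B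
import Cfsg.Agent.Lib.helper10.FGLEMM
import Cfsg.Agent.Lib.helper11.FGT2A
import Cfsg.Agent.Lib.helper73.FGGEN
import Cfsg.Agent.Lib.helper73.FGK1C
import Cfsg.Agent.Lib.helper17.FGAUT
import Cfsg.Agent.Lib.helper28.FGT2B
import Cfsg.Agent.Lib.helper59.FGT2C2
import Cfsg.Agent.Lib.helper33.FGT2C3
import Cfsg.Agent.Lib.helper33.FGK2
import Cfsg.Agent.Lib.helper15.FGF0
import Cfsg.Agent.Lib.helper15.FGF1
import Cfsg.Agent.Lib.helper15.FGF2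
import Cfsg.Agent.Lib.helper55.FGF3
import Cfsg.Agent.Lib.helper89.FGT1Ccore
import Cfsg.Agent.Lib.helper22.FGT2C4

/-!
Assembly of S1915 (helper42): the glue of `tools/S1915_Skel.lean.txt` over the landed leaves.
-/

set_option autoImplicit false

namespace Cfsg.Agent.Lib.helper42.FG

variable {G : Type*} [Group G] [Finite G]

/-- F3 (wrapper) -/
theorem h42w_final_contra {A S : Subgroup G} (hperf : commutator ↥A = ⊤) (hSA : S ≤ A)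
    (hSyl : Nat.card S = 2 ^ (Nat.card A).factorization 2) {z : G} (hz : ZData S z)
    (hiso : ∀ g ∈ A, g * z * g⁻¹ ∈ S → g * z * g⁻¹ = z)
    (Q : Subgroup G) (hQS : Q ≤ S) (hQi : Q.relIndex S = 2) (hzQ : z ∈ Q)
    (hQ : ∀ q ∈ Q, q ^ 2 = 1 → q = 1 ∨ q = z)
    (hc : ∃ E : Subgroup G, E ≤ S ∧ El E ∧ 2 < Nat.card E) : False :=
  h55_final_contra hperf hSA hSyl hz hiso Q hQS hQi hzQ hQ hc

/-- T1C (wrapper over the core of helper89) -/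
theorem h42w_index_two {A S U : Subgroup G} (h : Cfg A S U) (B : Subgroup G) (hBS : B ≤ S)
    (hSB : S ≤ Subgroup.normalizer (B : Set G)) (hUB : U ≤ Subgroup.normalizer (B : Set G))
    (hcomm : ∀ x ∈ B, ∀ y ∈ B, x * y = y * x)
    (hself : ∀ y ∈ S, (∀ x ∈ B, y * x = x * y) → y ∈ B) : B.relIndex S = 2 :=
  h89_index_two_core h B hBS hSB hUB hcomm hself (cyclic_of_inv_comm h B hBS hUB hcomm)
    (fun T B C hT hBC hCT hne hTB hTC => exists_central_step T B C hT hBC hCT hne hTB hTC)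
    (fun S₁ B hBS hcyc h2 hidx hself b₀ hb₀ hb₀4 hb₀c =>
      modular_omega S₁ B hBS hcyc h2 hidx hself b₀ hb₀ hb₀4 hb₀c)

/-- T2C4 (wrapper over the racer copy of helper22) -/
theorem h42w_case_faithful_k2 {A S U : Subgroup G} (h : Cfg A S U) {B : Subgroup G} (hB : BData S U B)
    {z : G} (hzB : z ∈ B) (hz : ZData S z) (b : G) (hb : Subgroup.zpowers b = B) (hbz : b * b ≠ z)
    (u₀ : G) (hu₀ : u₀ ∈ U) (hu₀b : u₀ * b * u₀⁻¹ = b * z)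
    (hu₀s : ∀ s ∈ S, s ∉ B → s ^ 2 = 1 → u₀ * s * u₀⁻¹ = s * z)
    (u₁ : G) (hu₁ : u₁ ∈ U) (hu₁b : u₁ * b * u₁⁻¹ = b⁻¹ * z) : Inner S U :=
  h22_case_faithful_k2 h hB hzB hz b hb hbz u₀ hu₀ hu₀b hu₀s u₁ hu₁ hu₁b


theorem struct_contra {A S U : Subgroup G} (hperf : commutator ↥A = ⊤) (h : Cfg A S U) : False := by
  obtain ⟨B, hBS, hSB, hUB, hcomm, hself⟩ := exists_selfcent h
  have hB : BData S U B :=
    { hBS := hBS, hcyc := cyclic_of_inv_comm h B hBS hUB hcomm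
      hidx := h42w_index_two h B hBS hSB hUB hcomm hself, hSB := hSB, hUB := hUB, hself := hself }
  obtain ⟨z, hzB, hz⟩ := zdata h hB
  have hK : K1 S z ∧ Inner S U := by
    by_cases hI : ∃ u ∈ U, u ≠ 1 ∧ ∀ x ∈ B, u * x = x * u
    · obtain ⟨u, hu, hu1, huB⟩ := hI
      exact ⟨⟨B, hBS, hB.hidx, hzB, k1_of_cyclic hB hzB hz⟩,
        ⟨u, hu, hu1, case_central h hB hzB hz u hu hu1 huB⟩⟩
    · have hII : ∀ u ∈ U, u ≠ 1 → ∃ x ∈ B, u * x ≠ x * u := by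
        intro u hu hu1
        by_contra hcon
        exact hI ⟨u, hu, hu1, fun x hx => by_contra fun hne => hcon ⟨x, hx, hne⟩⟩
      obtain ⟨b, hb⟩ := gen_of_cyclic B hB.hcyc
      obtain ⟨hbz, ⟨u₀, hu₀, hu₀b⟩, ⟨u₁, hu₁, hu₁b⟩⟩ := case_faithful_types h hB hzB hz hII b hb
      obtain ⟨hu₀s, hQ⟩ := case_faithful_k1 h hB hzB hz b hb hbz u₀ hu₀ hu₀b
      exact ⟨hQ, h42w_case_faithful_k2 h hB hzB hz b hb hbz u₀ hu₀ hu₀b hu₀s u₁ hu₁ hu₁b⟩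
  obtain ⟨⟨Q, hQS, hQi, hzQ, hQ⟩, ⟨u₁, hu₁, hu₁1, x, hx, hconj⟩⟩ := hK
  obtain ⟨c, hcA, hcN, hcS, hcc⟩ := exists_c h hz u₁ hu₁ hu₁1 x hx hconj
  have h7 : ∀ V : Subgroup G, V ≤ S → IsKleinFour V → ∀ m ∈ A, (∀ v ∈ V, m * v * m⁻¹ ∈ V) →
      m * z * m⁻¹ = z :=
    fun V hVS hV m hm hmV => norm_fixes_z h.hSA h.hSyl hz c hcA hcN hcS hcc V hVS hV m hm hmV
  have hiso : ∀ g ∈ A, g * z * g⁻¹ ∈ S → g * z * g⁻¹ = z :=
    fun g hg hgz => z_isolated h.hSA h.hSyl (card_S_gt h) hz h7 g hg hgz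
  exact h42w_final_contra hperf h.hSA h.hSyl hz hiso Q hQS hQi hzQ hQ h.hc

theorem core (A U : Subgroup G) (hperf : commutator ↥A = ⊤) (hU : IsKleinFour U)
    (hUA : U ≤ Subgroup.normalizer (A : Set G))
    (hb : ∀ u ∈ U, u ≠ 1 → ∀ E : Subgroup G, E ≤ A → (∀ e ∈ E, u * e = e * u) → El E → Nat.card E ≤ 2)
    (hc : ∃ E : Subgroup G, E ≤ A ∧ El E ∧ 2 < Nat.card E) : False := by
  obtain ⟨S, hSA, hSyl, hUS⟩ := exists_inv_sylow A U hU hUA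
  have hcfg : Cfg A S U :=
    { hSA := hSA, hSyl := hSyl, hU := hU, hUA := hUA, hUS := hUS
      hUA' := inf_eq_bot A U hU hb hc
      ha := fun E hES hUE hE => inv_el_small A U hU hb E (hES.trans hSA) hUE hE
      hb := fun u hu hu1 E hES hEu hE => hb u hu hu1 E (hES.trans hSA) hEu hE
      hc := el_into_sylow A S hSA hSyl hc }
  exact struct_contra hperf hcfg

theorem main (A : Subgroup G) (hA : Cfsg.layer ↥A = ⊤)
    (U : Subgroup G) (hU : IsKleinFour U) (hUA : U ≤ Subgroup.normalizer (A : Set G))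
    (hΓ : Cfsg.PRankLE 2 1 ↥(⨆ V : {V : Subgroup G // V ≤ U ∧ V ≠ ⊥}, A ⊓ Subgroup.normalizer ((V : Subgroup G) : Set G)) ∧
      ¬ Cfsg.PRankLE 2 0 ↥(⨆ V : {V : Subgroup G // V ≤ U ∧ V ≠ ⊥}, A ⊓ Subgroup.normalizer ((V : Subgroup G) : Set G))) :
    Cfsg.PRankLE 2 1 A ∧ ¬ Cfsg.PRankLE 2 0 A := by
  refine ⟨?_, rank0_mono _ A (iSup_le fun V => inf_le_left) hΓ.2⟩
  by_contra hn
  exact core A U (perfect_of_layer A hA) hU hUA
    (fun u hu hu1 E hEA hEu hE => gamma_cent A U hΓ.1 u hu hu1 E hEA hEu hE)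
    (exists_el_of_not_rank1 A hn)

end Cfsg.Agent.Lib.helper42.FG
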