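import Cfsg.Agent.Lib.helper42.FGDefs
import Cfsg.Agent.Lib.helper15.FGF0

/-!
S1915 split, leaf C2B (`el_into_sylow`), racer copy by helper42 (prefixed name).
-/

set_option autoImplicit false

namespace Cfsg.Agent.Lib.helper42.FG

variable {G : Type*} [Group G] [Finite G]

theorem h42_el_into_sylow (A S : Subgroup G) (hSA : S ≤ A)
    (hSyl : Nat.card S = 2 ^ (Nat.card A).factorization 2)
    (hc : ∃ E : Subgroup G, E ≤ A ∧ El E ∧ 2 < Nat.card E) :
    ∃ E : Subgroup G, E ≤ S ∧ El E ∧ 2 < Nat.card E := by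
  obtain ⟨E, hEA, hE, hcard⟩ := hc
  have hE2 : IsPGroup 2 E := by
    intro x
    refine ⟨1, ?_⟩
    have := hE.2 x.1 x.2
    ext
    simpa using this
  obtain ⟨a, _, ha⟩ := helper15_conj_into hSA hSyl hEA hE2
  refine ⟨E.map (MulAut.conj a).toMonoidHom, ?_, ⟨?_, ?_⟩, ?_⟩
  · rintro _ ⟨e, he, rfl⟩
    simpa using ha e he
  · rintro _ ⟨x, hx, rfl⟩ _ ⟨y, hy, rfl⟩
    have := hE.1 x hx y hy
    simp only [MulEquiv.coe_toMonoidHom, MulAut.conj_apply]
    calc a * x * a⁻¹ * (a * y * a⁻¹) = a * (x * y) * a⁻¹ := by group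
      _ = a * (y * x) * a⁻¹ := by rw [this]
      _ = a * y * a⁻¹ * (a * x * a⁻¹) := by group
  · rintro _ ⟨x, hx, rfl⟩
    have := hE.2 x hx
    simp only [MulEquiv.coe_toMonoidHom, MulAut.conj_apply]
    rw [conj_pow, this]
    group
  · have e : ↥E ≃* ↥(E.map (MulAut.conj a).toMonoidHom) :=
      E.equivMapOfInjective _ (MulAut.conj a).injective
    rw [← Nat.card_congr e.toEquiv]
    exact hcard

end Cfsg.Agent.Lib.helper42.FG
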