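import Cfsg.Agent.Lib.helper42.FGDefs

/-!
S1915 split, leaf F1 (`norm_fixes_z`), core version by helper42: the leaf F0 (`four_max`) enters as the
hypothesis `hF0` (for the given four-group `V`).
-/

set_option autoImplicit false

namespace Cfsg.Agent.Lib.helper42.FG

open scoped Pointwise

variable {G : Type*} [Group G] [Finite G]

theorem h42_mem_sup_norm {A B : Subgroup G} (h : B ≤ Subgroup.normalizer (A : Set G)) {x : G}
    (hx : x ∈ A ⊔ B) : ∃ a ∈ A, ∃ b ∈ B, a * b = x := by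
  have hA : A ≤ A ⊔ B := le_sup_left
  have hB : B ≤ A ⊔ B := le_sup_right
  have hn : (A.subgroupOf (A ⊔ B)).Normal := by
    rw [Subgroup.normal_subgroupOf_iff_le_normalizer hA]
    exact sup_le Subgroup.le_normalizer h
  have h2 : (⟨x, hx⟩ : (A ⊔ B : Subgroup G)) ∈ A.subgroupOf (A ⊔ B) ⊔ B.subgroupOf (A ⊔ B) := by
    rw [← Subgroup.subgroupOf_sup hA hB, Subgroup.subgroupOf_self]
    trivial
  rw [Subgroup.mem_sup_of_normal_left] at h2
  obtain ⟨y, hy, z, hz, hyz⟩ := h2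
  exact ⟨y, hy, z, hz, congrArg Subtype.val hyz⟩

theorem h42_norm_fixes_z_core {A S : Subgroup G} (hSA : S ≤ A) {z : G} (hz : ZData S z)
    (c : G) (hcA : c ∉ A) (hcN : ∀ a ∈ A, c * a * c⁻¹ ∈ A) (hcS : ∀ y ∈ S, c * y = y * c)
    (hcc : c * c = z) (V : Subgroup G) (hVS : V ≤ S) (hV : IsKleinFour V)
    (hF0 : ∀ R : Subgroup G, R ≤ A → IsPGroup 2 R → V ≤ R →
      (∀ r ∈ R, ∀ v ∈ V, r * v = v * r) → R = V)
    (m : G) (hm : m ∈ A) (hmV : ∀ v ∈ V, m * v * m⁻¹ ∈ V) : m * z * m⁻¹ = z := by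
  classical
  haveI : Fact (Nat.Prime 2) := ⟨Nat.prime_two⟩
  have hzV : z ∈ V := (hz.h4 V hVS hV).1
  have hzA : z ∈ A := hSA hz.hzS
  have hz1 : z ≠ 1 := by
    intro h
    have := hz.hz2
    rw [h, orderOf_one] at this
    omega
  have hzz : z * z = 1 := by
    have := pow_orderOf_eq_one z
    rw [hz.hz2, sq] at this
    exact this
  have hV2 : ∀ v ∈ V, v * v = 1 := by
    intro v hv
    have h := hV.exponent_two
    have h2 : (⟨v, hv⟩ : V) ^ 2 = 1 := by
      rw [← h]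
      exact Monoid.pow_exponent_eq_one _
    have h3 := congrArg Subtype.val h2
    simpa [sq] using h3
  have hVcomm : ∀ v ∈ V, ∀ w ∈ V, v * w = w * v := by
    intro v hv w hw
    have h1 := hV2 v hv
    have h2 := hV2 w hw
    have h3 := hV2 (v * w) (V.mul_mem hv hw)
    -- v w v w = 1 => v w = w⁻¹ v⁻¹ = w v
    have hv' : v⁻¹ = v := inv_eq_of_mul_eq_one_right h1
    have hw' : w⁻¹ = w := inv_eq_of_mul_eq_one_right h2
    have : v * w = (v * w)⁻¹ := (inv_eq_of_mul_eq_one_right h3).symm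
    rw [this, mul_inv_rev, hv', hw']
  have hcinv : c⁻¹ = z * c := by
    apply inv_eq_of_mul_eq_one_right
    calc c * (z * c) = c * (c * c * c) := by rw [hcc]
      _ = (c * c) * (c * c) := by group
      _ = 1 := by rw [hcc, hzz]
  have hcinv' : c = c⁻¹ * z⁻¹ := by
    have : c = (z * c)⁻¹ := by rw [← hcinv, inv_inv]
    rw [mul_inv_rev] at this
    exact this
  have hcN' : ∀ a ∈ A, c⁻¹ * a * c ∈ A := by
    intro a ha
    have h1 : z * (c * a * c⁻¹) * z⁻¹ = c⁻¹ * a * c := by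
      calc z * (c * a * c⁻¹) * z⁻¹ = (z * c) * a * (c⁻¹ * z⁻¹) := by group
        _ = c⁻¹ * a * c := by rw [← hcinv, ← hcinv']
    rw [← h1]
    exact A.mul_mem (A.mul_mem hzA (hcN a ha)) (A.inv_mem hzA)
  have hcnorm : c ∈ Subgroup.normalizer (A : Set G) := by
    rw [Subgroup.mem_normalizer_iff]
    intro a
    constructor
    · exact hcN a
    · intro h
      have := hcN' _ h
      have h2 : c⁻¹ * (c * a * c⁻¹) * c = a := by group
      rw [h2] at this
      exact this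
  set A₁ : Subgroup G := A ⊔ Subgroup.zpowers c with hA₁def
  have hzc_le : Subgroup.zpowers c ≤ Subgroup.normalizer (A : Set G) :=
    (Subgroup.zpowers_le).mpr hcnorm
  have hA₁N : A₁ ≤ Subgroup.normalizer (A : Set G) := sup_le Subgroup.le_normalizer hzc_le
  have hA₁ : ∀ g ∈ A₁, g ∈ A ∨ g * c⁻¹ ∈ A := by
    intro g hg
    obtain ⟨a, ha, b, hb, rfl⟩ := h42_mem_sup_norm hzc_le hg
    obtain ⟨i, rfl⟩ := Subgroup.mem_zpowers_iff.mp hb
    rcases Int.even_or_odd' i with ⟨j, rfl | rfl⟩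
    · left
      have : c ^ (2 * j) = z ^ j := by rw [zpow_mul, zpow_two, hcc]
      rw [this]
      exact A.mul_mem ha (A.zpow_mem hzA j)
    · right
      have : c ^ (2 * j + 1) = z ^ j * c := by rw [zpow_add, zpow_one, zpow_mul, zpow_two, hcc]
      rw [this]
      have h2 : a * (z ^ j * c) * c⁻¹ = a * z ^ j := by group
      rw [h2]
      exact A.mul_mem ha (A.zpow_mem hzA j)
  have hcV : ∀ v ∈ V, c * v = v * c := fun v hv => hcS v (hVS hv)
  have hmV' : ∀ v ∈ V, ∃ v₀ ∈ V, m * v₀ * m⁻¹ = v := by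
    intro v hv
    have hinj : Function.Injective (fun w : V => (⟨m * w.1 * m⁻¹, hmV w.1 w.2⟩ : V)) := by
      intro w w' h
      simp only [Subtype.mk.injEq] at h
      ext
      simpa using h
    obtain ⟨w, hw⟩ := (Finite.injective_iff_surjective.mp hinj) ⟨v, hv⟩
    exact ⟨w.1, w.2, congrArg Subtype.val hw⟩
  set c' := m * c * m⁻¹ with hc'
  have hc'V : ∀ v ∈ V, c' * v = v * c' := by
    intro v hv
    obtain ⟨v₀, hv₀, rfl⟩ := hmV' v hv
    have := hcV v₀ hv₀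
    calc c' * (m * v₀ * m⁻¹) = m * (c * v₀) * m⁻¹ := by rw [hc']; group
      _ = m * (v₀ * c) * m⁻¹ := by rw [this]
      _ = m * v₀ * m⁻¹ * c' := by rw [hc']; group
  have hc'sq : c' * c' = m * z * m⁻¹ := by rw [hc', ← hcc]; group
  have hcA₁ : c ∈ A₁ := le_sup_right (a := A) (Subgroup.mem_zpowers c)
  have hmA₁ : m ∈ A₁ := le_sup_left (b := Subgroup.zpowers c) hm
  have hc'A₁ : c' ∈ A₁ := A₁.mul_mem (A₁.mul_mem hmA₁ hcA₁) (A₁.inv_mem hmA₁)
  have hc'A : c' ∉ A := by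
    intro h
    apply hcA
    have : c = m⁻¹ * c' * m := by rw [hc']; group
    rw [this]
    exact A.mul_mem (A.mul_mem (A.inv_mem hm) h) hm
  -- the group C
  set C : Subgroup G := A₁ ⊓ Subgroup.centralizer (V : Set G) with hCdef
  have hmemC : ∀ g : G, g ∈ C ↔ g ∈ A₁ ∧ ∀ v ∈ V, g * v = v * g := by
    intro g
    rw [hCdef, Subgroup.mem_inf, Subgroup.mem_centralizer_iff]
    constructor
    · rintro ⟨h1, h2⟩
      exact ⟨h1, fun v hv => (h2 v hv).symm⟩
    · rintro ⟨h1, h2⟩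
      exact ⟨h1, fun v hv => (h2 v hv).symm⟩
  have hcC : c ∈ C := (hmemC c).2 ⟨hcA₁, hcV⟩
  have hc'C : c' ∈ C := (hmemC c').2 ⟨hc'A₁, hc'V⟩
  have hVC : V ≤ C := fun v hv =>
    (hmemC v).2 ⟨le_sup_left (b := Subgroup.zpowers c) (hSA (hVS hv)), fun w hw => hVcomm v hv w hw⟩
  -- 2-subgroups of C
  have hc4 : c ^ 4 = 1 := by
    have : c ^ 4 = (c * c) * (c * c) := by
      rw [show (4 : ℕ) = 2 + 2 from rfl, pow_add, pow_two]
    rw [this, hcc, hzz]
  have hc'4 : c' ^ 4 = 1 := by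
    rw [hc', conj_pow, hc4]; group
  have hpg : ∀ x : C, x ^ 4 = 1 → IsPGroup 2 (Subgroup.zpowers x) := by
    intro x hx
    apply IsPGroup.of_card (n := (Nat.factorization (orderOf x)) 2)
    rw [Nat.card_zpowers]
    have hdvd : orderOf x ∣ 2 ^ 2 := orderOf_dvd_of_pow_eq_one (by simpa using hx)
    obtain ⟨k, hk, hk2⟩ := (Nat.dvd_prime_pow Nat.prime_two).mp hdvd
    rw [hk2]
    simp [Nat.Prime.factorization_pow Nat.prime_two]
  obtain ⟨P, hP⟩ := (hpg ⟨c, hcC⟩ (Subtype.ext hc4)).exists_le_sylow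
  obtain ⟨P', hP'⟩ := (hpg ⟨c', hc'C⟩ (Subtype.ext hc'4)).exists_le_sylow
  obtain ⟨k, hk⟩ := MulAction.exists_smul_eq C P' P
  -- V is central in C, hence a normal 2-subgroup of C, hence inside P
  have hVn : (V.subgroupOf C).Normal := by
    constructor
    intro x hx g
    rw [Subgroup.mem_subgroupOf] at hx ⊢
    have hg := ((hmemC g.1).1 g.2).2 x.1 hx
    have : ((g * x * g⁻¹ : C) : G) = x.1 := by
      push_cast
      rw [hg]; group
    rw [this]
    exact hx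
  have hV2g : IsPGroup 2 (V.subgroupOf C) := by
    intro x
    refine ⟨1, ?_⟩
    have := hV2 x.1.1 x.2
    ext
    simpa [sq] using this
  have hVP : V.subgroupOf C ≤ P := by
    haveI := hVn
    exact hV2g.le_sylow_of_normal P
  -- R := image of P in G
  set R : Subgroup G := (P : Subgroup C).map C.subtype with hRdef
  have hRC : R ≤ C := by
    rintro _ ⟨x, _, rfl⟩
    exact x.2
  have hR2 : IsPGroup 2 R := P.2.map C.subtype
  have hVR : V ≤ R := by
    intro v hv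
    exact ⟨⟨v, hVC hv⟩, hVP (Subgroup.mem_subgroupOf.mpr hv), rfl⟩
  have hcR : c ∈ R := ⟨⟨c, hcC⟩, hP (Subgroup.mem_zpowers _), rfl⟩
  -- d := k c' k⁻¹ ∈ R
  have hdP : k * ⟨c', hc'C⟩ * k⁻¹ ∈ (P : Subgroup C) := by
    have h1 : (⟨c', hc'C⟩ : C) ∈ (P' : Subgroup C) := hP' (Subgroup.mem_zpowers _)
    have h2 : MulAut.conj k • (⟨c', hc'C⟩ : C) ∈ MulAut.conj k • (P' : Subgroup C) :=
      Subgroup.smul_mem_pointwise_smul _ _ _ h1
    rw [← hk, Sylow.coe_subgroup_smul]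
    exact h2
  set d : G := k.1 * c' * k.1⁻¹ with hd
  have hdR : d ∈ R := ⟨k * ⟨c', hc'C⟩ * k⁻¹, hdP, rfl⟩
  have hkC := (hmemC k.1).1 k.2
  have hdA₁ : d ∈ A₁ := (hmemC d).1 (hRC hdR) |>.1
  have hdA : d ∉ A := by
    intro h
    apply hc'A
    have hkn := hA₁N hkC.1
    rw [Subgroup.mem_normalizer_iff] at hkn
    exact (hkn c').2 h
  -- R ⊓ A = V
  have hRA : R ⊓ A = V := by
    apply hF0 (R ⊓ A) inf_le_right (hR2.to_le inf_le_left) (le_inf hVR (hVS.trans hSA))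
    intro r hr v hv
    exact ((hmemC r).1 (hRC hr.1)).2 v hv
  -- d c⁻¹ ∈ V
  have hdc : d * c⁻¹ ∈ V := by
    rw [← hRA]
    refine ⟨R.mul_mem hdR (R.inv_mem hcR), ?_⟩
    rcases hA₁ d hdA₁ with h | h
    · exact absurd h hdA
    · exact h
  -- d * d = z
  have hdd : d * d = z := by
    set v := d * c⁻¹ with hv
    have hdv : d = v * c := by rw [hv]; group
    have h1 := hcV v hdc
    have h2 := hV2 v hdc
    calc d * d = v * (c * v) * c := by rw [hdv]; group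
      _ = v * (v * c) * c := by rw [h1]
      _ = (v * v) * (c * c) := by group
      _ = z := by rw [h2, hcc, one_mul]
  -- d * d = k (m z m⁻¹) k⁻¹ = m z m⁻¹
  have hz'V : m * z * m⁻¹ ∈ V := hmV z hzV
  have hkz := hkC.2 (m * z * m⁻¹) hz'V
  have hdd' : d * d = m * z * m⁻¹ := by
    calc d * d = k.1 * (c' * c') * k.1⁻¹ := by rw [hd]; group
      _ = k.1 * (m * z * m⁻¹) * k.1⁻¹ := by rw [hc'sq]
      _ = (m * z * m⁻¹) * k.1 * k.1⁻¹ := by rw [hkz]
      _ = m * z * m⁻¹ := by group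
  rw [← hdd', hdd]

end Cfsg.Agent.Lib.helper42.FG
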