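import Mathlib
import Cfsg.Prelude.Def_FusionSystem
import Cfsg.Prelude.Def_CaseTheorems

/-!
helper42: S5213 pieces G3 (exists_central_inv), G6 (transport_type), G7 (prod_equiv_pi).
-/

set_option autoImplicit false

open Cfsg

namespace Cfsg.Agent.Lib.helper42.FS13

/-- PIECE G3: a non-trivial finite 2-group has a central involution. -/
theorem exists_central_inv {T : Type*} [Group T] [Finite T] (hT : IsPGroup 2 T)
    (h : Cfsg.PRankAtLeast 2 2 T) : ∃ z : T, orderOf z = 2 ∧ ∀ g : T, g * z = z * g := by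
  have hp : Fact (Nat.Prime 2) := ⟨Nat.prime_two⟩
  obtain ⟨A, -, -, hA⟩ := h
  have hnt : Nontrivial T := by
    rw [← Finite.one_lt_card_iff_nontrivial]
    have h1 : Nat.card A ≤ Nat.card T := Subgroup.card_le_card_group A
    have h2 : (4 : ℕ) ≤ Nat.card A := by simpa using hA
    omega
  have hcn : Nontrivial (Subgroup.center T) := hT.center_nontrivial
  have hcp : IsPGroup 2 (Subgroup.center T) := hT.to_subgroup _
  obtain ⟨k, hk⟩ := IsPGroup.iff_card.1 hcp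
  have hk0 : k ≠ 0 := by
    rintro rfl
    rw [pow_zero] at hk
    have : 1 < Nat.card (Subgroup.center T) := Finite.one_lt_card
    omega
  have hdvd : 2 ∣ Nat.card (Subgroup.center T) := by
    rw [hk]
    exact dvd_pow_self 2 hk0
  obtain ⟨z, hz⟩ := exists_prime_orderOf_dvd_card' (G := Subgroup.center T) 2 hdvd
  refine ⟨z.1, by rw [Subgroup.orderOf_coe]; exact hz, ?_⟩
  intro g
  exact (Subgroup.mem_center_iff.1 z.2 g)

/-- PIECE G6: type transport from `T = C_S(v) ≤ Ω` to the centralizer of `v` inside `↥S`. -/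
theorem transport_type {Ω : Type*} [Group Ω] (S : Subgroup Ω) (z v : Ω) (hzS : z ∈ S)
    (hvS : v ∈ S) (T : Subgroup Ω) (hT : ∀ x : Ω, x ∈ T ↔ x ∈ S ∧ x * v = v * x)
    (hzT : z ∈ T) (hvT : v ∈ T) (φ : MulAut T)
    (hφz : ((φ ⟨z, hzT⟩ : T) : Ω) = v) (hφv : ((φ ⟨v, hvT⟩ : T) : Ω) = z * v)
    (hzc : (⟨z, hzS⟩ : S) ∈ Subgroup.centralizer ({(⟨v, hvS⟩ : S)} : Set S))
    (hvc : (⟨v, hvS⟩ : S) ∈ Subgroup.centralizer ({(⟨v, hvS⟩ : S)} : Set S)) :
    ∃ ψ : MulAut ↥(Subgroup.centralizer ({(⟨v, hvS⟩ : S)} : Set S)),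
      ((ψ ⟨⟨z, hzS⟩, hzc⟩ : ↥(Subgroup.centralizer ({(⟨v, hvS⟩ : S)} : Set S))) : S) =
        ⟨v, hvS⟩ ∧
      ((ψ ⟨⟨v, hvS⟩, hvc⟩ : ↥(Subgroup.centralizer ({(⟨v, hvS⟩ : S)} : Set S))) : S) =
        ⟨z, hzS⟩ * ⟨v, hvS⟩ := by
  have hmem : ∀ x : T, (⟨x.1, ((hT x.1).1 x.2).1⟩ : S) ∈
      Subgroup.centralizer ({(⟨v, hvS⟩ : S)} : Set S) := by
    intro x
    rw [Subgroup.mem_centralizer_singleton_iff]
    exact Subtype.ext ((hT x.1).1 x.2).2
  have hmem' : ∀ y : ↥(Subgroup.centralizer ({(⟨v, hvS⟩ : S)} : Set S)), (y.1.1 : Ω) ∈ T := by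
    intro y
    rw [hT]
    refine ⟨y.1.2, ?_⟩
    have := y.2
    rw [Subgroup.mem_centralizer_singleton_iff] at this
    exact congrArg Subtype.val this
  let e : T ≃* ↥(Subgroup.centralizer ({(⟨v, hvS⟩ : S)} : Set S)) :=
    { toFun := fun x => ⟨⟨x.1, ((hT x.1).1 x.2).1⟩, hmem x⟩
      invFun := fun y => ⟨y.1.1, hmem' y⟩
      left_inv := fun x => rfl
      right_inv := fun y => rfl
      map_mul' := fun x y => rfl }
  refine ⟨e.symm.trans (φ.trans e), ?_, ?_⟩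
  · apply Subtype.ext
    exact hφz
  · apply Subtype.ext
    exact hφv

/-- PIECE G7. -/
theorem prod_equiv_pi (n : ℕ) :
    Nonempty (Multiplicative (ZMod (2 ^ n) × ZMod (2 ^ n)) ≃*
      Multiplicative (Fin 2 → ZMod (2 ^ n))) :=
  ⟨AddEquiv.toMultiplicative (LinearEquiv.finTwoArrow ℤ (ZMod (2 ^ n))).symm.toAddEquiv⟩

end Cfsg.Agent.Lib.helper42.FS13
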