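import Cfsg.Agent.Lib.helper42.SemiFaithful
import Cfsg.Agent.Lib.helper42.AutImage4

/-!
The image `Cfsg.gammaPOmega F Q` of the semisimilarity group in `Aut(PΩ(Q))`: the field automorphism of an
element is well defined, which gives a homomorphism to `RingAut F` with kernel the image of the conformal
orthogonal group; consequences for orders.  Valid in every characteristic (finite field, three hyperbolic pairs,
dimension at least five).
-/

set_option autoImplicit false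
set_option linter.unusedSectionVars false

namespace Cfsg.Agent.Lib.helper42

open Matrix Cfsg Cfsg.Agent.Lib.helper17

section
variable {ι : Type} [Fintype ι] [DecidableEq ι] {F : Type*} [Field F]

theorem GLmap_symm' (σ : F ≃+* F) (x : GL ι F) :
    Matrix.GeneralLinearGroup.map (σ.symm : F →+* F)
      (Matrix.GeneralLinearGroup.map (σ : F →+* F) x) = x := by
  apply Units.ext
  ext i j
  exact σ.symm_apply_apply _

/-- conjugation by the semilinear map `v ↦ g σ(v)` as an automorphism of the isometry group -/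
noncomputable def semiConjEquiv (Q : (ι → F) → F) (g : GL ι F) (σ : F ≃+* F)
    (hpair : IsSemisimilarityPair Q g σ) : MulAut ↥(isometryGroup F Q) :=
  MonoidHom.toMulEquiv (semiConj Q g σ hpair)
    (semiConj Q (Matrix.GeneralLinearGroup.map (σ.symm : F →+* F) g⁻¹) σ.symm (pair_inv Q g σ hpair))
    (by
      refine MonoidHom.ext fun s => Subtype.ext ?_
      show Matrix.GeneralLinearGroup.map (σ.symm : F →+* F) g⁻¹
        * Matrix.GeneralLinearGroup.map (σ.symm : F →+* F)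
            (g * Matrix.GeneralLinearGroup.map (σ : F →+* F) (s : GL ι F) * g⁻¹)
        * (Matrix.GeneralLinearGroup.map (σ.symm : F →+* F) g⁻¹)⁻¹ = (s : GL ι F)
      simp only [map_mul, map_inv, GLmap_symm']
      group)
    (by
      refine MonoidHom.ext fun s => Subtype.ext ?_
      show g * Matrix.GeneralLinearGroup.map (σ : F →+* F)
            (Matrix.GeneralLinearGroup.map (σ.symm : F →+* F) g⁻¹
              * Matrix.GeneralLinearGroup.map (σ.symm : F →+* F) (s : GL ι F)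
              * (Matrix.GeneralLinearGroup.map (σ.symm : F →+* F) g⁻¹)⁻¹) * g⁻¹ = (s : GL ι F)
      simp only [map_mul, map_inv, GLmap_symm]
      group)

theorem semiConjEquiv_coe (Q : (ι → F) → F) (g : GL ι F) (σ : F ≃+* F)
    (hpair : IsSemisimilarityPair Q g σ) (s : ↥(isometryGroup F Q)) :
    ((semiConjEquiv Q g σ hpair s : ↥(isometryGroup F Q)) : GL ι F)
      = g * Matrix.GeneralLinearGroup.map (σ : F →+* F) (s : GL ι F) * g⁻¹ := rfl

/-- the automorphism of `PΩ(Q)` induced by a semisimilarity -/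
noncomputable def PsiSemi (Q : (ι → F) → F) (g : GL ι F) (σ : F ≃+* F)
    (hpair : IsSemisimilarityPair Q g σ) : MulAut (POmega F Q) :=
  charQuot (Subgroup.center (Omega F Q))
    (charRestrict (commutator ↥(isometryGroup F Q)) (semiConjEquiv Q g σ hpair))

theorem PsiSemi_induced (Q : (ι → F) → F) (g : GL ι F) (σ : F ≃+* F)
    (hpair : IsSemisimilarityPair Q g σ) :
    IsInducedBySemilinearPOmega Q g σ (PsiSemi Q g σ hpair) := by
  rw [induced_GL_iff]
  intro s s' hs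
  show QuotientGroup.mk _ = QuotientGroup.mk s'
  congr 1
  apply Subtype.ext
  apply Subtype.ext
  exact hs.symm

theorem induced_iff_eq_PsiSemi (Q : (ι → F) → F) (g : GL ι F) (σ : F ≃+* F)
    (hpair : IsSemisimilarityPair Q g σ) (β : MulAut (POmega F Q)) :
    IsInducedBySemilinearPOmega Q g σ β ↔ β = PsiSemi Q g σ hpair := by
  constructor
  · intro h
    ext y
    induction y using QuotientGroup.induction_on with
    | H s =>
      obtain ⟨s', hs'⟩ := exists_semiConj_Omega Q g σ hpair s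
      rw [((induced_GL_iff Q g σ β).mp h) s s' hs',
        ((induced_GL_iff Q g σ _).mp (PsiSemi_induced Q g σ hpair)) s s' hs']
  · rintro rfl
    exact PsiSemi_induced Q g σ hpair

theorem PsiSemi_mem_gamma (Q : (ι → F) → F) (g : GL ι F) (σ : F ≃+* F)
    (hpair : IsSemisimilarityPair Q g σ) : PsiSemi Q g σ hpair ∈ gammaPOmega F Q :=
  Subgroup.subset_closure ⟨g, σ, hpair, PsiSemi_induced Q g σ hpair⟩

theorem pair_refl_iff (Q : (ι → F) → F) (g : GL ι F) :
    IsSemisimilarityPair Q g (RingEquiv.refl F) ↔ g ∈ Geo.quadSimilarityGroup (F := F) Q :=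
  Iff.rfl

theorem pgoAut_le_gamma (Q : (ι → F) → F) : pgoAut F Q ≤ gammaPOmega F Q := by
  unfold pgoAut gammaPOmega autSubgroupOf
  apply Subgroup.closure_mono
  rintro β ⟨g, hg, hind⟩
  exact ⟨g, RingEquiv.refl F, (pair_refl_iff Q g).mpr hg, hind⟩

theorem mem_pgoAut_iff (Q : (ι → F) → F) (β : MulAut (POmega F Q)) :
    β ∈ pgoAut F Q ↔ ∃ g : GL ι F, g ∈ Geo.quadSimilarityGroup (F := F) Q ∧
      IsInducedBySemilinearPOmega Q g (RingEquiv.refl F) β := by
  rw [pgoAut_eq, mem_img]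
  constructor
  · rintro ⟨⟨g, hgC⟩, -, rfl⟩
    exact ⟨g, hgC, (induced_iff Q g hgC _).mpr rfl⟩
  · rintro ⟨g, hgC, hind⟩
    exact ⟨⟨g, hgC⟩, hgC, ((induced_iff Q g hgC β).mp hind).symm⟩

end

section
variable {ι : Type} [Fintype ι] [DecidableEq ι] {F : Type*} [Field F]

/-- **faithfulness**, all characteristics: a semisimilarity inducing the identity on `PΩ(Q)` has trivial field
automorphism -/
theorem sigma_fix_of_induced_one_fin [Finite F] (Q : QuadraticForm F (ι → F))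
    (hQ : (QuadraticMap.polarBilin Q).Nondegenerate) (fr : HypFrame3 Q) (h5 : 5 ≤ Fintype.card ι)
    (g : GL ι F) (σ : F ≃+* F) (hpair : IsSemisimilarityPair ⇑Q g σ)
    (hind : IsInducedBySemilinearPOmega ⇑Q g σ (1 : MulAut (POmega F ⇑Q))) : ∀ x : F, σ x = x := by
  by_cases h2 : (2 : F) ≠ 0
  · exact sigma_fix_of_induced_one h2 Q hQ fr h5 g σ hpair hind
  rw [not_not] at h2
  have hneg : ∀ M : Matrix ι ι F, -M = M := by
    intro M
    have h : M + M = 0 := by
      rw [← two_smul F M, h2, zero_smul]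
    exact neg_eq_of_add_eq_zero_left h
  have hZiZ : (((g : GL ι F)⁻¹ : GL ι F) : Matrix ι ι F) * ((g : GL ι F) : Matrix ι ι F) = 1 := by
    rw [← Units.val_mul, inv_mul_cancel, Units.val_one]
  have key : ∀ s : ↥(Omega F ⇑Q),
      ((g : GL ι F) : Matrix ι ι F) * ((((s : ↥(isometryGroup F ⇑Q)) : GL ι F) : Matrix ι ι F)).map σ
          * (((g : GL ι F)⁻¹ : GL ι F) : Matrix ι ι F)
        = (((s : ↥(isometryGroup F ⇑Q)) : GL ι F) : Matrix ι ι F) := by
    intro s
    obtain ⟨s', hs'⟩ := exists_semiConj_Omega ⇑Q g σ hpair s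
    have h1 : (QuotientGroup.mk s' : POmega F ⇑Q) = QuotientGroup.mk s :=
      (((induced_GL_iff ⇑Q g σ 1).mp hind) s s' hs').symm
    have h2' : s'⁻¹ * s ∈ Subgroup.center (Omega F ⇑Q) := QuotientGroup.eq.mp h1
    have h3 : (((s' : ↥(isometryGroup F ⇑Q)) : GL ι F) : Matrix ι ι F)
        * ((((s'⁻¹ * s : ↥(Omega F ⇑Q)) : ↥(isometryGroup F ⇑Q)) : GL ι F) : Matrix ι ι F)
        = (((s : ↥(isometryGroup F ⇑Q)) : GL ι F) : Matrix ι ι F) :=
      congrArg (fun w : ↥(Omega F ⇑Q) => (((w : ↥(isometryGroup F ⇑Q)) : GL ι F) : Matrix ι ι F))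
        (mul_inv_cancel_left s' s)
    have hs'' : (((s' : ↥(isometryGroup F ⇑Q)) : GL ι F) : Matrix ι ι F)
        = ((g : GL ι F) : Matrix ι ι F)
          * ((((s : ↥(isometryGroup F ⇑Q)) : GL ι F) : Matrix ι ι F)).map σ
          * (((g : GL ι F)⁻¹ : GL ι F) : Matrix ι ι F) :=
      congrArg (fun x : GL ι F => (x : Matrix ι ι F)) hs'
    rw [← hs'']
    rcases center_Omega_pm Q hQ fr _ h2' with h | h
    · rw [h, Matrix.mul_one] at h3
      exact h3
    · rw [h, hneg, Matrix.mul_one] at h3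
      exact h3
  -- the field automorphism fixes all squares
  have hsq : ∀ y : F, σ (y * y) = y * y := by
    intro y
    obtain ⟨u, v, hu, hv, huv⟩ := fr.exists_pair_polar (y - 1)
    have hu0 : Q u ≠ 0 := by rw [hu]; exact one_ne_zero
    have hv0 : Q v ≠ 0 := by rw [hv]; exact one_ne_zero
    have hmem := refl_mul_refl_mem_commutator_of_eq Q hQ u v hu0 hv0 (by rw [hu, hv])
    have hk := key ⟨_, hmem⟩
    simp only [Subgroup.coe_mul, Units.val_mul, reflectionIsom_coe] at hk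
    have htr := congrArg Matrix.trace hk
    rw [Matrix.trace_mul_comm, ← Matrix.mul_assoc, hZiZ, Matrix.one_mul,
      ← AddMonoidHom.map_trace σ, trace_refl_mul_refl Q u v hu hv, huv] at htr
    have h1 : (1 : F) + (y - 1) = y := by ring
    rw [h1, map_add, map_sub, map_natCast, map_ofNat] at htr
    exact add_left_cancel htr
  intro x
  have : Fact (Nat.Prime 2) := ⟨Nat.prime_two⟩
  have : CharP F 2 := CharTwo.of_one_ne_zero_of_two_eq_zero one_ne_zero h2
  obtain ⟨y, rfl⟩ : ∃ y : F, y * y = x := by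
    have hsurj := (Finite.injective_iff_surjective.mp (frobenius_inj F 2))
    obtain ⟨y, hy⟩ := hsurj x
    exact ⟨y, by rw [← hy, frobenius_def, pow_two]⟩
  exact hsq y

/-- two semisimilarities inducing the same automorphism of `PΩ(Q)` have the same field automorphism -/
theorem sigma_unique [Finite F] (Q : QuadraticForm F (ι → F))
    (hQ : (QuadraticMap.polarBilin Q).Nondegenerate) (fr : HypFrame3 Q) (h5 : 5 ≤ Fintype.card ι)
    (β : MulAut (POmega F ⇑Q)) (g₁ g₂ : GL ι F) (σ₁ σ₂ : F ≃+* F)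
    (hp₁ : IsSemisimilarityPair ⇑Q g₁ σ₁) (hp₂ : IsSemisimilarityPair ⇑Q g₂ σ₂)
    (hi₁ : IsInducedBySemilinearPOmega ⇑Q g₁ σ₁ β) (hi₂ : IsInducedBySemilinearPOmega ⇑Q g₂ σ₂ β) :
    σ₁ = σ₂ := by
  have hp := pair_mul ⇑Q g₁ _ σ₁ σ₂.symm hp₁ (pair_inv ⇑Q g₂ σ₂ hp₂)
  have hi := induced_mul ⇑Q g₁ _ σ₁ σ₂.symm (pair_inv ⇑Q g₂ σ₂ hp₂) β β⁻¹ hi₁ (induced_inv ⇑Q g₂ σ₂ β hi₂)
  rw [mul_inv_cancel] at hi
  have h := sigma_fix_of_induced_one_fin Q hQ fr h5 _ _ hp hi
  ext x
  have := h (σ₂ x)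
  simpa using this

/-- the field automorphism of an element of the image of the semisimilarity group -/
theorem exists_sigma_of_mem_gamma (Q : (ι → F) → F) (β : ↥(gammaPOmega F Q)) :
    ∃ σ : F ≃+* F, ∃ g : GL ι F, IsSemisimilarityPair Q g σ ∧
      IsInducedBySemilinearPOmega Q g σ (β : MulAut (POmega F Q)) := by
  obtain ⟨g, σ, h1, h2⟩ := exists_pair_of_mem_gamma Q β.1 β.2
  exact ⟨σ, g, h1, h2⟩

/-- the homomorphism "field automorphism" on the image of the semisimilarity group -/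
noncomputable def sigmaHom [Finite F] (Q : QuadraticForm F (ι → F))
    (hQ : (QuadraticMap.polarBilin Q).Nondegenerate) (fr : HypFrame3 Q) (h5 : 5 ≤ Fintype.card ι) :
    ↥(gammaPOmega F ⇑Q) →* RingAut F where
  toFun β := Classical.choose (exists_sigma_of_mem_gamma ⇑Q β)
  map_one' := by
    obtain ⟨g, hp, hi⟩ := Classical.choose_spec (exists_sigma_of_mem_gamma ⇑Q (1 : ↥(gammaPOmega F ⇑Q)))
    exact sigma_unique Q hQ fr h5 1 g 1 _ (RingEquiv.refl F) hp (pair_one ⇑Q) hi (induced_one ⇑Q)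
  map_mul' β₁ β₂ := by
    obtain ⟨g, hp, hi⟩ := Classical.choose_spec (exists_sigma_of_mem_gamma ⇑Q (β₁ * β₂))
    obtain ⟨g₁, hp₁, hi₁⟩ := Classical.choose_spec (exists_sigma_of_mem_gamma ⇑Q β₁)
    obtain ⟨g₂, hp₂, hi₂⟩ := Classical.choose_spec (exists_sigma_of_mem_gamma ⇑Q β₂)
    exact sigma_unique Q hQ fr h5 _ g _ _ _ hp (pair_mul ⇑Q g₁ g₂ _ _ hp₁ hp₂) hi
      (induced_mul ⇑Q g₁ g₂ _ _ hp₂ _ _ hi₁ hi₂)

theorem sigmaHom_eq [Finite F] (Q : QuadraticForm F (ι → F))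
    (hQ : (QuadraticMap.polarBilin Q).Nondegenerate) (fr : HypFrame3 Q) (h5 : 5 ≤ Fintype.card ι)
    (β : ↥(gammaPOmega F ⇑Q)) (g : GL ι F) (σ : F ≃+* F) (hp : IsSemisimilarityPair ⇑Q g σ)
    (hi : IsInducedBySemilinearPOmega ⇑Q g σ (β : MulAut (POmega F ⇑Q))) :
    sigmaHom Q hQ fr h5 β = σ := by
  obtain ⟨g', hp', hi'⟩ := Classical.choose_spec (exists_sigma_of_mem_gamma ⇑Q β)
  exact sigma_unique Q hQ fr h5 _ g' g _ _ hp' hp hi' hi

theorem sigmaHom_spec [Finite F] (Q : QuadraticForm F (ι → F))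
    (hQ : (QuadraticMap.polarBilin Q).Nondegenerate) (fr : HypFrame3 Q) (h5 : 5 ≤ Fintype.card ι)
    (β : ↥(gammaPOmega F ⇑Q)) :
    ∃ g : GL ι F, IsSemisimilarityPair ⇑Q g (sigmaHom Q hQ fr h5 β) ∧
      IsInducedBySemilinearPOmega ⇑Q g (sigmaHom Q hQ fr h5 β) (β : MulAut (POmega F ⇑Q)) :=
  Classical.choose_spec (exists_sigma_of_mem_gamma ⇑Q β)

theorem sigmaHom_ker [Finite F] (Q : QuadraticForm F (ι → F))
    (hQ : (QuadraticMap.polarBilin Q).Nondegenerate) (fr : HypFrame3 Q) (h5 : 5 ≤ Fintype.card ι) :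
    (sigmaHom Q hQ fr h5).ker = (pgoAut F ⇑Q).subgroupOf (gammaPOmega F ⇑Q) := by
  ext β
  rw [MonoidHom.mem_ker, Subgroup.mem_subgroupOf, mem_pgoAut_iff]
  constructor
  · intro h
    obtain ⟨g, hp, hi⟩ := sigmaHom_spec Q hQ fr h5 β
    rw [h] at hp hi
    exact ⟨g, hp, hi⟩
  · rintro ⟨g, hg, hi⟩
    exact sigmaHom_eq Q hQ fr h5 β g (RingEquiv.refl F) hg hi

theorem mem_sigmaHom_range [Finite F] (Q : QuadraticForm F (ι → F))
    (hQ : (QuadraticMap.polarBilin Q).Nondegenerate) (fr : HypFrame3 Q) (h5 : 5 ≤ Fintype.card ι)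
    (σ : RingAut F) :
    σ ∈ (sigmaHom Q hQ fr h5).range ↔ ∃ g : GL ι F, IsSemisimilarityPair ⇑Q g σ := by
  constructor
  · rintro ⟨β, rfl⟩
    obtain ⟨g, hp, -⟩ := sigmaHom_spec Q hQ fr h5 β
    exact ⟨g, hp⟩
  · rintro ⟨g, hp⟩
    exact ⟨⟨PsiSemi ⇑Q g σ hp, PsiSemi_mem_gamma ⇑Q g σ hp⟩,
      sigmaHom_eq Q hQ fr h5 _ g σ hp (PsiSemi_induced ⇑Q g σ hp)⟩

/-- the order of the image of the semisimilarity group, when every field automorphism occurs -/
theorem card_gamma [Finite F] (Q : QuadraticForm F (ι → F))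
    (hQ : (QuadraticMap.polarBilin Q).Nondegenerate) (fr : HypFrame3 Q) (h5 : 5 ≤ Fintype.card ι)
    (hall : ∀ σ : F ≃+* F, ∃ g : GL ι F, IsSemisimilarityPair ⇑Q g σ) :
    Nat.card ↥(gammaPOmega F ⇑Q) = Nat.card ↥(pgoAut F ⇑Q) * Nat.card (F ≃+* F) := by
  have hsurj : (sigmaHom Q hQ fr h5).range = ⊤ := by
    rw [eq_top_iff]
    intro σ _
    exact (mem_sigmaHom_range Q hQ fr h5 σ).mpr (hall σ)
  have h1 := Subgroup.card_mul_index (sigmaHom Q hQ fr h5).ker
  rw [Subgroup.index_ker, hsurj, Subgroup.card_top, sigmaHom_ker] at h1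
  rw [← h1]
  congr 1
  exact Nat.card_congr (Subgroup.subgroupOfEquivOfLe (pgoAut_le_gamma ⇑Q)).toEquiv

end

end Cfsg.Agent.Lib.helper42
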