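import Cfsg.Agent.Lib.helper42.MinusExt

/-!
`Inndiag(PΩ⁻_{2m+2}(q)) / Inn`, `q` odd: a similarity of the minus-type form preserves the two classes of
maximal totally singular subspaces over a quadratic extension iff `det g = μ(g)^(m+1)`; the quotient is `Z₄`
if `-1 ∈ Ω` and `Z₂` otherwise.
-/

set_option autoImplicit false
set_option linter.unusedSectionVars false

universe u

namespace Cfsg.Agent.Lib.helper42

open Matrix Cfsg Cfsg.Agent.Lib.helper17 Module Polynomial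
open Cfsg.Agent.Lib.helper49 (minusForm minusForm_coe plusForm plusForm_coe gramMinusL gramPlus
  polar_quadFormMinus)

section
variable {F : Type u} [Field F] [Fintype F]

theorem card_minus_index (m : ℕ) : Fintype.card ((Fin m ⊕ Fin m) ⊕ Fin 2) = 2 * m + 2 := by
  simp only [Fintype.card_sum, Fintype.card_fin]
  omega

/-- over a quadratic extension `K`, a similarity `g` of the minus-type form with multiplier `μ` preserves the
two classes of maximal totally singular subspaces iff `det g = μ^(m+1)` -/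
theorem psc_ext_iff (hodd : Odd (Fintype.card F)) (m : ℕ) (a b : F)
    (hab : ∀ z₁ z₂ : F, z₁ ^ 2 + a * z₁ * z₂ + b * z₂ ^ 2 = 0 → z₁ = 0 ∧ z₂ = 0)
    {K : Type*} [Field K] [Algebra F K] (hK : finrank F K = 2)
    (g : GL ((Fin m ⊕ Fin m) ⊕ Fin 2) F) (μ : Fˣ)
    (hg : ∀ x, quadFormMinus m F a b
      ((g : Matrix ((Fin m ⊕ Fin m) ⊕ Fin 2) ((Fin m ⊕ Fin m) ⊕ Fin 2) F) *ᵥ x)
        = (μ : F) * quadFormMinus m F a b x) :
    PreservesSingularClasses (quadFormMinus m K (algebraMap F K a) (algebraMap F K b))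
        ((g : Matrix ((Fin m ⊕ Fin m) ⊕ Fin 2) ((Fin m ⊕ Fin m) ⊕ Fin 2) F).map (algebraMap F K))
      ↔ (g : Matrix ((Fin m ⊕ Fin m) ⊕ Fin 2) ((Fin m ⊕ Fin m) ⊕ Fin 2) F).det = (μ : F) ^ (m + 1) := by
  classical
  haveI : Module.Finite F K := Module.finite_of_finrank_pos (by rw [hK]; norm_num)
  haveI : Finite K := Module.finite_of_finite F
  haveI : Fintype K := Fintype.ofFinite K
  have h2F := two_ne_zero_of_odd_card hodd
  have h2K : (2 : K) ≠ 0 := two_ne_zero_of_algebra hodd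
  have hD : 2 * (2 * algebraMap F K b) - algebraMap F K a * algebraMap F K a ≠ 0 := by
    have h := disc_ne_zero_of_aniso a b hab
    have e : 2 * (2 * algebraMap F K b) - algebraMap F K a * algebraMap F K a
        = algebraMap F K (2 * (2 * b) - a * a) := by
      rw [map_sub, map_mul, map_mul, map_mul, map_ofNat]
    rw [e]
    exact (_root_.map_ne_zero _).mpr h
  have hnd := minusForm_nondegenerate_of_disc m (algebraMap F K a) (algebraMap F K b) hD
  have hcardI := card_minus_index m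
  have hgen : reflSubgroup (minusForm m K (algebraMap F K a) (algebraMap F K b)) = ⊤ :=
    Cfsg.Agent.S0786.reflSubgroup_eq_top' _ hnd (Or.inl (fun h => h2K (by
      have h0 := Nat.cast_card_eq_zero K
      rw [h] at h0
      exact_mod_cast h0)))
  obtain ⟨ρ, hρ⟩ := exists_root_of_finrank_two (K := K) hodd hK a b
  obtain ⟨s, t, hst⟩ := exists_norm_eq h2F a b hab (μ : F)
  have hμK : algebraMap F K (μ : F) ≠ 0 := (_root_.map_ne_zero _).mpr (Units.ne_zero μ)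
  have hstK : (algebraMap F K s) ^ 2 + algebraMap F K a * algebraMap F K s * algebraMap F K t
      + algebraMap F K b * (algebraMap F K t) ^ 2 = algebraMap F K (μ : F) := by
    rw [← hst]
    simp only [map_add, map_mul, map_pow]
  have hdetS : (minusSimMat m (algebraMap F K a) (algebraMap F K b) (algebraMap F K (μ : F))
      (algebraMap F K s) (algebraMap F K t)).det ≠ 0 := by
    rw [minusSimMat_det _ _ _ _ _ _ hstK]
    exact mul_ne_zero (pow_ne_zero _ hμK) hμK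
  have key := psc_iff_det h2K (minusForm m K (algebraMap F K a) (algebraMap F K b)) hnd hgen
    (minusU0 m ρ) (minusU0_ts m _ _ ρ hρ) (by rw [finrank_minusU0, hcardI]; ring)
    (algebraMap F K (μ : F)) hμK
    (Matrix.GeneralLinearGroup.mkOfDetNeZero _ hdetS) (minusSimMat_sim m _ _ _ _ _ hstK)
    (map_eq_self_of_GL _ _ (minusSimMat_mem_U0 m _ _ _ _ _ ρ hρ))
    (Matrix.GeneralLinearGroup.map (algebraMap F K) g)
    (similarity_map h2K m a b (algebraMap F K) _ (μ : F) hg)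
  have hdetg : ((Matrix.GeneralLinearGroup.map (algebraMap F K) g :
      GL ((Fin m ⊕ Fin m) ⊕ Fin 2) K) :
        Matrix ((Fin m ⊕ Fin m) ⊕ Fin 2) ((Fin m ⊕ Fin m) ⊕ Fin 2) K).det
      = algebraMap F K
        ((g : Matrix ((Fin m ⊕ Fin m) ⊕ Fin 2) ((Fin m ⊕ Fin m) ⊕ Fin 2) F).det) :=
    (RingHom.map_det _ _).symm
  have hdetS' : ((Matrix.GeneralLinearGroup.mkOfDetNeZero _ hdetS :
      GL ((Fin m ⊕ Fin m) ⊕ Fin 2) K) :
        Matrix ((Fin m ⊕ Fin m) ⊕ Fin 2) ((Fin m ⊕ Fin m) ⊕ Fin 2) K).det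
      = algebraMap F K ((μ : F) ^ (m + 1)) := by
    show (minusSimMat m (algebraMap F K a) (algebraMap F K b) (algebraMap F K (μ : F))
      (algebraMap F K s) (algebraMap F K t)).det = _
    rw [minusSimMat_det _ _ _ _ _ _ hstK, map_pow, pow_succ]
  rw [hdetg, hdetS'] at key
  exact key.trans (algebraMap F K).injective.eq_iff

/-- a quadratic extension of `F` in the same universe -/
theorem exists_quadratic_extension (a b : F)
    (hab : ∀ z₁ z₂ : F, z₁ ^ 2 + a * z₁ * z₂ + b * z₂ ^ 2 = 0 → z₁ = 0 ∧ z₂ = 0) :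
    ∃ (K : Type u) (_ : Field K) (_ : Algebra F K), finrank F K = 2 := by
  classical
  have hdeg : (C (1 : F) * X ^ 2 + C a * X + C b).natDegree = 2 := natDegree_quadratic one_ne_zero
  have hirr : Irreducible (C (1 : F) * X ^ 2 + C a * X + C b) := by
    apply irreducible_of_degree_le_three_of_not_isRoot
    · rw [hdeg]
      decide
    · intro x hx
      have hx' : x ^ 2 + a * x + b = 0 := by
        have h := hx
        simp only [IsRoot.def, eval_add, eval_mul, eval_C, eval_pow, eval_X, one_mul] at h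
        exact h
      have h1 := hab x 1 (by rw [← hx']; ring)
      exact one_ne_zero h1.2
  haveI : Fact (Irreducible (C (1 : F) * X ^ 2 + C a * X + C b)) := ⟨hirr⟩
  refine ⟨AdjoinRoot (C (1 : F) * X ^ 2 + C a * X + C b), inferInstance, inferInstance, ?_⟩
  rw [(AdjoinRoot.powerBasis hirr.ne_zero).finrank, AdjoinRoot.powerBasis_dim, hdeg]

theorem pscMinus_iff (hodd : Odd (Fintype.card F)) (m : ℕ) (a b : F)
    (hab : ∀ z₁ z₂ : F, z₁ ^ 2 + a * z₁ * z₂ + b * z₂ ^ 2 = 0 → z₁ = 0 ∧ z₂ = 0)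
    (g : GL ((Fin m ⊕ Fin m) ⊕ Fin 2) F) (μ : Fˣ)
    (hg : ∀ x, quadFormMinus m F a b
      ((g : Matrix ((Fin m ⊕ Fin m) ⊕ Fin 2) ((Fin m ⊕ Fin m) ⊕ Fin 2) F) *ᵥ x)
        = (μ : F) * quadFormMinus m F a b x) :
    PreservesSingularClassesMinus m a b
        (g : Matrix ((Fin m ⊕ Fin m) ⊕ Fin 2) ((Fin m ⊕ Fin m) ⊕ Fin 2) F)
      ↔ (g : Matrix ((Fin m ⊕ Fin m) ⊕ Fin 2) ((Fin m ⊕ Fin m) ⊕ Fin 2) F).det = (μ : F) ^ (m + 1) := by
  constructor
  · rintro ⟨K, instK, instA, hK, hpsc⟩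
    exact (psc_ext_iff hodd m a b hab hK g μ hg).mp hpsc
  · intro hdet
    obtain ⟨K, instK, instA, hK⟩ := exists_quadratic_extension a b hab
    exact ⟨K, instK, instA, hK, (psc_ext_iff hodd m a b hab hK g μ hg).mpr hdet⟩

theorem autSubgroupOf_pred_eq {ι : Type} [Fintype ι] [DecidableEq ι] (Q : (ι → F) → F) (x₁ : ι → F)
    (hx₁ : Q x₁ ≠ 0) (P : Matrix ι ι F → Prop)
    (hP : ∀ g : ↥(Geo.quadSimilarityGroup (F := F) Q),
      P ((g : GL ι F) : Matrix ι ι F) ↔ deltaHom Q x₁ hx₁ g = 1) :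
    autSubgroupOf (fun β : POmega F Q ≃* POmega F Q =>
      ∃ g : GL ι F, g ∈ Geo.quadSimilarityGroup (F := F) Q ∧ P (g : Matrix ι ι F) ∧
        IsInducedBySemilinearPOmega Q g (RingEquiv.refl F) β) = inndiagGen Q x₁ hx₁ := by
  unfold autSubgroupOf
  have : {β : MulAut (POmega F Q) |
      ∃ g : GL ι F, g ∈ Geo.quadSimilarityGroup (F := F) Q ∧ P (g : Matrix ι ι F) ∧
        IsInducedBySemilinearPOmega Q g (RingEquiv.refl F) β}
        = (inndiagGen Q x₁ hx₁ : Set (MulAut (POmega F Q))) := by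
    ext β
    unfold inndiagGen
    simp only [Set.mem_ofPred_eq, SetLike.mem_coe, Subgroup.mem_map, MonoidHom.mem_ker]
    constructor
    · rintro ⟨g, hg, hpg, hind⟩
      exact ⟨⟨g, hg⟩, (hP ⟨g, hg⟩).mp hpg, ((induced_iff Q g hg β).mp hind).symm⟩
    · rintro ⟨g, hg, rfl⟩
      exact ⟨g, g.2, (hP g).mpr hg, (induced_iff Q g g.2 _).mpr rfl⟩
  rw [this, Subgroup.closure_eq]

theorem pscMinus_iff_delta (hodd : Odd (Fintype.card F)) (m : ℕ) (a b : F)
    (hab : ∀ z₁ z₂ : F, z₁ ^ 2 + a * z₁ * z₂ + b * z₂ ^ 2 = 0 → z₁ = 0 ∧ z₂ = 0)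
    (x₁ : (Fin m ⊕ Fin m) ⊕ Fin 2 → F) (hx₁ : minusForm m F a b x₁ ≠ 0)
    (g : ↥(Geo.quadSimilarityGroup (F := F) ⇑(minusForm m F a b))) :
    PreservesSingularClassesMinus m a b ((g : GL ((Fin m ⊕ Fin m) ⊕ Fin 2) F) :
        Matrix ((Fin m ⊕ Fin m) ⊕ Fin 2) ((Fin m ⊕ Fin m) ⊕ Fin 2) F)
      ↔ deltaHom ⇑(minusForm m F a b) x₁ hx₁ g = 1 := by
  rw [deltaHom_eq_one_iff, card_minus_index, show (2 * m + 2) / 2 = m + 1 by omega]
  exact pscMinus_iff hodd m a b hab g (mult _ g) (mult_spec _ g)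

theorem inndiagPOmegaMinus_eq (hodd : Odd (Fintype.card F)) (m : ℕ) (a b : F)
    (hab : ∀ z₁ z₂ : F, z₁ ^ 2 + a * z₁ * z₂ + b * z₂ ^ 2 = 0 → z₁ = 0 ∧ z₂ = 0)
    (x₁ : (Fin m ⊕ Fin m) ⊕ Fin 2 → F) (hx₁ : minusForm m F a b x₁ ≠ 0) :
    inndiagPOmegaMinus m F a b = inndiagGen ⇑(minusForm m F a b) x₁ hx₁ := by
  rw [← autSubgroupOf_pred_eq ⇑(minusForm m F a b) x₁ hx₁ (PreservesSingularClassesMinus m a b)
    (pscMinus_iff_delta hodd m a b hab x₁ hx₁)]
  rfl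

/-- `minusSimMat` as an element of `GL` -/
noncomputable def minusSimGL (m : ℕ) (a b : F) (c : Fˣ) (s t : F)
    (hst : s ^ 2 + a * s * t + b * t ^ 2 = (c : F)) : GL ((Fin m ⊕ Fin m) ⊕ Fin 2) F :=
  Matrix.GeneralLinearGroup.mkOfDetNeZero (minusSimMat m a b (c : F) s t) (by
    rw [minusSimMat_det _ _ _ _ _ _ hst]
    exact mul_ne_zero (pow_ne_zero _ (Units.ne_zero c)) (Units.ne_zero c))

theorem minusSimGL_val (m : ℕ) (a b : F) (c : Fˣ) (s t : F)
    (hst : s ^ 2 + a * s * t + b * t ^ 2 = (c : F)) :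
    ((minusSimGL m a b c s t hst : GL ((Fin m ⊕ Fin m) ⊕ Fin 2) F) :
      Matrix ((Fin m ⊕ Fin m) ⊕ Fin 2) ((Fin m ⊕ Fin m) ⊕ Fin 2) F) = minusSimMat m a b (c : F) s t :=
  rfl

/-- `minusTMat` as an element of `GL` -/
def minusTGL (m : ℕ) (a b : F) (c : Fˣ) (s t : F)
    (hst : s ^ 2 + a * s * t + b * t ^ 2 = (c : F)) : GL ((Fin m ⊕ Fin m) ⊕ Fin 2) F :=
  ⟨minusTMat m a b (c : F) s t, ((c : F)⁻¹) • minusTMat m a b (c : F) s t, by
    rw [Matrix.mul_smul, minusTMat_sq _ _ _ _ _ _ hst, smul_smul, inv_mul_cancel₀ (Units.ne_zero c),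
      one_smul], by
    rw [Matrix.smul_mul, minusTMat_sq _ _ _ _ _ _ hst, smul_smul, inv_mul_cancel₀ (Units.ne_zero c),
      one_smul]⟩

theorem minusTGL_val (m : ℕ) (a b : F) (c : Fˣ) (s t : F)
    (hst : s ^ 2 + a * s * t + b * t ^ 2 = (c : F)) :
    ((minusTGL m a b c s t hst : GL ((Fin m ⊕ Fin m) ⊕ Fin 2) F) :
      Matrix ((Fin m ⊕ Fin m) ⊕ Fin 2) ((Fin m ⊕ Fin m) ⊕ Fin 2) F) = minusTMat m a b (c : F) s t :=
  rfl

/-- `Inndiag(PΩ⁻_{2m+2}(q)) / Inn` has order two if `-1 ∉ Ω` -/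
theorem inndiagMinus_two (hodd : Odd (Fintype.card F)) {m : ℕ} (hm : 3 ≤ m) (a b : F)
    (hab : ∀ z₁ z₂ : F, z₁ ^ 2 + a * z₁ * z₂ + b * z₂ ^ 2 = 0 → z₁ = 0 ∧ z₂ = 0)
    (c : Fˣ) (hc : ¬ IsSquare (c : F))
    (hneg : ¬ ∃ w : ↥(Omega F ⇑(minusForm m F a b)),
      (((w : ↥(isometryGroup F ⇑(minusForm m F a b))) : GL ((Fin m ⊕ Fin m) ⊕ Fin 2) F)
        : Matrix ((Fin m ⊕ Fin m) ⊕ Fin 2) ((Fin m ⊕ Fin m) ⊕ Fin 2) F) = -1) :
    ∃ φ : ↥(inndiagPOmegaMinus m F a b) →* Multiplicative (ZMod 2), Function.Surjective φ ∧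
      φ.ker = (Inn (POmega F (quadFormMinus m F a b))).subgroupOf (inndiagPOmegaMinus m F a b) := by
  have h2 := two_ne_zero_of_odd_card hodd
  obtain ⟨s, t, hst⟩ := exists_norm_eq h2 a b hab (c : F)
  rw [inndiagPOmegaMinus_eq hodd m a b hab _ (minusFrame' m hm a b).Q_x1_ne]
  have hsim : ∀ v, minusForm m F a b
      (((minusSimGL m a b c s t hst : GL ((Fin m ⊕ Fin m) ⊕ Fin 2) F) :
        Matrix ((Fin m ⊕ Fin m) ⊕ Fin 2) ((Fin m ⊕ Fin m) ⊕ Fin 2) F) *ᵥ v)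
        = (c : F) * minusForm m F a b v := minusSimMat_sim m a b (c : F) s t hst
  have hmem : minusSimGL m a b c s t hst ∈ Geo.quadSimilarityGroup (F := F) ⇑(minusForm m F a b) :=
    ⟨c, hsim⟩
  have hmult : ((mult ⇑(minusForm m F a b) ⟨_, hmem⟩ : Fˣ) : F) = c :=
    mult_unique _ _ (minusFrame' m hm a b).Q_x1_ne _ c (hsim _)
  exact inndiagGen_mod_inn_two h2 (minusForm m F a b) (minusForm_nondegenerate m a b hab)
    (minusFrame' m hm a b) (by rw [card_minus_index]; omega)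
    (by rw [card_minus_index]; exact ⟨m + 1, by ring⟩) ⟨_, hmem⟩
    (by
      rw [deltaHom_eq_one_iff, hmult, card_minus_index, show (2 * m + 2) / 2 = m + 1 by omega,
        pow_succ]
      exact minusSimMat_det m a b (c : F) s t hst)
    (by rw [hmult]; exact hc) hneg

/-- `Inndiag(PΩ⁻_{2m+2}(q)) / Inn` is cyclic of order four if `-1 ∈ Ω` and `m` is even -/
theorem inndiagMinus_cyclic (hodd : Odd (Fintype.card F)) {m : ℕ} (hm : 3 ≤ m) (hmeven : Even m)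
    (a b : F) (hab : ∀ z₁ z₂ : F, z₁ ^ 2 + a * z₁ * z₂ + b * z₂ ^ 2 = 0 → z₁ = 0 ∧ z₂ = 0)
    (c : Fˣ) (hc : ¬ IsSquare (c : F))
    (hneg : ∃ w : ↥(Omega F ⇑(minusForm m F a b)),
      (((w : ↥(isometryGroup F ⇑(minusForm m F a b))) : GL ((Fin m ⊕ Fin m) ⊕ Fin 2) F)
        : Matrix ((Fin m ⊕ Fin m) ⊕ Fin 2) ((Fin m ⊕ Fin m) ⊕ Fin 2) F) = -1) :
    ∃ φ : ↥(inndiagPOmegaMinus m F a b) →* Multiplicative (ZMod 4), Function.Surjective φ ∧
      φ.ker = (Inn (POmega F (quadFormMinus m F a b))).subgroupOf (inndiagPOmegaMinus m F a b) := by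
  have h2 := two_ne_zero_of_odd_card hodd
  obtain ⟨s, t, hst⟩ := exists_norm_eq h2 a b hab (c : F)
  rw [inndiagPOmegaMinus_eq hodd m a b hab _ (minusFrame' m hm a b).Q_x1_ne]
  have hsim : ∀ v, minusForm m F a b
      (((minusTGL m a b c s t hst : GL ((Fin m ⊕ Fin m) ⊕ Fin 2) F) :
        Matrix ((Fin m ⊕ Fin m) ⊕ Fin 2) ((Fin m ⊕ Fin m) ⊕ Fin 2) F) *ᵥ v)
        = (c : F) * minusForm m F a b v := minusTMat_sim m a b (c : F) s t hst
  have hmem : minusTGL m a b c s t hst ∈ Geo.quadSimilarityGroup (F := F) ⇑(minusForm m F a b) :=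
    ⟨c, hsim⟩
  have hmult : ((mult ⇑(minusForm m F a b) ⟨_, hmem⟩ : Fˣ) : F) = c :=
    mult_unique _ _ (minusFrame' m hm a b).Q_x1_ne _ c (hsim _)
  refine inndiagGen_mod_inn_cyclic' h2 (minusForm m F a b) (minusForm_nondegenerate m a b hab)
    (minusFrame' m hm a b) (by rw [card_minus_index]; omega)
    (by rw [card_minus_index]; exact ⟨m + 1, by ring⟩) hneg ⟨_, hmem⟩ c hc hsim
    (minusTMat_sq m a b (c : F) s t hst) ?_
  intro h
  rw [deltaHom_eq_one_iff, hmult, card_minus_index, show (2 * m + 2) / 2 = m + 1 by omega,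
    pow_succ] at h
  have hdett : ((tSim m c : GL (Fin m ⊕ Fin m) F) : Matrix (Fin m ⊕ Fin m) (Fin m ⊕ Fin m) F).det
      = (c : F) ^ m := by
    have h1 := (deltaHom_tSim_iff hodd m c _ (plusFrame (F := F) m hm).Q_x1_ne).mpr hmeven
    rw [deltaHom_eq_one_iff, mult_tSim m c _ (plusFrame (F := F) m hm).Q_x1_ne, card_sum_fin,
      Nat.mul_div_cancel_left m (by norm_num : 0 < 2)] at h1
    exact h1
  have hdetT : (minusTMat m a b (c : F) s t).det = (c : F) ^ m * (-(c : F)) := by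
    rw [minusTMat_det m a b c s t hst, hdett]
  have h3 : (minusTMat m a b (c : F) s t).det = (c : F) ^ m * (c : F) := h
  rw [hdetT] at h3
  have h4 : (2 : F) * ((c : F) ^ m * (c : F)) = 0 := by linear_combination -h3
  rcases mul_eq_zero.mp h4 with h5 | h5
  · exact h2 h5
  · exact mul_ne_zero (pow_ne_zero _ (Units.ne_zero c)) (Units.ne_zero c) h5

end

end Cfsg.Agent.Lib.helper42
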