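import Cfsg.Agent.Lib.helper42.OmegaCenter
import Cfsg.Agent.Lib.helper42.FormsNondeg

/-!
The standard hyperbolic frames of the plus-type and minus-type forms, and an arithmetic lemma on `q^m mod 4`.
-/

set_option autoImplicit false

namespace Cfsg.Agent.Lib.helper42

open Matrix Cfsg Cfsg.Agent.Lib.helper49

/-- the standard hyperbolic frame of the plus-type form -/
noncomputable def plusFrame {F : Type*} [Field F] (m : ℕ) (hm : 3 ≤ m) : HypFrame3 (plusForm m F) where
  e := fun i => Pi.single (Sum.inl (Fin.castLE hm i)) 1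
  f := fun i => Pi.single (Sum.inr (Fin.castLE hm i)) 1
  Qe := fun i => plusForm_single m _
  Qf := fun i => plusForm_single m _
  ee := fun i j => by
    rw [polar_plusForm_single]
    simp [gramPlus]
  ff := fun i j => by
    rw [polar_plusForm_single]
    simp [gramPlus]
  ef := fun i j => by
    rw [polar_plusForm_single]
    simp [gramPlus, Matrix.one_apply]

/-- the standard hyperbolic frame of the minus-type form -/
noncomputable def minusFrame' {F : Type*} [Field F] (k : ℕ) (hk : 3 ≤ k) (a c : F) :
    HypFrame3 (minusForm k F a c) where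
  e := fun i => Pi.single (Sum.inl (Sum.inl (Fin.castLE hk i))) 1
  f := fun i => Pi.single (Sum.inl (Sum.inr (Fin.castLE hk i))) 1
  Qe := fun i => minusForm_single_inl k a c _
  Qf := fun i => minusForm_single_inl k a c _
  ee := fun i j => by
    rw [polar_minusForm_single]
    simp [gramMinusL]
  ff := fun i j => by
    rw [polar_minusForm_single]
    simp [gramMinusL]
  ef := fun i j => by
    rw [polar_minusForm_single]
    simp [gramMinusL, Matrix.one_apply]

theorem pow_mod_four_of_odd (q m : ℕ) (hq : Odd q) : q ^ m % 4 = 1 ∨ q ^ m % 4 = 3 := by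
  have h : Odd (q ^ m) := hq.pow
  rcases h with ⟨k, hk⟩
  omega

theorem pow_mod_four_eq_three_iff (q m : ℕ) (hq : Odd q) :
    q ^ m % 4 = 3 ↔ Odd m ∧ q % 4 = 3 := by
  have hq4 : q % 4 = 1 ∨ q % 4 = 3 := by
    rcases hq with ⟨k, hk⟩
    omega
  rcases hq4 with h1 | h3
  · have : q ^ m % 4 = 1 := by
      rw [Nat.pow_mod, h1, one_pow]
      rfl
    constructor
    · intro h
      omega
    · rintro ⟨-, h⟩
      omega
  · rcases Nat.even_or_odd m with he | ho
    · obtain ⟨k, rfl⟩ := he
      have : q ^ (k + k) % 4 = 1 := by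
        rw [← two_mul, pow_mul, Nat.pow_mod, Nat.pow_mod q 2, h3]
        norm_num
      constructor
      · intro h
        omega
      · rintro ⟨ho, -⟩
        exact absurd ho (by simp)
    · have hm := ho
      obtain ⟨k, rfl⟩ := ho
      have : q ^ (2 * k + 1) % 4 = 3 := by
        rw [pow_succ, pow_mul, Nat.mul_mod, Nat.pow_mod, Nat.pow_mod q 2, h3]
        norm_num
      exact ⟨fun _ => ⟨hm, h3⟩, fun _ => this⟩

end Cfsg.Agent.Lib.helper42
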