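import Cfsg.Agent.Lib.helper42.FormsNondeg

/-!
Similarities of the plus-type and minus-type forms with a prescribed multiplier.
-/

set_option autoImplicit false

namespace Cfsg.Agent.Lib.helper42

open Matrix Cfsg Polynomial

theorem exists_similarity_plus {F : Type*} [Field F] (m : ℕ) (c : Fˣ) :
    ∃ s₀ : GL (Fin m ⊕ Fin m) F, ∀ v : Fin m ⊕ Fin m → F,
      quadFormPlus m F ((s₀ : Matrix (Fin m ⊕ Fin m) (Fin m ⊕ Fin m) F) *ᵥ v)
        = (c : F) * quadFormPlus m F v := by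
  refine ⟨⟨Matrix.diagonal (Sum.elim (fun _ => (c : F)) (fun _ => 1)),
    Matrix.diagonal (Sum.elim (fun _ => ((c⁻¹ : Fˣ) : F)) (fun _ => 1)), ?_, ?_⟩, fun v => ?_⟩
  · rw [Matrix.diagonal_mul_diagonal, ← Matrix.diagonal_one]
    congr 1
    ext i
    rcases i with i | i <;> simp
  · rw [Matrix.diagonal_mul_diagonal, ← Matrix.diagonal_one]
    congr 1
    ext i
    rcases i with i | i <;> simp
  · show quadFormPlus m F (Matrix.diagonal (Sum.elim (fun _ => (c : F)) (fun _ => 1)) *ᵥ v) = _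
    unfold quadFormPlus
    rw [Finset.mul_sum]
    refine Finset.sum_congr rfl (fun i _ => ?_)
    rw [Matrix.mulVec_diagonal, Matrix.mulVec_diagonal]
    simp only [Sum.elim_inl, Sum.elim_inr, one_mul]
    ring

/-- an anisotropic binary form over a finite field of odd order represents every element -/
theorem exists_norm_eq {F : Type*} [Field F] [Fintype F] (h2 : (2 : F) ≠ 0) (a b : F)
    (hab : ∀ z₁ z₂ : F, z₁ ^ 2 + a * z₁ * z₂ + b * z₂ ^ 2 = 0 → z₁ = 0 ∧ z₂ = 0) (c : F) :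
    ∃ s t : F, s ^ 2 + a * s * t + b * t ^ 2 = c := by
  have hD := disc_ne_zero_of_aniso a b hab
  have hodd : Fintype.card F % 2 = 1 := by
    apply FiniteField.odd_card_of_char_ne_two
    intro h
    apply h2
    have := ringChar.Nat.cast_ringChar (R := F)
    rw [h] at this
    exact_mod_cast this
  obtain ⟨x, y, hxy⟩ := FiniteField.exists_root_sum_quadratic (f := (X : F[X]) ^ 2)
    (g := C (2 * (2 * b) - a * a) * X ^ 2 + C 0 * X + C (-(4 * c)))
    (degree_X_pow 2) (degree_quadratic hD) hodd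
  simp only [eval_pow, eval_X, eval_add, eval_mul, eval_C, zero_mul, add_zero] at hxy
  refine ⟨(x - a * y) / 2, y, ?_⟩
  have h4 : (4 : F) ≠ 0 := by
    have : (4 : F) = 2 * 2 := by norm_num
    rw [this]
    exact mul_ne_zero h2 h2
  field_simp
  linear_combination hxy

theorem exists_similarity_minus {F : Type*} [Field F] [Fintype F] (h2 : (2 : F) ≠ 0) (m : ℕ) (a b : F)
    (hab : ∀ z₁ z₂ : F, z₁ ^ 2 + a * z₁ * z₂ + b * z₂ ^ 2 = 0 → z₁ = 0 ∧ z₂ = 0) (c : Fˣ) :
    ∃ s₀ : GL ((Fin m ⊕ Fin m) ⊕ Fin 2) F, ∀ v : (Fin m ⊕ Fin m) ⊕ Fin 2 → F,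
      quadFormMinus m F a b
          ((s₀ : Matrix ((Fin m ⊕ Fin m) ⊕ Fin 2) ((Fin m ⊕ Fin m) ⊕ Fin 2) F) *ᵥ v)
        = (c : F) * quadFormMinus m F a b v := by
  obtain ⟨s, t, hst⟩ := exists_norm_eq h2 a b hab (c : F)
  have hdet : (Matrix.fromBlocks (Matrix.diagonal (Sum.elim (fun _ : Fin m => (c : F)) (fun _ : Fin m => 1)))
      (0 : Matrix (Fin m ⊕ Fin m) (Fin 2) F) (0 : Matrix (Fin 2) (Fin m ⊕ Fin m) F)
      !![s, -(b * t); t, s + a * t]).det ≠ 0 := by
    rw [Matrix.det_fromBlocks_zero₂₁, Matrix.det_diagonal, Matrix.det_fin_two_of]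
    apply mul_ne_zero
    · rw [Finset.prod_ne_zero_iff]
      intro i _
      rcases i with i | i
      · simp
      · simp
    · have : s * (s + a * t) - -(b * t) * t = (c : F) := by rw [← hst]; ring
      rw [this]
      exact Units.ne_zero c
  refine ⟨Matrix.GeneralLinearGroup.mkOfDetNeZero _ hdet, fun v => ?_⟩
  show quadFormMinus m F a b
    ((Matrix.fromBlocks (Matrix.diagonal (Sum.elim (fun _ : Fin m => (c : F)) (fun _ : Fin m => 1)))
      (0 : Matrix (Fin m ⊕ Fin m) (Fin 2) F) (0 : Matrix (Fin 2) (Fin m ⊕ Fin m) F)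
      !![s, -(b * t); t, s + a * t]) *ᵥ v) = _
  unfold quadFormMinus
  rw [Matrix.fromBlocks_mulVec]
  simp only [Sum.elim_inl, Sum.elim_inr, Matrix.zero_mulVec, add_zero, zero_add, Matrix.mulVec_diagonal,
    Function.comp_apply, one_mul]
  have e0 : (!![s, -(b * t); t, s + a * t] *ᵥ (v ∘ Sum.inr)) 0
      = s * v (Sum.inr 0) - b * t * v (Sum.inr 1) := by
    simp [Matrix.mulVec, dotProduct, Fin.sum_univ_two]
    ring
  have e1 : (!![s, -(b * t); t, s + a * t] *ᵥ (v ∘ Sum.inr)) 1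
      = t * v (Sum.inr 0) + (s + a * t) * v (Sum.inr 1) := by
    simp [Matrix.mulVec, dotProduct, Fin.sum_univ_two]
  rw [e0, e1, mul_add (c : F), Finset.mul_sum]
  congr 1
  · refine Finset.sum_congr rfl (fun i _ => ?_)
    ring
  · rw [← hst]
    ring

end Cfsg.Agent.Lib.helper42
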