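import Mathlib

/-!
Abstract group theory for outer automorphism groups of the shape `N . C` with `C` cyclic: an automorphism of
odd order of the dihedral group of order 8 is trivial; splitting off a central or centralised kernel.
-/

set_option autoImplicit false

namespace Cfsg.Agent.Lib.helper42

open DihedralGroup in
/-- an automorphism of odd order of the dihedral group of order eight is trivial -/
theorem dihedral_four_aut_odd (α : MulAut (DihedralGroup 4)) (k : ℕ) (hk : Odd k) (hα : α ^ k = 1) :
    α = 1 := by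
  have hsucc : ∀ (j : ℕ) (x : DihedralGroup 4), (α ^ (j + 1)) x = α ((α ^ j) x) := by
    intro j x
    rw [pow_succ', MulAut.mul_apply]
  -- the rotation
  have hR : α (r 1) = r 1 ∨ α (r 1) = (r 1)⁻¹ := by
    have h1 : (α (r 1)) ^ 2 ≠ 1 := by
      rw [← map_pow]
      intro h
      have h' : (r 1 : DihedralGroup 4) ^ 2 = 1 := α.injective (h.trans (map_one α).symm)
      revert h'
      decide
    revert h1
    generalize α (r 1) = R
    revert R
    decide
  have hR1 : α (r 1) = r 1 := by
    rcases hR with h | h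
    · exact h
    · exfalso
      have hpow : ∀ j : ℕ, (α ^ j) (r 1) = if Even j then r 1 else (r 1)⁻¹ := by
        intro j
        induction j with
        | zero => simp
        | succ j ih =>
          rw [hsucc, ih]
          by_cases hj : Even j
          · rw [if_pos hj, if_neg (by rw [Nat.even_add_one]; exact not_not.mpr hj), h]
          · rw [if_neg hj, if_pos (by rw [Nat.even_add_one]; exact hj), map_inv, h, inv_inv]
      have h2 := hpow k
      rw [hα, if_neg (Nat.not_even_iff_odd.mpr hk)] at h2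
      revert h2
      decide
  have hr : ∀ j : ZMod 4, α (r j) = r j := by
    intro j
    have e : (r j : DihedralGroup 4) = (r 1) ^ j.val := by
      rw [r_one_pow, ZMod.natCast_zmod_val]
    rw [e, map_pow, hR1]
  -- the reflection
  obtain ⟨i, hi⟩ : ∃ i : ZMod 4, α (sr 0) = sr i := by
    cases h : α (sr 0) with
    | r j =>
      exfalso
      have h3 : α (sr 0) = α (r j) := by rw [h, hr j]
      have h4 := α.injective h3
      revert h4
      simp
    | sr i => exact ⟨i, rfl⟩
  have hsr : (sr i : DihedralGroup 4) = sr 0 * r i := by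
    rw [sr_mul_r, zero_add]
  have hpow2 : ∀ j : ℕ, (α ^ j) (sr 0) = sr 0 * (r i) ^ j := by
    intro j
    induction j with
    | zero => simp
    | succ j ih =>
      rw [hsucc, ih, map_mul, map_pow, hr, hi, hsr, pow_succ', mul_assoc]
  have h5 := hpow2 k
  rw [hα] at h5
  have h6 : (r i : DihedralGroup 4) ^ k = 1 := by
    have h7 : (sr 0 : DihedralGroup 4) * 1 = sr 0 * (r i) ^ k := by
      rw [mul_one]
      exact h5
    exact (mul_left_cancel h7).symm
  have h8 : (r i : DihedralGroup 4) ^ 4 = 1 := by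
    have h8' : ∀ l : ZMod 4, (r l : DihedralGroup 4) ^ 4 = 1 := by decide
    exact h8' i
  have h9 : (r i : DihedralGroup 4) = 1 := by
    have hcop : Nat.gcd k 4 = 1 := by
      have : Nat.Coprime k (2 ^ 2) := Nat.Coprime.pow_right 2 (Nat.coprime_two_right.mpr hk)
      exact this
    have := pow_gcd_eq_one.mpr ⟨h6, h8⟩
    rwa [hcop, pow_one] at this
  have hS : α (sr 0) = sr 0 := by rw [hi, hsr, h9, mul_one]
  ext x
  cases x with
  | r j => exact hr j
  | sr j =>
    have e : (sr j : DihedralGroup 4) = sr 0 * r j := by rw [sr_mul_r, zero_add]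
    rw [e, map_mul, hS, hr]
    rfl

/-- a split surjection whose section centralises the kernel is a direct product -/
theorem nonempty_mulEquiv_prod_of_split_comm {G C : Type*} [Group G] [Group C] (π : G →* C) (s : C →* G)
    (hs : ∀ c, π (s c) = c) (hcomm : ∀ n ∈ π.ker, ∀ c, s c * n = n * s c) :
    Nonempty (G ≃* π.ker × C) := by
  have hmem : ∀ g : G, g * (s (π g))⁻¹ ∈ π.ker := by
    intro g
    rw [MonoidHom.mem_ker, map_mul, map_inv, hs, mul_inv_cancel]
  exact ⟨{ toFun := fun g => (⟨g * (s (π g))⁻¹, hmem g⟩, π g)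
           invFun := fun x => (x.1 : G) * s x.2
           left_inv := fun g => by
             show g * (s (π g))⁻¹ * s (π g) = g
             group
           right_inv := fun x => by
             have hx : π (x.1 : G) = 1 := MonoidHom.mem_ker.mp x.1.2
             apply Prod.ext
             · apply Subtype.ext
               show (x.1 : G) * s x.2 * (s (π ((x.1 : G) * s x.2)))⁻¹ = (x.1 : G)
               rw [map_mul, hx, one_mul, hs]
               group
             · show π ((x.1 : G) * s x.2) = x.2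
               rw [map_mul, hx, one_mul, hs]
           map_mul' := fun g₁ g₂ => by
             apply Prod.ext
             · apply Subtype.ext
               show g₁ * g₂ * (s (π (g₁ * g₂)))⁻¹ = g₁ * (s (π g₁))⁻¹ * (g₂ * (s (π g₂))⁻¹)
               have hc := hcomm _ (hmem g₂) (π g₁)⁻¹
               rw [map_inv] at hc
               rw [mul_assoc g₁ (s (π g₁))⁻¹, hc, map_mul, map_mul, _root_.mul_inv_rev]
               group
             · show π (g₁ * g₂) = π g₁ * π g₂
               rw [map_mul] }⟩

/-- an extension of a cyclic group of odd order `f` by the dihedral group of order eight is a direct product -/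
theorem nonempty_mulEquiv_dihedral_prod {G C : Type*} [Group G] [Group C] [Finite G] (π : G →* C)
    (hπ : Function.Surjective π) [IsCyclic C] (f : ℕ) (hf : Nat.card C = f) (hodd : Odd f)
    (e : π.ker ≃* DihedralGroup 4) :
    Nonempty (G ≃* DihedralGroup 4 × Multiplicative (ZMod f)) := by
  have hfinC : Finite C := Finite.of_surjective π hπ
  have hf0 : NeZero f := ⟨by rcases hodd with ⟨j, rfl⟩; omega⟩
  obtain ⟨c₀, hc₀⟩ := IsCyclic.exists_generator (α := C)
  obtain ⟨x, hx⟩ := hπ c₀
  have hord0 : orderOf c₀ = f := by rw [orderOf_eq_card_of_forall_mem_zpowers hc₀, hf]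
  have hxf : x ^ f ∈ π.ker := by
    rw [MonoidHom.mem_ker, map_pow, hx, ← hord0, pow_orderOf_eq_one]
  have hcardK : Nat.card π.ker = 8 := by
    rw [Nat.card_congr e.toEquiv, DihedralGroup.nat_card]
  have hxf8 : (x ^ f) ^ 8 = 1 := by
    have h := pow_card_eq_one' (G := π.ker) (x := ⟨x ^ f, hxf⟩)
    rw [hcardK] at h
    exact congrArg Subtype.val h
  obtain ⟨y, hy⟩ : ∃ y : G, y = x ^ 8 := ⟨_, rfl⟩
  have hyf : y ^ f = 1 := by
    rw [hy, ← pow_mul, mul_comm, pow_mul]
    exact hxf8
  have hcop : Nat.Coprime f 8 := by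
    have : Nat.Coprime f (2 ^ 3) := Nat.Coprime.pow_right 3 (Nat.coprime_two_right.mpr hodd)
    exact this
  have hord1 : orderOf (π y) = f := by
    rw [hy, map_pow, hx, Nat.Coprime.orderOf_pow (by rw [hord0]; exact hcop), hord0]
  have hgen₁ : ∀ c : C, c ∈ Subgroup.zpowers (π y) := by
    have : Subgroup.zpowers (π y) = ⊤ :=
      Subgroup.eq_top_of_card_eq _ (by rw [Nat.card_zpowers, hord1, hf])
    intro c
    rw [this]
    exact Subgroup.mem_top c
  have hdvd : orderOf y ∣ orderOf (π y) := by
    rw [hord1]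
    exact orderOf_dvd_of_pow_eq_one hyf
  obtain ⟨s, hsdef⟩ : ∃ s : C →* G, s = monoidHomOfForallMemZpowers hgen₁ hdvd := ⟨_, rfl⟩
  have hsgen : s (π y) = y := by
    rw [hsdef]
    exact monoidHomOfForallMemZpowers_apply_gen hgen₁ hdvd
  have hs : ∀ c, π (s c) = c := by
    have h := (MonoidHom.eq_iff_eq_on_generator hgen₁ (π.comp s) (MonoidHom.id C)).mpr (by
      rw [MonoidHom.comp_apply, hsgen, MonoidHom.id_apply])
    intro c
    exact congrArg (fun φ : C →* C => φ c) h
  -- `y` centralises the kernel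
  have hycent : ∀ n ∈ π.ker, y * n = n * y := by
    have hα : (MulAut.conjNormal y : MulAut π.ker) ^ f = 1 := by
      rw [← map_pow, hyf, map_one]
    have hα' : (MulAut.congr e (MulAut.conjNormal y : MulAut π.ker)) ^ f = 1 := by
      rw [← map_pow, hα, map_one]
    have h1 := dihedral_four_aut_odd _ f hodd hα'
    have h2 : (MulAut.conjNormal y : MulAut π.ker) = 1 :=
      (MulAut.congr e).injective (h1.trans (map_one _).symm)
    intro n hn
    have h3 := congrArg (fun a : MulAut π.ker => ((a ⟨n, hn⟩ : π.ker) : G)) h2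
    simp only [MulAut.conjNormal_apply, MulAut.one_apply] at h3
    calc y * n = y * n * y⁻¹ * y := by group
      _ = n * y := by rw [h3]
  have hcomm : ∀ n ∈ π.ker, ∀ c, s c * n = n * s c := by
    intro n hn c
    obtain ⟨j, rfl⟩ := Subgroup.mem_zpowers_iff.mp (hgen₁ c)
    rw [map_zpow, hsgen]
    exact (Commute.zpow_left (hycent n hn) j).eq
  obtain ⟨e₁⟩ := nonempty_mulEquiv_prod_of_split_comm π s hs hcomm
  have e₃ : C ≃* Multiplicative (ZMod f) :=
    mulEquivOfCyclicCardEq (by
      rw [hf, Nat.card_eq_fintype_card, Fintype.card_multiplicative, ZMod.card])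
  exact ⟨e₁.trans (e.prodCongr e₃)⟩

theorem zpow_of_sq_eq_one {G : Type*} [Group G] (w : G) (hw : w * w = 1) (t : ℤ) : w ^ t = 1 ∨ w ^ t = w := by
  have hw2 : w ^ (2 : ℤ) = 1 := by
    rw [zpow_ofNat, pow_two]
    exact hw
  rcases Int.even_or_odd' t with ⟨s, rfl | rfl⟩
  · left
    rw [zpow_mul, hw2, one_zpow]
  · right
    rw [zpow_add, zpow_mul, hw2, one_zpow, one_mul, zpow_one]

/-- an extension of a cyclic group of order `f` by a central Klein four group, containing an element of order
`2f` over a generator, is `Z₂ × Z_{2f}` -/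
theorem nonempty_mulEquiv_two_prod {G C : Type*} [Group G] [Group C] [Finite G] (π : G →* C)
    (hπ : Function.Surjective π) (f : ℕ) (hf : Nat.card C = f) (hf1 : 1 ≤ f)
    (e : π.ker ≃* Multiplicative (ZMod 2 × ZMod 2)) (hcent : ∀ n ∈ π.ker, ∀ g : G, g * n = n * g)
    (x : G) (hx : ∀ c : C, c ∈ Subgroup.zpowers (π x)) (hxf : x ^ f ≠ 1) :
    Nonempty (G ≃* Multiplicative (ZMod 2 × ZMod (2 * f))) := by
  have hfinC : Finite C := Finite.of_surjective π hπ
  have hf0 : NeZero (2 * f) := ⟨by omega⟩
  have hord0 : orderOf (π x) = f := by rw [orderOf_eq_card_of_forall_mem_zpowers hx, hf]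
  have hxN : x ^ f ∈ π.ker := by
    rw [MonoidHom.mem_ker, map_pow, ← hord0, pow_orderOf_eq_one]
  have hexpZ : ∀ z : Multiplicative (ZMod 2 × ZMod 2), z * z = 1 := by decide
  have hexp : ∀ n ∈ π.ker, n * n = 1 := by
    intro n hn
    have h1 := hexpZ (e ⟨n, hn⟩)
    rw [← map_mul] at h1
    have h2 := e.injective (h1.trans (map_one e).symm)
    exact congrArg Subtype.val h2
  obtain ⟨w, hw⟩ : ∃ w : G, w = x ^ f := ⟨_, rfl⟩
  have hww : w * w = 1 := by rw [hw]; exact hexp _ hxN
  have hw1 : w ≠ 1 := by rw [hw]; exact hxf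
  have hx2f : x ^ (2 * f) = 1 := by
    rw [two_mul, pow_add, ← hw]
    exact hww
  have hord : orderOf x = 2 * f := by
    have h1 : orderOf x ∣ 2 * f := orderOf_dvd_of_pow_eq_one hx2f
    have h2 : f ∣ orderOf x := by
      rw [← hord0]
      exact orderOf_map_dvd π x
    obtain ⟨t, ht⟩ := h2
    rw [ht, mul_comm 2 f] at h1
    have h3 : t ∣ 2 := Nat.dvd_of_mul_dvd_mul_left (by omega) h1
    rcases (Nat.dvd_prime Nat.prime_two).mp h3 with h4 | h4
    · exfalso
      rw [h4, mul_one] at ht
      apply hxf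
      rw [← ht]
      exact pow_orderOf_eq_one x
    · rw [ht, h4, mul_comm]
  have hcardK : Nat.card π.ker = 4 := by
    rw [Nat.card_congr e.toEquiv, Nat.card_eq_fintype_card]
    rfl
  have hcardG : Nat.card G = 4 * f := by
    have h := Subgroup.card_mul_index π.ker
    rw [Subgroup.index_ker, MonoidHom.range_eq_top.mpr hπ, Subgroup.card_top, hcardK, hf] at h
    exact h.symm
  -- an involution of the kernel outside `⟨x⟩`
  obtain ⟨n, hn, hn1, hnw⟩ : ∃ n ∈ π.ker, n ≠ 1 ∧ n ≠ w := by
    have hz₁ : (e.symm (Multiplicative.ofAdd ((1 : ZMod 2), (0 : ZMod 2))) : π.ker) ≠ 1 := by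
      intro h
      have h' := e.symm.injective (h.trans (map_one e.symm).symm)
      revert h'
      decide
    have hz₂ : (e.symm (Multiplicative.ofAdd ((0 : ZMod 2), (1 : ZMod 2))) : π.ker) ≠ 1 := by
      intro h
      have h' := e.symm.injective (h.trans (map_one e.symm).symm)
      revert h'
      decide
    have hz₁₂ : (e.symm (Multiplicative.ofAdd ((1 : ZMod 2), (0 : ZMod 2))) : π.ker)
        ≠ e.symm (Multiplicative.ofAdd ((0 : ZMod 2), (1 : ZMod 2))) := by
      intro h
      have h' := e.symm.injective h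
      revert h'
      decide
    by_cases h : ((e.symm (Multiplicative.ofAdd ((1 : ZMod 2), (0 : ZMod 2))) : π.ker) : G) = w
    · refine ⟨_, (e.symm (Multiplicative.ofAdd ((0 : ZMod 2), (1 : ZMod 2)))).2, ?_, ?_⟩
      · intro h'
        exact hz₂ (Subtype.ext h')
      · intro h'
        exact hz₁₂ (Subtype.ext (h.trans h'.symm))
    · refine ⟨_, (e.symm (Multiplicative.ofAdd ((1 : ZMod 2), (0 : ZMod 2)))).2, ?_, h⟩
      intro h'
      exact hz₁ (Subtype.ext h')
  have hnn : n * n = 1 := hexp n hn
  have hordn : orderOf n = 2 := orderOf_eq_prime (by rw [pow_two]; exact hnn) hn1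
  have hKle : Subgroup.zpowers n ≤ π.ker := Subgroup.zpowers_le.mpr hn
  obtain ⟨ψ, hψ⟩ : ∃ ψ : ↥(Subgroup.zpowers n) × ↥(Subgroup.zpowers x) →* G,
      ∀ k h, ψ (k, h) = (k : G) * (h : G) :=
    ⟨MonoidHom.noncommCoprod (Subgroup.zpowers n).subtype (Subgroup.zpowers x).subtype
      (fun k h => (hcent _ (hKle k.2) (h : G)).symm), fun k h => rfl⟩
  have hinj : Function.Injective ψ := by
    rw [injective_iff_map_eq_one]
    rintro ⟨k, h⟩ hkh
    rw [hψ] at hkh
    obtain ⟨i, hi⟩ := Subgroup.mem_zpowers_iff.mp k.2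
    obtain ⟨j, hj⟩ := Subgroup.mem_zpowers_iff.mp h.2
    have hhk : (h : G) = (k : G)⁻¹ := eq_inv_of_mul_eq_one_right hkh
    have hhker : (h : G) ∈ π.ker := by
      rw [hhk]
      exact inv_mem (hKle k.2)
    have hfj : (f : ℤ) ∣ j := by
      rw [← hord0]
      apply orderOf_dvd_iff_zpow_eq_one.mpr
      rw [← map_zpow, hj]
      exact MonoidHom.mem_ker.mp hhker
    obtain ⟨t, rfl⟩ := hfj
    have hh' : (h : G) = w ^ t := by
      rw [← hj, zpow_mul, zpow_natCast, hw]
    have hk' : (k : G) = 1 ∨ (k : G) = n := by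
      rw [← hi]
      exact zpow_of_sq_eq_one n hnn i
    have hkey : (k : G) = 1 ∧ (h : G) = 1 := by
      rcases zpow_of_sq_eq_one w hww t with h1 | h1
      · rw [h1] at hh'
        refine ⟨?_, hh'⟩
        rw [hh'] at hhk
        exact inv_eq_one.mp hhk.symm
      · exfalso
        rw [h1] at hh'
        have hkw : (k : G) = w := by
          have : (k : G)⁻¹ = w := hhk.symm.trans hh'
          rw [← inv_inv (k : G), this]
          exact inv_eq_of_mul_eq_one_left hww
        rcases hk' with h2 | h2
        · exact hw1 (hkw.symm.trans h2)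
        · exact hnw (h2.symm.trans hkw)
    exact Prod.ext (Subtype.ext hkey.1) (Subtype.ext hkey.2)
  have hcardKn : Nat.card ↥(Subgroup.zpowers n) = 2 := by rw [Nat.card_zpowers, hordn]
  have hcardH : Nat.card ↥(Subgroup.zpowers x) = 2 * f := by rw [Nat.card_zpowers, hord]
  have hbij : Function.Bijective ψ := by
    apply Function.Injective.bijective_of_nat_card_le hinj
    rw [Nat.card_prod, hcardKn, hcardH, hcardG]
    omega
  have hprime2 : Fact (Nat.Prime 2) := ⟨Nat.prime_two⟩
  have e₂ : ↥(Subgroup.zpowers n) ≃* Multiplicative (ZMod 2) :=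
    mulEquivOfPrimeCardEq (p := 2) hcardKn (by rw [Nat.card_eq_fintype_card]; rfl)
  have e₃ : ↥(Subgroup.zpowers x) ≃* Multiplicative (ZMod (2 * f)) :=
    mulEquivOfCyclicCardEq (by
      rw [hcardH, Nat.card_eq_fintype_card, Fintype.card_multiplicative, ZMod.card])
  exact ⟨(MulEquiv.ofBijective ψ hbij).symm.trans
    ((e₂.prodCongr e₃).trans (MulEquiv.prodMultiplicative (ZMod 2) (ZMod (2 * f))).symm)⟩

/-- an extension of a cyclic group of order `f` by a group of order two, containing an element over a generator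
whose `f`-th power is non-trivial, is cyclic of order `2f` -/
theorem isCyclic_of_ker_two {G C : Type*} [Group G] [Group C] [Finite G] (π : G →* C)
    (hπ : Function.Surjective π) (f : ℕ) (hf : Nat.card C = f) (hf1 : 1 ≤ f)
    (hker : Nat.card π.ker = 2)
    (x : G) (hx : ∀ c : C, c ∈ Subgroup.zpowers (π x)) (hxf : x ^ f ≠ 1) :
    IsCyclic G ∧ Nat.card G = 2 * f := by
  have hfinC : Finite C := Finite.of_surjective π hπ
  have hord0 : orderOf (π x) = f := by rw [orderOf_eq_card_of_forall_mem_zpowers hx, hf]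
  have hxN : x ^ f ∈ π.ker := by
    rw [MonoidHom.mem_ker, map_pow, ← hord0, pow_orderOf_eq_one]
  have hx2f : x ^ (2 * f) = 1 := by
    have h := pow_card_eq_one' (G := π.ker) (x := ⟨x ^ f, hxN⟩)
    rw [hker] at h
    have h' : (x ^ f) ^ 2 = 1 := congrArg Subtype.val h
    rw [mul_comm, pow_mul]
    exact h'
  have hord : orderOf x = 2 * f := by
    have h1 : orderOf x ∣ 2 * f := orderOf_dvd_of_pow_eq_one hx2f
    have h2 : f ∣ orderOf x := by
      rw [← hord0]
      exact orderOf_map_dvd π x
    obtain ⟨t, ht⟩ := h2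
    rw [ht, mul_comm 2 f] at h1
    have h3 : t ∣ 2 := Nat.dvd_of_mul_dvd_mul_left (by omega) h1
    rcases (Nat.dvd_prime Nat.prime_two).mp h3 with h4 | h4
    · exfalso
      rw [h4, mul_one] at ht
      apply hxf
      rw [← ht]
      exact pow_orderOf_eq_one x
    · rw [ht, h4, mul_comm]
  have hcardG : Nat.card G = 2 * f := by
    have h := Subgroup.card_mul_index π.ker
    rw [Subgroup.index_ker, MonoidHom.range_eq_top.mpr hπ, Subgroup.card_top, hker, hf] at h
    exact h.symm
  exact ⟨isCyclic_of_orderOf_eq_card x (by rw [hord, hcardG]), hcardG⟩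

end Cfsg.Agent.Lib.helper42
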