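import Cfsg.Agent.Lib.helper42.GammaCount
import Cfsg.Agent.Lib.helper17.OmRank2

/-!
Orders in `Aut(PΩ(Q))`: `Inn ≅ PΩ`, and in odd dimension (odd characteristic) the image of the conformal
orthogonal group is the image of `SO(Q)`, in which `Inn` has index two.  Applied to the standard form in
dimension `2m+1`: the order of the image of the semisimilarity group.
-/

set_option autoImplicit false
set_option linter.unusedSectionVars false

namespace Cfsg.Agent.Lib.helper42

open Matrix Cfsg Cfsg.Agent.Lib.helper17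
open Cfsg.Agent.Lib.helper49 (detHom spinorSign oddForm oddForm_coe polar_oddForm_single oddForm_single_inr gramOdd)

section
variable {ι : Type} [Fintype ι] [DecidableEq ι] {F : Type*} [Field F]

/-- `PΩ(Q)` has trivial centre: conjugation is injective -/
theorem conj_injective_POmega (Q : QuadraticForm F (ι → F))
    (hQ : (QuadraticMap.polarBilin Q).Nondegenerate) (fr : HypFrame3 Q) (h5 : 5 ≤ Fintype.card ι) :
    Function.Injective (MulAut.conj : POmega F ⇑Q →* MulAut (POmega F ⇑Q)) := by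
  rw [injective_iff_map_eq_one]
  intro x hx
  induction x using QuotientGroup.induction_on with
  | H s =>
    have hsC : ((s : ↥(isometryGroup F ⇑Q)) : GL ι F) ∈ Geo.quadSimilarityGroup (F := F) ⇑Q :=
      isometryGroup_le_similarity _ s.1.2
    have h1 : PsiAut ⇑Q ⟨_, hsC⟩ = 1 := by
      rw [PsiAut_Omega ⇑Q s hsC]
      exact hx
    obtain ⟨a, ha⟩ := scalar_of_PsiAut_eq_one Q hQ fr h5 _ h1
    apply (QuotientGroup.eq_one_iff s).mpr
    rw [Subgroup.mem_center_iff]
    intro t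
    apply Subtype.ext
    apply Subtype.ext
    apply Units.ext
    simp only [Subgroup.coe_mul, Units.val_mul]
    have ha' : (((s : ↥(isometryGroup F ⇑Q)) : GL ι F) : Matrix ι ι F) = a • (1 : Matrix ι ι F) := ha
    rw [ha', Matrix.smul_mul, Matrix.one_mul, Matrix.mul_smul, Matrix.mul_one]

theorem card_Inn_POmega (Q : QuadraticForm F (ι → F))
    (hQ : (QuadraticMap.polarBilin Q).Nondegenerate) (fr : HypFrame3 Q) (h5 : 5 ≤ Fintype.card ι) :
    Nat.card ↥(Inn (POmega F ⇑Q)) = Nat.card (POmega F ⇑Q) :=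
  (Nat.card_congr (MonoidHom.ofInjective (conj_injective_POmega Q hQ fr h5)).toEquiv).symm

theorem card_of_relIndex {G : Type*} [Group G] (H K : Subgroup G) (hle : H ≤ K) :
    Nat.card ↥K = Nat.card ↥H * H.relIndex K := by
  have h1 := Subgroup.card_mul_index (H.subgroupOf K)
  rw [← h1]
  congr 1
  exact Nat.card_congr (Subgroup.subgroupOfEquivOfLe hle).toEquiv

variable [Fintype F]

/-- in odd dimension a similarity is a scalar multiple of a special isometry -/
theorem exists_special_of_odd (Q : QuadraticForm F (ι → F))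
    (hQ : (QuadraticMap.polarBilin Q).Nondegenerate) (hodd : Odd (Fintype.card ι))
    (g : ↥(Geo.quadSimilarityGroup (F := F) ⇑Q)) :
    ∃ h : ↥(Geo.quadSimilarityGroup (F := F) ⇑Q), (h : GL ι F) ∈ specialIsometryGL F ⇑Q ∧
      PsiAut ⇑Q h = PsiAut ⇑Q g := by
  obtain ⟨k, hk⟩ := hodd
  obtain ⟨c, hc⟩ : ∃ c : F, c = ((mult ⇑Q g : Fˣ) : F) := ⟨_, rfl⟩
  obtain ⟨d, hd⟩ : ∃ d : F, d = ((g : GL ι F) : Matrix ι ι F).det := ⟨_, rfl⟩
  have hc0 : c ≠ 0 := by rw [hc]; exact Units.ne_zero _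
  have hd0 : d ≠ 0 := by
    rw [hd, ← Matrix.GeneralLinearGroup.val_det_apply]
    exact Units.ne_zero _
  have hdd : d * d = c ^ (2 * k + 1) := by
    rw [hd, hc, ← hk]
    exact det_sq_of_similarity Q hQ _ _ (mult_spec ⇑Q g)
  obtain ⟨l, hl⟩ : ∃ l : F, l = c ^ k * d⁻¹ := ⟨_, rfl⟩
  have hl0 : l ≠ 0 := by
    rw [hl]
    exact mul_ne_zero (pow_ne_zero _ hc0) (inv_ne_zero hd0)
  have hllc : l * l * c = 1 := by
    have e : l * l * c = c ^ (2 * k + 1) * (d⁻¹ * d⁻¹) := by rw [hl]; ring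
    rw [e, ← hdd]
    field_simp
  have hln : l ^ (2 * k + 1) * d = 1 := by
    have e : l ^ (2 * k + 1) * d = (c ^ (2 * k + 1)) ^ k * (d⁻¹ * d⁻¹) ^ k * (d⁻¹ * d) := by
      rw [hl]; ring
    rw [e, ← hdd, inv_mul_cancel₀ hd0, mul_one, ← mul_pow]
    have e2 : d * d * (d⁻¹ * d⁻¹) = 1 := by field_simp
    rw [e2, one_pow]
  have hzval : ((Matrix.GeneralLinearGroup.scalar ι (Units.mk0 l hl0) : GL ι F) : Matrix ι ι F)
      = l • (1 : Matrix ι ι F) := by
    show Matrix.scalar ι (((Units.mk0 l hl0 : Fˣ) : F)) = _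
    rw [Matrix.scalar_apply, Matrix.smul_one_eq_diagonal, Units.val_mk0]
  have hzmem : (Matrix.GeneralLinearGroup.scalar ι (Units.mk0 l hl0) : GL ι F)
      ∈ Geo.quadSimilarityGroup (F := F) ⇑Q := by
    refine ⟨Units.mk0 l hl0 * Units.mk0 l hl0, fun v => ?_⟩
    rw [hzval, Matrix.smul_mulVec, Matrix.one_mulVec, QuadraticMap.map_smul, smul_eq_mul, Units.val_mul,
      Units.val_mk0]
  refine ⟨⟨_, hzmem⟩ * g, ⟨?_, ?_⟩, ?_⟩
  · apply (Cfsg.Agent.Lib.helper17.mem_isometryGroup_iff _ _).mpr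
    intro v
    rw [Subgroup.coe_mul, Units.val_mul, ← Matrix.mulVec_mulVec, hzval, Matrix.smul_mulVec,
      Matrix.one_mulVec, QuadraticMap.map_smul, mult_spec ⇑Q g, ← hc, smul_eq_mul, ← mul_assoc, hllc,
      one_mul]
  · show Matrix.GeneralLinearGroup.det ((⟨_, hzmem⟩ * g : ↥(Geo.quadSimilarityGroup (F := F) ⇑Q)) : GL ι F) = 1
    apply Units.ext
    rw [Subgroup.coe_mul, map_mul, Units.val_mul, Matrix.GeneralLinearGroup.val_det_apply,
      Matrix.GeneralLinearGroup.val_det_apply, hzval, Matrix.det_smul, Matrix.det_one, mul_one, hk,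
      Units.val_one, ← hd]
    exact hln
  · rw [map_mul, PsiAut_scalar ⇑Q ⟨_, hzmem⟩ l hzval, one_mul]

/-- in odd dimension the image of the conformal orthogonal group is the image of `SO(Q)` -/
theorem pgoAut_eq_psoAut_of_odd (Q : QuadraticForm F (ι → F))
    (hQ : (QuadraticMap.polarBilin Q).Nondegenerate) (hodd : Odd (Fintype.card ι)) :
    pgoAut F ⇑Q = psoAut F ⇑Q := by
  apply le_antisymm _ (psoAut_le_pgoAut ⇑Q)
  intro β hβ
  rw [pgoAut_eq] at hβ
  obtain ⟨g, -, rfl⟩ := (mem_img _ _ _).mp hβ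
  obtain ⟨h, hh, hhg⟩ := exists_special_of_odd Q hQ hodd g
  rw [psoAut_eq]
  exact (mem_img _ _ _).mpr ⟨h, hh, hhg⟩

theorem detHom_coe (Q : QuadraticForm F (ι → F)) (x : ↥(isometryGroup F ⇑Q)) :
    ((detHom (⇑Q) x : Fˣ) : F) = ((x : GL ι F) : Matrix ι ι F).det := by
  rw [detHom, MonoidHom.comp_apply, Matrix.GeneralLinearGroup.val_det_apply]
  rfl

/-- in odd dimension, `Inn(PΩ(Q))` has index two in the image of `SO(Q)` -/
theorem relIndex_Inn_psoAut_two_of_odd (h2 : (2 : F) ≠ 0) (Q : QuadraticForm F (ι → F))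
    (hQ : (QuadraticMap.polarBilin Q).Nondegenerate) (fr : HypFrame3 Q) (h5 : 5 ≤ Fintype.card ι)
    (hodd : Odd (Fintype.card ι)) :
    (Inn (POmega F ⇑Q)).relIndex (psoAut F ⇑Q) = 2 := by
  rw [Subgroup.relIndex_eq_two_iff]
  have hr : ((1 : Fˣ), (-1 : ℤˣ)) ∈ ((Cfsg.Agent.S0788.Phi Q).range : Set (Fˣ × ℤˣ)) := by
    rw [Cfsg.Agent.S0788.range_Phi h2 Q hQ (by omega)]
    exact ⟨Or.inl rfl, trivial⟩
  obtain ⟨h₀, hh₀⟩ := hr
  have hd0 : detHom (⇑Q) h₀ = 1 := congrArg Prod.fst hh₀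
  have hs0 : spinorSign (⇑Q) h₀ = -1 := congrArg Prod.snd hh₀
  have key : ∀ x : ↥(isometryGroup F ⇑Q), detHom (⇑Q) x = 1 →
      (PsiO ⇑Q x ∈ Inn (POmega F ⇑Q) ↔ x ∈ Omega F ⇑Q) := by
    intro x hx1
    rw [PsiO_mem_Inn_iff Q hQ fr h5 x]
    constructor
    · rintro ⟨w, hw | hw⟩
      · have : x = w.1 := Subtype.ext (Units.ext hw)
        rw [this]
        exact w.2
      · exfalso
        have hw1 : detHom (⇑Q) w.1 = 1 := ((mem_Omega_iff_Phi h2 Q hQ _).mp w.2).1
        have e1 := detHom_coe Q x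
        have e2 := detHom_coe Q w.1
        rw [hx1, Units.val_one] at e1
        rw [hw1, Units.val_one] at e2
        rw [hw, Matrix.det_neg, ← e2, mul_one, hodd.neg_one_pow] at e1
        apply h2
        linear_combination e1
    · intro hx
      exact ⟨⟨x, hx⟩, Or.inl rfl⟩
  refine ⟨PsiO ⇑Q h₀, ?_, ?_⟩
  · rw [psoAut_eq]
    exact (mem_img _ _ _).mpr ⟨_, mem_special_of_detHom Q h₀ hd0, rfl⟩
  · intro b hb
    rw [psoAut_eq] at hb
    obtain ⟨⟨g, hgC⟩, hgSO, rfl⟩ := (mem_img _ _ _).mp hb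
    have hdet := detHom_of_mem_special Q g hgSO
    have e2 : PsiAut ⇑Q ⟨g, hgC⟩ = PsiO ⇑Q ⟨g, hgSO.1⟩ := rfl
    rw [e2, ← map_mul, key _ (by rw [map_mul, hdet, hd0, mul_one]), key _ hdet,
      mem_Omega_iff_Phi h2 Q hQ, mem_Omega_iff_Phi h2 Q hQ, map_mul, map_mul, hd0, hs0, hdet]
    rcases Int.units_eq_one_or (spinorSign (⇑Q) ⟨g, hgSO.1⟩) with h | h
    · rw [h]
      right
      exact ⟨⟨rfl, rfl⟩, fun hc => absurd hc.2 (by decide)⟩
    · rw [h]
      left
      exact ⟨⟨one_mul 1, by decide⟩, fun hc => absurd hc.2 (by decide)⟩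

/-- the order of the image of the conformal orthogonal group in odd dimension -/
theorem card_pgoAut_of_odd (h2 : (2 : F) ≠ 0) (Q : QuadraticForm F (ι → F))
    (hQ : (QuadraticMap.polarBilin Q).Nondegenerate) (fr : HypFrame3 Q) (h5 : 5 ≤ Fintype.card ι)
    (hodd : Odd (Fintype.card ι)) :
    Nat.card ↥(pgoAut F ⇑Q) = 2 * Nat.card (POmega F ⇑Q) := by
  rw [pgoAut_eq_psoAut_of_odd Q hQ hodd, card_of_relIndex _ _ (Inn_le_psoAut ⇑Q),
    relIndex_Inn_psoAut_two_of_odd h2 Q hQ fr h5 hodd, card_Inn_POmega Q hQ fr h5, mul_comm]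

end

/-- The number of field automorphisms of a field with `p ^ f` elements. -/
theorem card_ringEquiv_self {F : Type*} [Field F] [Fintype F] {p f : ℕ} [Fact p.Prime]
    (hF : Fintype.card F = p ^ f) : Nat.card (F ≃+* F) = f := by
  have : CharP F p := charP_of_card_eq_prime_pow hF
  let _ : Algebra (ZMod p) F := ZMod.algebra F p
  have e : (F ≃ₐ[ZMod p] F) ≃ (F ≃+* F) :=
    { toFun := fun a => a.toRingEquiv
      invFun := fun r => AlgEquiv.ofRingEquiv (f := r) (fun x =>
        RingHom.congr_fun (Subsingleton.elim ((r : F →+* F).comp (algebraMap (ZMod p) F))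
          (algebraMap (ZMod p) F)) x)
      left_inv := fun a => by ext; rfl
      right_inv := fun r => by ext; rfl }
  rw [← Nat.card_congr e, IsGalois.card_aut_eq_finrank]
  have h1 : Fintype.card F = p ^ Module.finrank (ZMod p) F := by
    rw [Module.card_eq_pow_finrank (K := ZMod p) (V := F), ZMod.card]
  exact Nat.pow_right_injective (Fact.out : p.Prime).two_le (h1.symm.trans hF)

section
variable {F : Type*} [Field F]

/-- the standard hyperbolic frame of the odd-dimensional form -/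
noncomputable def oddFrame (m : ℕ) (hm : 3 ≤ m) : HypFrame3 (oddForm m F) where
  e := fun i => Pi.single (Sum.inr (Sum.inl (Fin.castLE hm i))) 1
  f := fun i => Pi.single (Sum.inr (Sum.inr (Fin.castLE hm i))) 1
  Qe := fun i => oddForm_single_inr m _
  Qf := fun i => oddForm_single_inr m _
  ee := fun i j => by
    rw [polar_oddForm_single]
    simp [gramOdd]
  ff := fun i j => by
    rw [polar_oddForm_single]
    simp [gramOdd]
  ef := fun i j => by
    rw [polar_oddForm_single]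
    simp [gramOdd, Matrix.one_apply]

theorem card_odd_index (m : ℕ) : Fintype.card (Unit ⊕ (Fin m ⊕ Fin m)) = 2 * m + 1 := by
  simp only [Fintype.card_sum, Fintype.card_fin, Fintype.card_unit]
  omega

/-- coordinatewise field automorphisms are semisimilarities of the standard odd-dimensional form -/
theorem oddForm_pair (m : ℕ) (σ : F ≃+* F) :
    IsSemisimilarityPair (quadFormOdd m F) (1 : GL (Unit ⊕ (Fin m ⊕ Fin m)) F) σ := by
  refine ⟨1, fun v => ?_⟩
  rw [Units.val_one, Matrix.one_mulVec, Units.val_one, one_mul]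
  simp only [quadFormOdd, map_add, map_pow, map_sum, map_mul]

/-- the order of the image of the semisimilarity group for the standard form of dimension `2m+1` -/
theorem card_gamma_odd [Fintype F] (p f : ℕ) [Fact p.Prime] (hF : Fintype.card F = p ^ f)
    (hodd : Odd (Fintype.card F)) (m : ℕ) (hm : 3 ≤ m) :
    Nat.card ↥(gammaPOmega F (quadFormOdd m F))
      = 2 * f * Nat.card (POmega F (quadFormOdd m F)) := by
  have h2 : (2 : F) ≠ 0 := two_ne_zero_of_odd_card hodd
  have hQ := oddForm_nondeg17 h2 m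
  have h5 : 5 ≤ Fintype.card (Unit ⊕ (Fin m ⊕ Fin m)) := by rw [card_odd_index]; omega
  have hoddι : Odd (Fintype.card (Unit ⊕ (Fin m ⊕ Fin m))) := by rw [card_odd_index]; exact ⟨m, rfl⟩
  have h1 := card_gamma (oddForm m F) hQ (oddFrame m hm) h5 (fun σ => ⟨1, oddForm_pair m σ⟩)
  have h3 := card_pgoAut_of_odd h2 (oddForm m F) hQ (oddFrame m hm) h5 hoddι
  rw [h3, card_ringEquiv_self hF] at h1
  have h1' : Nat.card ↥(gammaPOmega F (quadFormOdd m F))
      = 2 * Nat.card (POmega F (quadFormOdd m F)) * f := h1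
  rw [h1']
  ring

end

end Cfsg.Agent.Lib.helper42
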