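import Cfsg.Agent.Lib.helper42.GammaOdd

/-!
The outer automorphism group of `PΩ_{2m+1}(q)` under the hypothesis that every automorphism comes from a
semisimilarity: splitting by the coordinatewise field automorphisms.
-/

set_option autoImplicit false
set_option linter.unusedSectionVars false

namespace Cfsg.Agent.Lib.helper42

open Matrix Cfsg Cfsg.Agent.Lib.helper17
open Cfsg.Agent.Lib.helper49 (oddForm oddForm_coe)

/-- a normal subgroup of order two is central -/
theorem central_of_card_two {G : Type*} [Group G] (K : Subgroup G) [hK : K.Normal] (hcard : Nat.card K = 2)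
    (n : G) (hn : n ∈ K) (g : G) : g * n = n * g := by
  by_cases h1 : n = 1
  · rw [h1, mul_one, one_mul]
  obtain ⟨y, -, hy⟩ := (Nat.card_eq_two_iff' (1 : K)).mp hcard
  have e1 : (⟨n, hn⟩ : K) = y := hy _ (fun h => h1 (congrArg Subtype.val h))
  have e2 : (⟨g * n * g⁻¹, hK.conj_mem n hn g⟩ : K) = y := hy _ (fun h => h1 (by
    have h' : g * n * g⁻¹ = 1 := congrArg Subtype.val h
    have h'' : n = g⁻¹ * (g * n * g⁻¹) * g := by group
    rw [h'', h']
    group))
  have e3 : g * n * g⁻¹ = n := congrArg Subtype.val (e2.trans e1.symm)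
  calc g * n = g * n * g⁻¹ * g := by group
    _ = n * g := by rw [e3]

/-- a split surjection with kernel of order two is a direct product -/
theorem nonempty_mulEquiv_prod_of_split {G C : Type*} [Group G] [Group C] (π : G →* C) (s : C →* G)
    (hs : ∀ c, π (s c) = c) (hker : Nat.card π.ker = 2) : Nonempty (G ≃* π.ker × C) := by
  have hmem : ∀ g : G, g * (s (π g))⁻¹ ∈ π.ker := by
    intro g
    rw [MonoidHom.mem_ker, map_mul, map_inv, hs, mul_inv_cancel]
  exact ⟨{ toFun := fun g => (⟨g * (s (π g))⁻¹, hmem g⟩, π g)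
           invFun := fun x => (x.1 : G) * s x.2
           left_inv := fun g => by
             show g * (s (π g))⁻¹ * s (π g) = g
             group
           right_inv := fun x => by
             have hx : π (x.1 : G) = 1 := MonoidHom.mem_ker.mp x.1.2
             apply Prod.ext
             · apply Subtype.ext
               show (x.1 : G) * s x.2 * (s (π ((x.1 : G) * s x.2)))⁻¹ = (x.1 : G)
               rw [map_mul, hx, one_mul, hs]
               group
             · show π ((x.1 : G) * s x.2) = x.2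
               rw [map_mul, hx, one_mul, hs]
           map_mul' := fun g₁ g₂ => by
             apply Prod.ext
             · apply Subtype.ext
               show g₁ * g₂ * (s (π (g₁ * g₂)))⁻¹ = g₁ * (s (π g₁))⁻¹ * (g₂ * (s (π g₂))⁻¹)
               have hc := central_of_card_two π.ker hker _ (hmem g₂) (s (π g₁))⁻¹
               rw [mul_assoc g₁ (s (π g₁))⁻¹, hc, map_mul, map_mul, _root_.mul_inv_rev]
               group
             · show π (g₁ * g₂) = π g₁ * π g₂
               rw [map_mul] }⟩

/-- the automorphism group of a finite field is cyclic -/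
theorem isCyclic_ringAut {F : Type*} [Field F] [Fintype F] : IsCyclic (RingAut F) := by
  obtain ⟨p, hp⟩ := CharP.exists F
  have hprime : Fact p.Prime := ⟨CharP.char_is_prime F p⟩
  let _ : Algebra (ZMod p) F := ZMod.algebra F p
  let φ : (F ≃ₐ[ZMod p] F) →* RingAut F :=
    { toFun := fun a => a.toRingEquiv
      map_one' := rfl
      map_mul' := fun a b => rfl }
  have hφ : Function.Surjective φ := by
    intro r
    refine ⟨AlgEquiv.ofRingEquiv (f := r) (fun x =>
        RingHom.congr_fun (Subsingleton.elim ((r : F →+* F).comp (algebraMap (ZMod p) F))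
          (algebraMap (ZMod p) F)) x), ?_⟩
    ext x
    rfl
  exact isCyclic_of_surjective φ hφ

section
variable {F : Type*} [Field F]

/-- coordinatewise field automorphisms of `PΩ_{2m+1}(F)` -/
noncomputable def fieldAutOdd (m : ℕ) : RingAut F →* MulAut (POmega F (⇑(oddForm m F))) where
  toFun σ := PsiSemi (⇑(oddForm m F)) 1 σ (oddForm_pair m σ)
  map_one' := by
    symm
    exact (induced_iff_eq_PsiSemi (⇑(oddForm m F)) 1 (RingEquiv.refl F) (oddForm_pair m _) 1).mp
      (induced_one (⇑(oddForm m F)))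
  map_mul' σ₁ σ₂ := by
    symm
    apply (induced_iff_eq_PsiSemi (⇑(oddForm m F)) 1 (σ₁ * σ₂) (oddForm_pair m _) _).mp
    have h := induced_mul (⇑(oddForm m F)) 1 1 σ₁ σ₂ (oddForm_pair m σ₂) _ _
      (PsiSemi_induced (⇑(oddForm m F)) 1 σ₁ (oddForm_pair m σ₁))
      (PsiSemi_induced (⇑(oddForm m F)) 1 σ₂ (oddForm_pair m σ₂))
    rw [map_one, mul_one] at h
    exact h

/-- the outer automorphism group of `PΩ_{2m+1}(q)` when all automorphisms are induced by semisimilarities -/
theorem out_odd_of_hub_aux [Fintype F] (p f : ℕ) [Fact p.Prime] (hf : 1 ≤ f) (hF : Fintype.card F = p ^ f)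
    (hodd : Odd (Fintype.card F)) (m : ℕ) (hm : 3 ≤ m)
    (hub : gammaPOmega F (⇑(oddForm m F)) = ⊤) :
    Nonempty (Out (POmega F (⇑(oddForm m F))) ≃* Multiplicative (ZMod 2 × ZMod f)) := by
  have h2 : (2 : F) ≠ 0 := two_ne_zero_of_odd_card hodd
  have hQ := oddForm_nondeg17 h2 m
  have h5 : 5 ≤ Fintype.card (Unit ⊕ (Fin m ⊕ Fin m)) := by rw [card_odd_index]; omega
  have hf0 : NeZero f := ⟨by omega⟩
  -- the field automorphism of an automorphism
  let ι₀ : MulAut (POmega F (⇑(oddForm m F))) →* ↥(gammaPOmega F (⇑(oddForm m F))) :=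
    (MonoidHom.id _).codRestrict _ (fun β => by rw [hub]; exact Subgroup.mem_top β)
  let σA : MulAut (POmega F (⇑(oddForm m F))) →* RingAut F :=
    (sigmaHom (oddForm m F) hQ (oddFrame m hm) h5).comp ι₀
  have hInn : Inn (POmega F (⇑(oddForm m F))) ≤ σA.ker := by
    intro β hβ
    have h1 : ι₀ β ∈ (sigmaHom (oddForm m F) hQ (oddFrame m hm) h5).ker := by
      rw [sigmaHom_ker, Subgroup.mem_subgroupOf]
      exact psoAut_le_pgoAut _ (Inn_le_psoAut _ hβ)
    exact h1
  let σO : Out (POmega F (⇑(oddForm m F))) →* RingAut F :=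
    QuotientGroup.lift (Inn (POmega F (⇑(oddForm m F)))) σA hInn
  let sec : RingAut F →* Out (POmega F (⇑(oddForm m F))) :=
    (QuotientGroup.mk' (Inn (POmega F (⇑(oddForm m F))))).comp (fieldAutOdd m)
  have hsec : ∀ σ, σO (sec σ) = σ := by
    intro σ
    show sigmaHom (oddForm m F) hQ (oddFrame m hm) h5 (ι₀ (fieldAutOdd m σ)) = σ
    exact sigmaHom_eq (oddForm m F) hQ (oddFrame m hm) h5 _ 1 σ (oddForm_pair m σ)
      (PsiSemi_induced (⇑(oddForm m F)) 1 σ (oddForm_pair m σ))
  -- orders
  have hcardA : Nat.card (MulAut (POmega F (⇑(oddForm m F))))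
      = 2 * f * Nat.card (POmega F (⇑(oddForm m F))) := by
    have h := card_gamma_odd p f hF hodd m hm
    have h' : Nat.card ↥(gammaPOmega F ⇑(oddForm m F)) = 2 * f * Nat.card (POmega F ⇑(oddForm m F)) := h
    rw [← h', hub, Subgroup.card_top]
  have hcardInn : Nat.card ↥(Inn (POmega F (⇑(oddForm m F)))) = Nat.card (POmega F (⇑(oddForm m F))) :=
    card_Inn_POmega (oddForm m F) hQ (oddFrame m hm) h5
  have hfin : Finite (POmega F (⇑(oddForm m F))) := inferInstance
  have hpos : 0 < Nat.card (POmega F (⇑(oddForm m F))) := Nat.card_pos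
  have hcardOut : Nat.card (Out (POmega F (⇑(oddForm m F)))) = 2 * f := by
    have h := Subgroup.card_eq_card_quotient_mul_card_subgroup (Inn (POmega F (⇑(oddForm m F))))
    rw [hcardA, hcardInn] at h
    exact (Nat.eq_of_mul_eq_mul_right hpos h).symm
  have hsurj : Function.Surjective σO := fun σ => ⟨sec σ, hsec σ⟩
  have hker : Nat.card σO.ker = 2 := by
    have h := Subgroup.card_mul_index σO.ker
    rw [Subgroup.index_ker, MonoidHom.range_eq_top.mpr hsurj, Subgroup.card_top, hcardOut] at h
    have h' : Nat.card (RingAut F) = f := card_ringEquiv_self hF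
    rw [h'] at h
    exact Nat.eq_of_mul_eq_mul_right (by omega) h
  obtain ⟨e₁⟩ := nonempty_mulEquiv_prod_of_split σO sec hsec hker
  have hprime2 : Fact (Nat.Prime 2) := ⟨Nat.prime_two⟩
  have e₂ : ↥σO.ker ≃* Multiplicative (ZMod 2) :=
    mulEquivOfPrimeCardEq (p := 2) hker (by rw [Nat.card_eq_fintype_card]; rfl)
  have hcyc : IsCyclic (RingAut F) := isCyclic_ringAut
  have e₃ : RingAut F ≃* Multiplicative (ZMod f) :=
    mulEquivOfCyclicCardEq (by
      have h' : Nat.card (RingAut F) = f := card_ringEquiv_self hF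
      rw [h', Nat.card_eq_fintype_card, Fintype.card_multiplicative, ZMod.card])
  exact ⟨e₁.trans ((e₂.prodCongr e₃).trans (MulEquiv.prodMultiplicative (ZMod 2) (ZMod f)).symm)⟩

/-- the outer automorphism group of `PΩ_{2m+1}(q)` when all automorphisms are induced by semisimilarities -/
theorem out_odd_of_hub [Fintype F] (p f : ℕ) [Fact p.Prime] (hf : 1 ≤ f) (hF : Fintype.card F = p ^ f)
    (hodd : Odd (Fintype.card F)) (m : ℕ) (hm : 3 ≤ m)
    (hub : gammaPOmega F (quadFormOdd m F) = ⊤) :
    Nonempty (Out (POmega F (quadFormOdd m F)) ≃* Multiplicative (ZMod 2 × ZMod f)) :=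
  out_odd_of_hub_aux p f hf hF hodd m hm hub

end

end Cfsg.Agent.Lib.helper42
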