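import Cfsg.Agent.Lib.helper42.InndiagGen
import Cfsg.Agent.Lib.helper42.OrthFrames
import Cfsg.Agent.Lib.helper42.Similitudes
import Cfsg.Agent.Lib.helper42.OrthoRank2

/-!
`Inndiag(PΩ⁺_{2m}(q))` modulo `Inn`, `q` odd: the similarities of the plus-type form preserving the two classes
of maximal totally singular subspaces are those with `det g = μ(g)^m`; the quotient is `Z₂` if `-1 ∉ Ω`,
`Z₄` if `-1 ∈ Ω` and `m` is odd, `Z₂ × Z₂` if `m` is even.
-/

set_option autoImplicit false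
set_option linter.unusedSectionVars false

namespace Cfsg.Agent.Lib.helper42

open Matrix Cfsg Cfsg.Agent.Lib.helper17 Module
open Cfsg.Agent.Lib.helper49 (detHom spinorSign plusForm plusForm_coe)

section
variable {F : Type*} [Field F]

/-- the standard totally singular subspace of the plus-type form: vectors supported on the first half -/
def plusU0 (m : ℕ) (F : Type*) [Field F] : Submodule F (Fin m ⊕ Fin m → F) where
  carrier := {x | ∀ i, x (Sum.inr i) = 0}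
  add_mem' := fun {a b} ha hb i => by rw [Pi.add_apply, ha i, hb i, add_zero]
  zero_mem' := fun i => rfl
  smul_mem' := fun c x hx i => by rw [Pi.smul_apply, hx i, smul_zero]

theorem mem_plusU0 (m : ℕ) (x : Fin m ⊕ Fin m → F) :
    x ∈ plusU0 m F ↔ ∀ i, x (Sum.inr i) = 0 := Iff.rfl

theorem plusU0_ts (m : ℕ) : ∀ u ∈ plusU0 m F, plusForm m F u = 0 := by
  intro u hu
  show quadFormPlus m F u = 0
  unfold quadFormPlus
  exact Finset.sum_eq_zero (fun i _ => by rw [hu i, mul_zero])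

theorem finrank_plusU0 (m : ℕ) : finrank F (plusU0 m F) = m := by
  let e : plusU0 m F ≃ₗ[F] (Fin m → F) :=
    { toFun := fun x => fun i => x.1 (Sum.inl i)
      map_add' := fun x y => rfl
      map_smul' := fun c x => rfl
      invFun := fun y => ⟨Sum.elim y 0, fun i => rfl⟩
      left_inv := fun x => by
        apply Subtype.ext
        funext j
        rcases j with j | j
        · rfl
        · exact (x.2 j).symm
      right_inv := fun y => rfl }
  rw [e.finrank_eq, Module.finrank_fintype_fun_eq_card, Fintype.card_fin]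

/-- the diagonal similarity `diag(c, 1)` -/
def diagSim (m : ℕ) (c : Fˣ) : GL (Fin m ⊕ Fin m) F :=
  ⟨Matrix.diagonal (Sum.elim (fun _ => (c : F)) (fun _ => 1)),
    Matrix.diagonal (Sum.elim (fun _ => ((c⁻¹ : Fˣ) : F)) (fun _ => 1)), by
      rw [Matrix.diagonal_mul_diagonal, ← Matrix.diagonal_one]
      congr 1
      ext i
      rcases i with i | i <;> simp, by
      rw [Matrix.diagonal_mul_diagonal, ← Matrix.diagonal_one]
      congr 1
      ext i
      rcases i with i | i <;> simp⟩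

theorem diagSim_val (m : ℕ) (c : Fˣ) : ((diagSim m c : GL (Fin m ⊕ Fin m) F) : Matrix (Fin m ⊕ Fin m) (Fin m ⊕ Fin m) F)
    = Matrix.diagonal (Sum.elim (fun _ => (c : F)) (fun _ => 1)) := rfl

theorem diagSim_sim (m : ℕ) (c : Fˣ) (v : Fin m ⊕ Fin m → F) :
    plusForm m F (((diagSim m c : GL (Fin m ⊕ Fin m) F) : Matrix (Fin m ⊕ Fin m) (Fin m ⊕ Fin m) F) *ᵥ v)
      = (c : F) * plusForm m F v := by
  show quadFormPlus m F (Matrix.diagonal (Sum.elim (fun _ => (c : F)) (fun _ => 1)) *ᵥ v)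
    = (c : F) * quadFormPlus m F v
  unfold quadFormPlus
  rw [Finset.mul_sum]
  refine Finset.sum_congr rfl (fun i _ => ?_)
  rw [Matrix.mulVec_diagonal, Matrix.mulVec_diagonal]
  simp only [Sum.elim_inl, Sum.elim_inr, one_mul]
  ring

theorem diagSim_mem_U0 (m : ℕ) (c : Fˣ) :
    ∀ u ∈ plusU0 m F, ((diagSim m c : GL (Fin m ⊕ Fin m) F) : Matrix (Fin m ⊕ Fin m) (Fin m ⊕ Fin m) F) *ᵥ u ∈ plusU0 m F := by
  intro u hu i
  rw [diagSim_val, Matrix.mulVec_diagonal, hu i, mul_zero]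

theorem diagSim_det (m : ℕ) (c : Fˣ) :
    ((diagSim m c : GL (Fin m ⊕ Fin m) F) : Matrix (Fin m ⊕ Fin m) (Fin m ⊕ Fin m) F).det = (c : F) ^ m := by
  rw [diagSim_val, Matrix.det_diagonal, Fintype.prod_sum_type]
  simp

/-- the similarity `e_i ↦ f_i`, `f_i ↦ c e_i` -/
def tSim (m : ℕ) (c : Fˣ) : GL (Fin m ⊕ Fin m) F :=
  ⟨Matrix.fromBlocks 0 ((c : F) • 1) 1 0, Matrix.fromBlocks 0 1 (((c⁻¹ : Fˣ) : F) • 1) 0, by
      rw [Matrix.fromBlocks_multiply]
      simp [← Matrix.fromBlocks_one], by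
      rw [Matrix.fromBlocks_multiply]
      simp [← Matrix.fromBlocks_one]⟩

theorem tSim_val (m : ℕ) (c : Fˣ) : ((tSim m c : GL (Fin m ⊕ Fin m) F) : Matrix (Fin m ⊕ Fin m) (Fin m ⊕ Fin m) F)
    = Matrix.fromBlocks 0 ((c : F) • 1) 1 0 := rfl

theorem tSim_mulVec_inl (m : ℕ) (c : Fˣ) (x : Fin m ⊕ Fin m → F) (i : Fin m) :
    (((tSim m c : GL (Fin m ⊕ Fin m) F) : Matrix (Fin m ⊕ Fin m) (Fin m ⊕ Fin m) F) *ᵥ x) (Sum.inl i) = (c : F) * x (Sum.inr i) := by
  rw [tSim_val, Matrix.fromBlocks_mulVec]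
  simp [Matrix.smul_mulVec]

theorem tSim_mulVec_inr (m : ℕ) (c : Fˣ) (x : Fin m ⊕ Fin m → F) (i : Fin m) :
    (((tSim m c : GL (Fin m ⊕ Fin m) F) : Matrix (Fin m ⊕ Fin m) (Fin m ⊕ Fin m) F) *ᵥ x) (Sum.inr i) = x (Sum.inl i) := by
  rw [tSim_val, Matrix.fromBlocks_mulVec]
  simp

theorem tSim_sim (m : ℕ) (c : Fˣ) (v : Fin m ⊕ Fin m → F) :
    plusForm m F (((tSim m c : GL (Fin m ⊕ Fin m) F) : Matrix (Fin m ⊕ Fin m) (Fin m ⊕ Fin m) F) *ᵥ v)
      = (c : F) * plusForm m F v := by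
  show quadFormPlus m F (((tSim m c : GL (Fin m ⊕ Fin m) F) : Matrix (Fin m ⊕ Fin m) (Fin m ⊕ Fin m) F) *ᵥ v)
    = (c : F) * quadFormPlus m F v
  unfold quadFormPlus
  rw [Finset.mul_sum]
  refine Finset.sum_congr rfl (fun i _ => ?_)
  rw [tSim_mulVec_inl, tSim_mulVec_inr]
  ring

theorem tSim_sq (m : ℕ) (c : Fˣ) :
    ((tSim m c : GL (Fin m ⊕ Fin m) F) : Matrix (Fin m ⊕ Fin m) (Fin m ⊕ Fin m) F) * ((tSim m c : GL (Fin m ⊕ Fin m) F) : Matrix (Fin m ⊕ Fin m) (Fin m ⊕ Fin m) F)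
      = (c : F) • (1 : Matrix (Fin m ⊕ Fin m) (Fin m ⊕ Fin m) F) := by
  rw [tSim_val, Matrix.fromBlocks_multiply, ← Matrix.fromBlocks_one, Matrix.fromBlocks_smul]
  simp

theorem tSim_disj (m : ℕ) (c : Fˣ) :
    plusU0 m F ⊓ (plusU0 m F).map ((tSim m c : GL (Fin m ⊕ Fin m) F) : Matrix (Fin m ⊕ Fin m) (Fin m ⊕ Fin m) F).mulVecLin = ⊥ := by
  rw [eq_bot_iff]
  rintro x ⟨hx, y, hy, rfl⟩
  rw [Submodule.mem_bot]
  funext j
  rcases j with j | j
  · rw [Matrix.mulVecLin_apply, tSim_mulVec_inl, hy j, mul_zero]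
    rfl
  · exact hx j

end

section
variable {F : Type*} [Field F] [Fintype F]

theorem card_sum_fin (m : ℕ) : Fintype.card (Fin m ⊕ Fin m) = 2 * m := by
  simp only [Fintype.card_sum, Fintype.card_fin]
  omega

theorem reflSubgroup_plusForm_eq_top (hodd : Odd (Fintype.card F)) (m : ℕ) :
    reflSubgroup (plusForm m F) = ⊤ :=
  Cfsg.Agent.S0786.reflSubgroup_eq_top' _ (plusForm_nondegenerate m) (Or.inl (by
    intro h
    rw [h] at hodd
    exact absurd hodd (by decide)))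

theorem finrank_plusU0_dim (m : ℕ) :
    2 * finrank F (plusU0 m F) = Fintype.card (Fin m ⊕ Fin m) := by
  rw [finrank_plusU0, card_sum_fin]

/-- a similarity of the plus-type form preserves the two classes iff `det g = μ(g)^m` -/
theorem psc_plus_iff (hodd : Odd (Fintype.card F)) (m : ℕ) (x₁ : Fin m ⊕ Fin m → F)
    (hx₁ : plusForm m F x₁ ≠ 0) (g : ↥(Geo.quadSimilarityGroup (F := F) ⇑(plusForm m F))) :
    PreservesSingularClasses ⇑(plusForm m F)
        ((g : GL (Fin m ⊕ Fin m) F) : Matrix (Fin m ⊕ Fin m) (Fin m ⊕ Fin m) F)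
      ↔ deltaHom ⇑(plusForm m F) x₁ hx₁ g = 1 := by
  have h2 := two_ne_zero_of_odd_card hodd
  rw [deltaHom_eq_one_iff, card_sum_fin, Nat.mul_div_cancel_left m (by norm_num : 0 < 2),
    ← diagSim_det m (mult ⇑(plusForm m F) g)]
  exact psc_iff_det h2 (plusForm m F) (plusForm_nondegenerate m)
    (reflSubgroup_plusForm_eq_top hodd m) (plusU0 m F) (plusU0_ts m) (finrank_plusU0_dim m) _
    (Units.ne_zero _) (diagSim m (mult ⇑(plusForm m F) g)) (diagSim_sim m _)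
    (map_eq_self_of_GL _ _ (diagSim_mem_U0 m _)) g (mult_spec _ g)

theorem inndiagPOmegaPlus_eq (hodd : Odd (Fintype.card F)) (m : ℕ) (x₁ : Fin m ⊕ Fin m → F)
    (hx₁ : plusForm m F x₁ ≠ 0) :
    inndiagPOmegaPlus m F = inndiagGen ⇑(plusForm m F) x₁ hx₁ := by
  rw [← autSubgroupOf_psc_eq ⇑(plusForm m F) x₁ hx₁ (psc_plus_iff hodd m x₁ hx₁)]
  rfl

theorem diagSim_mem (m : ℕ) (c : Fˣ) :
    diagSim m c ∈ Geo.quadSimilarityGroup (F := F) ⇑(plusForm m F) := ⟨c, diagSim_sim m c⟩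

theorem tSim_mem (m : ℕ) (c : Fˣ) :
    tSim m c ∈ Geo.quadSimilarityGroup (F := F) ⇑(plusForm m F) := ⟨c, tSim_sim m c⟩

theorem mult_diagSim (m : ℕ) (c : Fˣ) (x₁ : Fin m ⊕ Fin m → F) (hx₁ : plusForm m F x₁ ≠ 0) :
    ((mult ⇑(plusForm m F) ⟨diagSim m c, diagSim_mem m c⟩ : Fˣ) : F) = c :=
  mult_unique _ x₁ hx₁ _ c (diagSim_sim m c x₁)

theorem mult_tSim (m : ℕ) (c : Fˣ) (x₁ : Fin m ⊕ Fin m → F) (hx₁ : plusForm m F x₁ ≠ 0) :
    ((mult ⇑(plusForm m F) ⟨tSim m c, tSim_mem m c⟩ : Fˣ) : F) = c :=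
  mult_unique _ x₁ hx₁ _ c (tSim_sim m c x₁)

theorem deltaHom_diagSim (m : ℕ) (c : Fˣ) (x₁ : Fin m ⊕ Fin m → F) (hx₁ : plusForm m F x₁ ≠ 0) :
    deltaHom ⇑(plusForm m F) x₁ hx₁ ⟨diagSim m c, diagSim_mem m c⟩ = 1 := by
  rw [deltaHom_eq_one_iff, mult_diagSim m c x₁ hx₁, card_sum_fin,
    Nat.mul_div_cancel_left m (by norm_num : 0 < 2)]
  exact diagSim_det m c

/-- the similarity `tSim` preserves the two classes iff `m` is even -/
theorem deltaHom_tSim_iff (hodd : Odd (Fintype.card F)) (m : ℕ) (c : Fˣ) (x₁ : Fin m ⊕ Fin m → F)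
    (hx₁ : plusForm m F x₁ ≠ 0) :
    deltaHom ⇑(plusForm m F) x₁ hx₁ ⟨tSim m c, tSim_mem m c⟩ = 1 ↔ Even m := by
  have h2 := two_ne_zero_of_odd_card hodd
  rw [deltaHom_eq_one_iff, mult_tSim m c x₁ hx₁, card_sum_fin,
    Nat.mul_div_cancel_left m (by norm_num : 0 < 2), ← diagSim_det m c]
  have hpar := parity_similarity h2 (plusForm m F) (plusForm_nondegenerate m)
    (reflSubgroup_plusForm_eq_top hodd m) (plusU0 m F) (plusU0_ts m) (finrank_plusU0_dim m)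
    (tSim m c) (diagSim m c) c (Units.ne_zero c) (tSim_sim m c) (diagSim_sim m c)
    (map_eq_self_of_GL _ _ (diagSim_mem_U0 m c))
  rw [tSim_disj, finrank_bot, Nat.sub_zero, finrank_plusU0] at hpar
  exact hpar.symm

end

section
variable {F : Type*} [Field F] [Fintype F]

/-- `Inndiag(PΩ⁺_{2m}(q)) / Inn` has order two if `-1 ∉ Ω` -/
theorem inndiagPlus_two (hodd : Odd (Fintype.card F)) {m : ℕ} (hm : 4 ≤ m) (c : Fˣ)
    (hc : ¬ IsSquare (c : F))
    (hneg : ¬ ∃ w : ↥(Omega F ⇑(plusForm m F)),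
      (((w : ↥(isometryGroup F ⇑(plusForm m F))) : GL (Fin m ⊕ Fin m) F)
        : Matrix (Fin m ⊕ Fin m) (Fin m ⊕ Fin m) F) = -1) :
    ∃ φ : ↥(inndiagPOmegaPlus m F) →* Multiplicative (ZMod 2), Function.Surjective φ ∧
      φ.ker = (Inn (POmega F (quadFormPlus m F))).subgroupOf (inndiagPOmegaPlus m F) := by
  have h2 := two_ne_zero_of_odd_card hodd
  rw [inndiagPOmegaPlus_eq hodd m _ (plusFrame m (by omega)).Q_x1_ne]
  exact inndiagGen_mod_inn_two h2 (plusForm m F) (plusForm_nondegenerate m) (plusFrame m (by omega))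
    (by rw [card_sum_fin]; omega) (by rw [card_sum_fin]; exact even_two_mul m)
    ⟨diagSim m c, diagSim_mem m c⟩ (deltaHom_diagSim m c _ _)
    (by rw [mult_diagSim m c _ (plusFrame m (by omega)).Q_x1_ne]; exact hc) hneg

/-- `Inndiag(PΩ⁺_{2m}(q)) / Inn` is a Klein four group if `m` is even -/
theorem inndiagPlus_klein (hodd : Odd (Fintype.card F)) {m : ℕ} (hm : 4 ≤ m) (hmeven : Even m)
    (c : Fˣ) (hc : ¬ IsSquare (c : F))
    (hneg : ∃ w : ↥(Omega F ⇑(plusForm m F)),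
      (((w : ↥(isometryGroup F ⇑(plusForm m F))) : GL (Fin m ⊕ Fin m) F)
        : Matrix (Fin m ⊕ Fin m) (Fin m ⊕ Fin m) F) = -1) :
    ∃ φ : ↥(inndiagPOmegaPlus m F) →* Multiplicative (ZMod 2 × ZMod 2), Function.Surjective φ ∧
      φ.ker = (Inn (POmega F (quadFormPlus m F))).subgroupOf (inndiagPOmegaPlus m F) := by
  have h2 := two_ne_zero_of_odd_card hodd
  rw [inndiagPOmegaPlus_eq hodd m _ (plusFrame m (by omega)).Q_x1_ne]
  refine inndiagGen_mod_inn_klein h2 (plusForm m F) (plusForm_nondegenerate m)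
    (plusFrame m (by omega)) (by rw [card_sum_fin]; omega)
    (by rw [card_sum_fin]; exact even_two_mul m)
    ⟨tSim m c, tSim_mem m c⟩ ((deltaHom_tSim_iff hodd m c _ _).mpr hmeven)
    (by rw [mult_tSim m c _ (plusFrame m (by omega)).Q_x1_ne]; exact hc) hneg ?_
  have hz : PsiAut ⇑(plusForm m F)
      ((⟨tSim m c, tSim_mem m c⟩ : ↥(Geo.quadSimilarityGroup (F := F) ⇑(plusForm m F)))
        * ⟨tSim m c, tSim_mem m c⟩) = 1 :=
    PsiAut_scalar _ _ (c : F) (by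
      rw [Subgroup.coe_mul, Units.val_mul]
      exact tSim_sq m c)
  rw [hz]
  exact Subgroup.one_mem _

/-- `Inndiag(PΩ⁺_{2m}(q)) / Inn` is cyclic of order four if `m` is odd and `-1 ∈ Ω` -/
theorem inndiagPlus_cyclic (hodd : Odd (Fintype.card F)) {m : ℕ} (hm : 4 ≤ m) (hmodd : ¬ Even m)
    (c : Fˣ) (hc : ¬ IsSquare (c : F))
    (hneg : ∃ w : ↥(Omega F ⇑(plusForm m F)),
      (((w : ↥(isometryGroup F ⇑(plusForm m F))) : GL (Fin m ⊕ Fin m) F)
        : Matrix (Fin m ⊕ Fin m) (Fin m ⊕ Fin m) F) = -1) :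
    ∃ φ : ↥(inndiagPOmegaPlus m F) →* Multiplicative (ZMod 4), Function.Surjective φ ∧
      φ.ker = (Inn (POmega F (quadFormPlus m F))).subgroupOf (inndiagPOmegaPlus m F) := by
  have h2 := two_ne_zero_of_odd_card hodd
  rw [inndiagPOmegaPlus_eq hodd m _ (plusFrame m (by omega)).Q_x1_ne]
  exact inndiagGen_mod_inn_cyclic' h2 (plusForm m F) (plusForm_nondegenerate m)
    (plusFrame m (by omega)) (by rw [card_sum_fin]; omega)
    (by rw [card_sum_fin]; exact even_two_mul m) hneg ⟨tSim m c, tSim_mem m c⟩ c hc (tSim_sim m c)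
    (tSim_sq m c) (fun h => hmodd ((deltaHom_tSim_iff hodd m c _ _).mp h))

end

end Cfsg.Agent.Lib.helper42
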