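import Cfsg.Agent.Lib.helper42.AutImage

/-!
Semisimilarities `v ↦ g σ(v)` of a quadratic form and the automorphisms of `PΩ(Q)` they induce: the induced
automorphisms form a group, so every element of `Cfsg.gammaPOmega` is induced by a single pair `(g, σ)`.
-/

set_option autoImplicit false
set_option linter.unusedSectionVars false

namespace Cfsg.Agent.Lib.helper42

open Matrix Cfsg Cfsg.Agent.Lib.helper17

section
variable {ι : Type} [Fintype ι] [DecidableEq ι] {F : Type*} [Field F]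

theorem GLmap_val (σ : F ≃+* F) (g : GL ι F) :
    ((Matrix.GeneralLinearGroup.map (σ : F →+* F) g : GL ι F) : Matrix ι ι F)
      = ((g : GL ι F) : Matrix ι ι F).map σ := rfl

theorem map_mulVec_sigma (σ : F ≃+* F) (M : Matrix ι ι F) (v : ι → F) :
    (M.map σ) *ᵥ (fun i => σ (v i)) = fun i => σ ((M *ᵥ v) i) := by
  funext i
  exact ((σ : F →+* F).map_mulVec M v i).symm

theorem GLmap_symm (σ : F ≃+* F) (x : GL ι F) :
    Matrix.GeneralLinearGroup.map (σ : F →+* F)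
      (Matrix.GeneralLinearGroup.map (σ.symm : F →+* F) x) = x := by
  apply Units.ext
  ext i j
  exact σ.apply_symm_apply _

theorem pair_one (Q : (ι → F) → F) : IsSemisimilarityPair Q (1 : GL ι F) (RingEquiv.refl F) :=
  ⟨1, fun v => by simp⟩

theorem pair_mul (Q : (ι → F) → F) (g₁ g₂ : GL ι F) (σ₁ σ₂ : F ≃+* F)
    (h₁ : IsSemisimilarityPair Q g₁ σ₁) (h₂ : IsSemisimilarityPair Q g₂ σ₂) :
    IsSemisimilarityPair Q (g₁ * Matrix.GeneralLinearGroup.map (σ₁ : F →+* F) g₂) (σ₂.trans σ₁) := by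
  obtain ⟨c₁, hc₁⟩ := h₁
  obtain ⟨c₂, hc₂⟩ := h₂
  refine ⟨c₁ * Units.mk0 (σ₁ (c₂ : F)) (by simp), fun v => ?_⟩
  have h := hc₁ (((g₂ : GL ι F) : Matrix ι ι F) *ᵥ fun i => σ₂ (v i))
  rw [hc₂, map_mul] at h
  rw [Units.val_mul, ← Matrix.mulVec_mulVec, GLmap_val, Units.val_mul, Units.val_mk0, mul_assoc]
  have h3 := map_mulVec_sigma σ₁ ((g₂ : GL ι F) : Matrix ι ι F) (fun i => σ₂ (v i))
  show Q (((g₁ : GL ι F) : Matrix ι ι F) *ᵥ (((g₂ : GL ι F) : Matrix ι ι F).map σ₁ *ᵥ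
    fun i => σ₁ (σ₂ (v i)))) = (c₁ : F) * (σ₁ (c₂ : F) * σ₁ (σ₂ (Q v)))
  rw [← h]
  exact congrArg (fun x => Q (((g₁ : GL ι F) : Matrix ι ι F) *ᵥ x)) h3

theorem pair_inv (Q : (ι → F) → F) (g : GL ι F) (σ : F ≃+* F) (h : IsSemisimilarityPair Q g σ) :
    IsSemisimilarityPair Q (Matrix.GeneralLinearGroup.map (σ.symm : F →+* F) g⁻¹) σ.symm := by
  obtain ⟨c, hc⟩ := h
  refine ⟨Units.mk0 (σ.symm ((c : F)⁻¹)) (by simp), fun v => ?_⟩
  rw [GLmap_val, map_mulVec_sigma, Units.val_mk0]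
  have h1 := hc (fun i => σ.symm ((((g⁻¹ : GL ι F) : Matrix ι ι F) *ᵥ v) i))
  simp only [RingEquiv.apply_symm_apply] at h1
  have h3 : ((g : GL ι F) : Matrix ι ι F) *ᵥ (fun i => (((g⁻¹ : GL ι F) : Matrix ι ι F) *ᵥ v) i) = v := by
    show ((g : GL ι F) : Matrix ι ι F) *ᵥ (((g⁻¹ : GL ι F) : Matrix ι ι F) *ᵥ v) = v
    rw [Matrix.mulVec_mulVec, ← Units.val_mul, mul_inv_cancel, Units.val_one, Matrix.one_mulVec]
  rw [h3] at h1
  rw [← map_mul, RingEquiv.eq_symm_apply, h1]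
  field_simp

theorem induced_GL_iff (Q : (ι → F) → F) (g : GL ι F) (σ : F ≃+* F) (β : POmega F Q ≃* POmega F Q) :
    IsInducedBySemilinearPOmega Q g σ β ↔
      ∀ s s' : ↥(Omega F Q), ((s' : ↥(isometryGroup F Q)) : GL ι F)
          = g * Matrix.GeneralLinearGroup.map (σ : F →+* F) ((s : ↥(isometryGroup F Q)) : GL ι F) * g⁻¹ →
        β (QuotientGroup.mk s) = QuotientGroup.mk s' := by
  constructor
  · intro h s s' hs
    apply h s s'
    exact congrArg (fun x : GL ι F => (x : Matrix ι ι F)) hs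
  · intro h s s' hs
    apply h s s'
    exact Units.ext hs

theorem semiConj_mem_isometry (Q : (ι → F) → F) (g : GL ι F) (σ : F ≃+* F)
    (hpair : IsSemisimilarityPair Q g σ) (s : GL ι F) (hs : s ∈ isometryGroup F Q) :
    g * Matrix.GeneralLinearGroup.map (σ : F →+* F) s * g⁻¹ ∈ isometryGroup F Q := by
  obtain ⟨c, hc⟩ := hpair
  rw [mem_isometryGroup_iff] at hs ⊢
  intro v
  obtain ⟨w, hw⟩ : ∃ w : ι → F, w = fun i => σ.symm ((((g⁻¹ : GL ι F) : Matrix ι ι F) *ᵥ v) i) :=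
    ⟨_, rfl⟩
  have hσw : (fun i => σ (w i)) = ((g⁻¹ : GL ι F) : Matrix ι ι F) *ᵥ v := by
    funext i
    rw [hw, RingEquiv.apply_symm_apply]
  have hgw : ((g : GL ι F) : Matrix ι ι F) *ᵥ (fun i => σ (w i)) = v := by
    rw [hσw, Matrix.mulVec_mulVec, ← Units.val_mul, mul_inv_cancel, Units.val_one, Matrix.one_mulVec]
  have h1 : ((g * Matrix.GeneralLinearGroup.map (σ : F →+* F) s * g⁻¹ : GL ι F) : Matrix ι ι F) *ᵥ v
      = ((g : GL ι F) : Matrix ι ι F) *ᵥ (fun i => σ ((((s : GL ι F) : Matrix ι ι F) *ᵥ w) i)) := by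
    rw [Units.val_mul, Units.val_mul, ← Matrix.mulVec_mulVec, ← Matrix.mulVec_mulVec, ← hσw, GLmap_val,
      map_mulVec_sigma]
  rw [h1, hc, hs, ← hc, hgw]

/-- conjugation by the semilinear map `v ↦ g σ(v)`, on the isometry group -/
noncomputable def semiConj (Q : (ι → F) → F) (g : GL ι F) (σ : F ≃+* F)
    (hpair : IsSemisimilarityPair Q g σ) : ↥(isometryGroup F Q) →* ↥(isometryGroup F Q) where
  toFun s := ⟨g * Matrix.GeneralLinearGroup.map (σ : F →+* F) (s : GL ι F) * g⁻¹,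
    semiConj_mem_isometry Q g σ hpair _ s.2⟩
  map_one' := by
    apply Subtype.ext
    simp
  map_mul' a b := by
    apply Subtype.ext
    simp only [Subgroup.coe_mul, map_mul]
    group

theorem exists_semiConj_Omega (Q : (ι → F) → F) (g : GL ι F) (σ : F ≃+* F)
    (hpair : IsSemisimilarityPair Q g σ) (s : ↥(Omega F Q)) :
    ∃ s' : ↥(Omega F Q), ((s' : ↥(isometryGroup F Q)) : GL ι F)
      = g * Matrix.GeneralLinearGroup.map (σ : F →+* F) ((s : ↥(isometryGroup F Q)) : GL ι F) * g⁻¹ := by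
  have h : (commutator ↥(isometryGroup F Q)).map (semiConj Q g σ hpair)
      ≤ commutator ↥(isometryGroup F Q) := by
    rw [commutator_def, Subgroup.map_commutator]
    exact Subgroup.commutator_mono le_top le_top
  exact ⟨⟨semiConj Q g σ hpair s, h (Subgroup.mem_map_of_mem _ s.2)⟩, rfl⟩

theorem induced_one (Q : (ι → F) → F) :
    IsInducedBySemilinearPOmega Q (1 : GL ι F) (RingEquiv.refl F) (1 : MulAut (POmega F Q)) := by
  rw [induced_GL_iff]
  intro s s' hs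
  have h1 : Matrix.GeneralLinearGroup.map ((RingEquiv.refl F : F ≃+* F) : F →+* F)
      ((s : ↥(isometryGroup F Q)) : GL ι F) = ((s : ↥(isometryGroup F Q)) : GL ι F) := by
    apply Units.ext
    ext i j
    rfl
  rw [h1, one_mul, inv_one, mul_one] at hs
  have : s' = s := Subtype.ext (Subtype.ext hs)
  rw [this]
  rfl

theorem induced_mul (Q : (ι → F) → F) (g₁ g₂ : GL ι F) (σ₁ σ₂ : F ≃+* F)
    (h₂pair : IsSemisimilarityPair Q g₂ σ₂) (β₁ β₂ : MulAut (POmega F Q))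
    (h₁ : IsInducedBySemilinearPOmega Q g₁ σ₁ β₁) (h₂ : IsInducedBySemilinearPOmega Q g₂ σ₂ β₂) :
    IsInducedBySemilinearPOmega Q (g₁ * Matrix.GeneralLinearGroup.map (σ₁ : F →+* F) g₂)
      (σ₂.trans σ₁) (β₁ * β₂) := by
  rw [induced_GL_iff] at h₁ h₂ ⊢
  intro s s' hs
  obtain ⟨s'', hs''⟩ := exists_semiConj_Omega Q g₂ σ₂ h₂pair s
  rw [MulAut.mul_apply, h₂ s s'' hs'']
  apply h₁ s'' s'
  rw [hs, hs'']
  have hcomp : Matrix.GeneralLinearGroup.map ((σ₂.trans σ₁ : F ≃+* F) : F →+* F)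
      ((s : ↥(isometryGroup F Q)) : GL ι F)
      = Matrix.GeneralLinearGroup.map (σ₁ : F →+* F)
        (Matrix.GeneralLinearGroup.map (σ₂ : F →+* F) ((s : ↥(isometryGroup F Q)) : GL ι F)) := rfl
  rw [hcomp, map_mul, map_mul, map_inv]
  group

theorem induced_inv (Q : (ι → F) → F) (g : GL ι F) (σ : F ≃+* F) (β : MulAut (POmega F Q))
    (h : IsInducedBySemilinearPOmega Q g σ β) :
    IsInducedBySemilinearPOmega Q (Matrix.GeneralLinearGroup.map (σ.symm : F →+* F) g⁻¹) σ.symm β⁻¹ := by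
  rw [induced_GL_iff] at h ⊢
  intro s s' hs
  have h1 := h s' s (by
    rw [hs]
    simp only [map_mul, map_inv, GLmap_symm]
    group)
  rw [← h1, MulAut.inv_apply_self]

/-- every element of the image of the semisimilarity group is induced by one semisimilarity -/
theorem exists_pair_of_mem_gamma (Q : (ι → F) → F) (β : MulAut (POmega F Q))
    (hβ : β ∈ gammaPOmega F Q) :
    ∃ (g : GL ι F) (σ : F ≃+* F), IsSemisimilarityPair Q g σ ∧ IsInducedBySemilinearPOmega Q g σ β := by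
  unfold gammaPOmega autSubgroupOf at hβ
  induction hβ using Subgroup.closure_induction with
  | mem x hx => exact hx
  | one => exact ⟨1, RingEquiv.refl F, pair_one Q, induced_one Q⟩
  | mul x y _ _ hx hy =>
    obtain ⟨g₁, σ₁, hp₁, hi₁⟩ := hx
    obtain ⟨g₂, σ₂, hp₂, hi₂⟩ := hy
    exact ⟨_, _, pair_mul Q g₁ g₂ σ₁ σ₂ hp₁ hp₂, induced_mul Q g₁ g₂ σ₁ σ₂ hp₂ x y hi₁ hi₂⟩
  | inv x _ hx =>
    obtain ⟨g, σ, hp, hi⟩ := hx
    exact ⟨_, _, pair_inv Q g σ hp, induced_inv Q g σ x hi⟩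

end

end Cfsg.Agent.Lib.helper42
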