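import Cfsg.Agent.Lib.helper42.SemiSim

/-!
A semisimilarity `v ↦ g σ(v)` acting trivially on `PΩ(Q)` has `σ = 1` (odd characteristic, dimension at
least five, three hyperbolic pairs): traces of products of two reflections.
-/

set_option autoImplicit false
set_option linter.unusedSectionVars false

namespace Cfsg.Agent.Lib.helper42

open Matrix Cfsg Cfsg.Agent.Lib.helper17

section
variable {ι : Type} [Fintype ι] [DecidableEq ι] {F : Type*} [Field F]

/-- trace of a product of two reflections in vectors of value one -/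
theorem trace_refl_mul_refl (Q : QuadraticForm F (ι → F)) (u v : ι → F) (hu : Q u = 1) (hv : Q v = 1) :
    (reflectionMatrix ⇑Q u * reflectionMatrix ⇑Q v).trace
      = (Fintype.card ι : F) - 4 + QuadraticMap.polar ⇑Q u v * QuadraticMap.polar ⇑Q u v := by
  unfold reflectionMatrix
  rw [hu, hv, inv_one, one_smul, one_smul, Matrix.sub_mul, Matrix.one_mul, Matrix.mul_sub, Matrix.mul_one,
    Matrix.vecMulVec_mul_vecMulVec, Matrix.trace_sub, Matrix.trace_sub, Matrix.trace_sub, Matrix.trace_one,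
    Matrix.trace_vecMulVec, Matrix.trace_vecMulVec, Matrix.trace_vecMulVec, dotProduct_smul,
    dotProduct_comm u (polarVec ⇑Q u), dotProduct_comm v (polarVec ⇑Q v),
    dotProduct_comm u (polarVec ⇑Q v), polarVec_dot, polarVec_dot, polarVec_dot, polarVec_dot,
    QuadraticMap.polar_self, QuadraticMap.polar_self, hu, hv, QuadraticMap.polar_comm (⇑Q) v u]
  simp only [nsmul_eq_mul, Nat.cast_ofNat, mul_one, smul_eq_mul]
  ring

theorem map_vecMulVec_sigma (σ : F ≃+* F) (a b : ι → F) :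
    (Matrix.vecMulVec a b).map σ = Matrix.vecMulVec (fun i => σ (a i)) (fun i => σ (b i)) := by
  ext i j
  simp [Matrix.vecMulVec_apply]

theorem rank_map_refl_sub_one_le (Q : (ι → F) → F) (σ : F ≃+* F) (w : ι → F) :
    ((reflectionMatrix Q w).map σ - 1).rank ≤ 1 := by
  have : (reflectionMatrix Q w).map σ - 1
      = ((σ (-(Q w)⁻¹)) • (1 : Matrix ι ι F))
        * Matrix.vecMulVec (fun i => σ (w i)) (fun i => σ (polarVec Q w i)) := by
    rw [Matrix.smul_mul, Matrix.one_mul]
    ext i j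
    simp only [reflectionMatrix, Matrix.sub_apply, Matrix.map_apply, Matrix.smul_apply,
      Matrix.vecMulVec_apply, smul_eq_mul, Matrix.one_apply]
    by_cases hij : i = j
    · simp only [hij, if_true, map_sub, map_one, map_mul, map_neg]
      ring
    · simp only [hij, if_false, map_sub, map_zero, map_mul, map_neg]
      ring
  rw [this]
  exact (Matrix.rank_mul_le_right _ _).trans (Matrix.rank_vecMulVec_le _ _)

theorem rank_map_refl_mul_refl_sub_one_le (Q : (ι → F) → F) (σ : F ≃+* F) (u v : ι → F) :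
    ((reflectionMatrix Q u * reflectionMatrix Q v).map σ - 1).rank ≤ 2 := by
  have : (reflectionMatrix Q u * reflectionMatrix Q v).map σ - 1
      = ((reflectionMatrix Q u).map σ - 1) * (reflectionMatrix Q v).map σ
        + ((reflectionMatrix Q v).map σ - 1) := by
    rw [Matrix.map_mul, Matrix.sub_mul, Matrix.one_mul]
    abel
  rw [this]
  have h1 := rank_map_refl_sub_one_le Q σ u
  have h2 := rank_map_refl_sub_one_le Q σ v
  have h3 := matrix_rank_add_le (((reflectionMatrix Q u).map σ - 1) * (reflectionMatrix Q v).map σ)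
    ((reflectionMatrix Q v).map σ - 1)
  have h4 := Matrix.rank_mul_le_left ((reflectionMatrix Q u).map σ - 1) ((reflectionMatrix Q v).map σ)
  omega

theorem conj_ne_neg_of_rank' (h2 : (2 : F) ≠ 0) (h5 : 5 ≤ Fintype.card ι) (Z Zi T T' : Matrix ι ι F)
    (hT : (T - 1).rank ≤ 2) (hT' : (T' - 1).rank ≤ 2) (h : Z * T' * Zi = -T) (hZ : Z * Zi = 1) :
    False := by
  have h1 : Z * (T' - 1) * Zi = -(T + 1) := by
    rw [Matrix.mul_sub, Matrix.sub_mul, h, Matrix.mul_one, hZ]
    abel
  have h3 : (T + 1).rank ≤ 2 := by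
    have e : (T + 1) = (-1 : Matrix ι ι F) * (Z * (T' - 1) * Zi) := by
      rw [h1]
      simp
    rw [e]
    exact (Matrix.rank_mul_le_right _ _).trans
      (((Matrix.rank_mul_le_left _ _).trans (Matrix.rank_mul_le_right _ _)).trans hT')
  have h4 : ((2 : F)⁻¹ • (1 : Matrix ι ι F)) * (T + 1) + ((-(2 : F)⁻¹) • (1 : Matrix ι ι F)) * (T - 1)
      = 1 := by
    rw [Matrix.smul_mul, Matrix.smul_mul, Matrix.one_mul, Matrix.one_mul]
    ext i j
    simp only [Matrix.add_apply, Matrix.smul_apply, Matrix.sub_apply, smul_eq_mul]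
    field_simp
    ring
  have h6 := matrix_rank_add_le (((2 : F)⁻¹ • (1 : Matrix ι ι F)) * (T + 1))
    (((-(2 : F)⁻¹) • (1 : Matrix ι ι F)) * (T - 1))
  rw [h4, Matrix.rank_one] at h6
  have h7 := Matrix.rank_mul_le_right ((2 : F)⁻¹ • (1 : Matrix ι ι F)) (T + 1)
  have h8 := Matrix.rank_mul_le_right ((-(2 : F)⁻¹) • (1 : Matrix ι ι F)) (T - 1)
  omega

theorem HypFrame3.polar_f_e {Q : QuadraticForm F (ι → F)} (fr : HypFrame3 Q) (i j : Fin 3) :
    QuadraticMap.polar ⇑Q (fr.f i) (fr.e j) = if j = i then 1 else 0 := by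
  rw [QuadraticMap.polar_comm, fr.ef]

/-- two vectors of value one with prescribed polar form value -/
theorem HypFrame3.exists_pair_polar {Q : QuadraticForm F (ι → F)} (fr : HypFrame3 Q) (c : F) :
    ∃ u v : ι → F, Q u = 1 ∧ Q v = 1 ∧ QuadraticMap.polar ⇑Q u v = 1 + c := by
  refine ⟨fr.e 0 + (1 : F) • fr.f 0, (fr.e 0 + c • fr.f 0) + (fr.e 1 + (1 - c) • fr.f 1),
    fr.Q_add_smul 0 1, ?_, ?_⟩
  · rw [QuadraticMap.map_add (⇑Q) (fr.e 0 + c • fr.f 0) (fr.e 1 + (1 - c) • fr.f 1), fr.Q_add_smul,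
      fr.Q_add_smul]
    simp only [QuadraticMap.polar_add_left, QuadraticMap.polar_add_right, QuadraticMap.polar_smul_left,
      QuadraticMap.polar_smul_right, fr.ee, fr.ff, fr.ef, fr.polar_f_e]
    simp
  · simp only [QuadraticMap.polar_add_left, QuadraticMap.polar_add_right, QuadraticMap.polar_smul_left,
      QuadraticMap.polar_smul_right, fr.ee, fr.ff, fr.ef, fr.polar_f_e]
    simp

/-- **faithfulness**: a semisimilarity inducing the identity on `PΩ(Q)` has trivial field automorphism -/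
theorem sigma_fix_of_induced_one (h2 : (2 : F) ≠ 0) (Q : QuadraticForm F (ι → F))
    (hQ : (QuadraticMap.polarBilin Q).Nondegenerate) (fr : HypFrame3 Q) (h5 : 5 ≤ Fintype.card ι)
    (g : GL ι F) (σ : F ≃+* F) (hpair : IsSemisimilarityPair ⇑Q g σ)
    (hind : IsInducedBySemilinearPOmega ⇑Q g σ (1 : MulAut (POmega F ⇑Q))) : ∀ x : F, σ x = x := by
  have hZZi : ((g : GL ι F) : Matrix ι ι F) * (((g : GL ι F)⁻¹ : GL ι F) : Matrix ι ι F) = 1 := by
    rw [← Units.val_mul, mul_inv_cancel, Units.val_one]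
  have hZiZ : (((g : GL ι F)⁻¹ : GL ι F) : Matrix ι ι F) * ((g : GL ι F) : Matrix ι ι F) = 1 := by
    rw [← Units.val_mul, inv_mul_cancel, Units.val_one]
  have key : ∀ s : ↥(Omega F ⇑Q),
      ((g : GL ι F) : Matrix ι ι F) * ((((s : ↥(isometryGroup F ⇑Q)) : GL ι F) : Matrix ι ι F)).map σ
          * (((g : GL ι F)⁻¹ : GL ι F) : Matrix ι ι F)
        = (((s : ↥(isometryGroup F ⇑Q)) : GL ι F) : Matrix ι ι F) ∨
      ((g : GL ι F) : Matrix ι ι F) * ((((s : ↥(isometryGroup F ⇑Q)) : GL ι F) : Matrix ι ι F)).map σ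
          * (((g : GL ι F)⁻¹ : GL ι F) : Matrix ι ι F)
        = -(((s : ↥(isometryGroup F ⇑Q)) : GL ι F) : Matrix ι ι F) := by
    intro s
    obtain ⟨s', hs'⟩ := exists_semiConj_Omega ⇑Q g σ hpair s
    have h1 : (QuotientGroup.mk s' : POmega F ⇑Q) = QuotientGroup.mk s :=
      (((induced_GL_iff ⇑Q g σ 1).mp hind) s s' hs').symm
    have h2' : s'⁻¹ * s ∈ Subgroup.center (Omega F ⇑Q) := QuotientGroup.eq.mp h1
    have h3 : (((s' : ↥(isometryGroup F ⇑Q)) : GL ι F) : Matrix ι ι F)
        * ((((s'⁻¹ * s : ↥(Omega F ⇑Q)) : ↥(isometryGroup F ⇑Q)) : GL ι F) : Matrix ι ι F)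
        = (((s : ↥(isometryGroup F ⇑Q)) : GL ι F) : Matrix ι ι F) :=
      congrArg (fun w : ↥(Omega F ⇑Q) => (((w : ↥(isometryGroup F ⇑Q)) : GL ι F) : Matrix ι ι F))
        (mul_inv_cancel_left s' s)
    have hs'' : (((s' : ↥(isometryGroup F ⇑Q)) : GL ι F) : Matrix ι ι F)
        = ((g : GL ι F) : Matrix ι ι F)
          * ((((s : ↥(isometryGroup F ⇑Q)) : GL ι F) : Matrix ι ι F)).map σ
          * (((g : GL ι F)⁻¹ : GL ι F) : Matrix ι ι F) :=
      congrArg (fun x : GL ι F => (x : Matrix ι ι F)) hs'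
    rw [← hs'']
    rcases center_Omega_pm Q hQ fr _ h2' with h | h
    · left
      rw [h, Matrix.mul_one] at h3
      exact h3
    · right
      rw [h, Matrix.mul_neg, Matrix.mul_one] at h3
      rw [← h3, neg_neg]
  -- the field automorphism fixes all squares
  have hsq : ∀ y : F, σ (y * y) = y * y := by
    intro y
    obtain ⟨u, v, hu, hv, huv⟩ := fr.exists_pair_polar (y - 1)
    have hu0 : Q u ≠ 0 := by rw [hu]; exact one_ne_zero
    have hv0 : Q v ≠ 0 := by rw [hv]; exact one_ne_zero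
    have hmem := refl_mul_refl_mem_commutator_of_eq Q hQ u v hu0 hv0 (by rw [hu, hv])
    have hk := key ⟨_, hmem⟩
    simp only [Subgroup.coe_mul, Units.val_mul, reflectionIsom_coe] at hk
    have hcomm : ((g : GL ι F) : Matrix ι ι F)
        * (reflectionMatrix ⇑Q u * reflectionMatrix ⇑Q v).map σ
        * (((g : GL ι F)⁻¹ : GL ι F) : Matrix ι ι F)
        = reflectionMatrix ⇑Q u * reflectionMatrix ⇑Q v := by
      rcases hk with h | h
      · exact h
      · exact (conj_ne_neg_of_rank' h2 h5 _ _ _ _ (rank_refl_mul_refl_sub_one_le _ u v)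
          (rank_map_refl_mul_refl_sub_one_le _ σ u v) h hZZi).elim
    have htr := congrArg Matrix.trace hcomm
    rw [Matrix.trace_mul_comm, ← Matrix.mul_assoc, hZiZ, Matrix.one_mul,
      ← AddMonoidHom.map_trace σ, trace_refl_mul_refl Q u v hu hv, huv] at htr
    have h1 : (1 : F) + (y - 1) = y := by ring
    rw [h1, map_add, map_sub, map_natCast, map_ofNat] at htr
    exact add_left_cancel htr
  intro x
  have h1 := hsq (x + 1)
  have h3 := hsq x
  rw [map_mul, map_add, map_one] at h1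
  rw [map_mul] at h3
  have h4 : (2 : F) * σ x = 2 * x := by linear_combination h1 - h3
  exact mul_left_cancel₀ h2 h4

end

end Cfsg.Agent.Lib.helper42
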