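import Cfsg.Agent.Lib.helper42.TwoClassesGeo
import Cfsg.Prelude.Def_LieTypeDatum

/-!
Similarities and the two classes of maximal totally singular subspaces (odd characteristic):
a similarity `g` with multiplier `μ` preserves the two classes iff `det g = det s`, where `s` is any
similarity with the same multiplier stabilising one maximal totally singular subspace (`psc_iff_det`).
-/

set_option autoImplicit false
set_option linter.unusedSectionVars false

namespace Cfsg.Agent.Lib.helper42

open Matrix Cfsg Cfsg.Agent.Lib.helper17 Module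

section
variable {ι : Type} [Fintype ι] [DecidableEq ι] {F : Type*} [Field F]

/-- the determinant of a product of reflections -/
theorem det_refl_list (Q : QuadraticForm F (ι → F)) (vs : List (ι → F)) (hvs : ∀ v ∈ vs, Q v ≠ 0) :
    ((vs.map (fun v => reflectionMatrix ⇑Q v)).prod).det = (-1) ^ vs.length := by
  induction vs with
  | nil => simp
  | cons a l ih =>
    rw [List.map_cons, List.prod_cons, Matrix.det_mul, reflectionMatrix_det Q a (hvs a (by simp)),
      ih (fun v hv => hvs v (by simp [hv])), List.length_cons, pow_succ]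
    ring

/-- `det g = (-1) ^ rank (g - 1)` for an isometry `g` -/
theorem det_eq_neg_one_pow_rank (Q : QuadraticForm F (ι → F))
    (hQ : (QuadraticMap.polarBilin Q).Nondegenerate) (hgen : reflSubgroup Q = ⊤)
    (g : ↥(Cfsg.isometryGroup F ⇑Q)) :
    ((g : Matrix.GeneralLinearGroup ι F) : Matrix ι ι F).det
      = (-1) ^ (((g : Matrix.GeneralLinearGroup ι F) : Matrix ι ι F) - 1).rank := by
  obtain ⟨vs, hvs, hg⟩ := exists_refl_list Q g (by rw [hgen]; trivial)
  rw [hg, det_refl_list Q vs hvs, neg_one_pow_eq_pow_mod_two (n := vs.length),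
    ← rank_refl_list Q hQ vs hvs, ← neg_one_pow_eq_pow_mod_two]

theorem even_rank_iff_det (h2 : (2 : F) ≠ 0) (Q : QuadraticForm F (ι → F))
    (hQ : (QuadraticMap.polarBilin Q).Nondegenerate) (hgen : reflSubgroup Q = ⊤)
    (g : ↥(Cfsg.isometryGroup F ⇑Q)) :
    Even (((g : Matrix.GeneralLinearGroup ι F) : Matrix ι ι F) - 1).rank
      ↔ ((g : Matrix.GeneralLinearGroup ι F) : Matrix ι ι F).det = 1 := by
  rw [det_eq_neg_one_pow_rank Q hQ hgen g]
  constructor
  · intro h
    exact h.neg_one_pow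
  · intro h
    by_contra hodd
    rw [Nat.not_even_iff_odd] at hodd
    rw [hodd.neg_one_pow] at h
    apply h2
    linear_combination -h

theorem mulVec_inv_mulVec (g : Matrix.GeneralLinearGroup ι F) (x : ι → F) :
    ((g⁻¹ : Matrix.GeneralLinearGroup ι F) : Matrix ι ι F) *ᵥ ((g : Matrix ι ι F) *ᵥ x) = x := by
  rw [Matrix.mulVec_mulVec, ← Units.val_mul, inv_mul_cancel, Units.val_one, Matrix.one_mulVec]

theorem mulVec_mulVec_inv (g : Matrix.GeneralLinearGroup ι F) (x : ι → F) :
    (g : Matrix ι ι F) *ᵥ (((g⁻¹ : Matrix.GeneralLinearGroup ι F) : Matrix ι ι F) *ᵥ x) = x := by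
  rw [Matrix.mulVec_mulVec, ← Units.val_mul, mul_inv_cancel, Units.val_one, Matrix.one_mulVec]

theorem map_GL_mul (g h : Matrix.GeneralLinearGroup ι F) (U : Submodule F (ι → F)) :
    U.map ((g * h : Matrix.GeneralLinearGroup ι F) : Matrix ι ι F).mulVecLin
      = (U.map (h : Matrix ι ι F).mulVecLin).map (g : Matrix ι ι F).mulVecLin := by
  rw [Units.val_mul, Matrix.mulVecLin_mul, Submodule.map_comp]

theorem map_GL_inv_of_map (g : Matrix.GeneralLinearGroup ι F) (U U' : Submodule F (ι → F))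
    (h : U.map (g : Matrix ι ι F).mulVecLin = U') :
    U'.map ((g⁻¹ : Matrix.GeneralLinearGroup ι F) : Matrix ι ι F).mulVecLin = U := by
  rw [← h, ← map_GL_mul, inv_mul_cancel, Units.val_one, Matrix.mulVecLin_one, Submodule.map_id]

theorem mulVecLin_injective_GL (g : Matrix.GeneralLinearGroup ι F) :
    Function.Injective (g : Matrix ι ι F).mulVecLin := by
  intro x y h
  have h1 := congrArg (fun z => ((g⁻¹ : Matrix.GeneralLinearGroup ι F) : Matrix ι ι F) *ᵥ z) h
  simp only [Matrix.mulVecLin_apply] at h1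
  rwa [mulVec_inv_mulVec, mulVec_inv_mulVec] at h1

theorem finrank_map_GL (g : Matrix.GeneralLinearGroup ι F) (U : Submodule F (ι → F)) :
    finrank F (U.map (g : Matrix ι ι F).mulVecLin) = finrank F U :=
  (Submodule.equivMapOfInjective _ (mulVecLin_injective_GL g) U).finrank_eq.symm

theorem map_eq_self_of_GL (g : Matrix.GeneralLinearGroup ι F) (U : Submodule F (ι → F))
    (h : ∀ u ∈ U, (g : Matrix ι ι F) *ᵥ u ∈ U) : U.map (g : Matrix ι ι F).mulVecLin = U := by
  apply Submodule.eq_of_le_of_finrank_le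
  · rintro _ ⟨u, hu, rfl⟩
    exact h u hu
  · rw [finrank_map_GL]

/-- **parity for similarities**: if `s` is a similarity with the same multiplier as `g` stabilising the
totally singular subspace `U` of half the dimension, the codimension of `U ∩ g U` in `U` is even iff
`det g = det s`. -/
theorem parity_similarity (h2 : (2 : F) ≠ 0) (Q : QuadraticForm F (ι → F))
    (hQ : (QuadraticMap.polarBilin Q).Nondegenerate) (hgen : reflSubgroup Q = ⊤)
    (U : Submodule F (ι → F)) (hU : ∀ u ∈ U, Q u = 0) (hdim : 2 * finrank F U = Fintype.card ι)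
    (g s : Matrix.GeneralLinearGroup ι F) (μ : F) (hμ : μ ≠ 0)
    (hg : ∀ x, Q ((g : Matrix ι ι F) *ᵥ x) = μ * Q x)
    (hs : ∀ x, Q ((s : Matrix ι ι F) *ᵥ x) = μ * Q x)
    (hsU : U.map (s : Matrix ι ι F).mulVecLin = U) :
    Even (finrank F U - finrank F (U ⊓ U.map (g : Matrix ι ι F).mulVecLin : Submodule F (ι → F)))
      ↔ (g : Matrix ι ι F).det = (s : Matrix ι ι F).det := by
  have hsinv : ∀ x, Q (((s⁻¹ : Matrix.GeneralLinearGroup ι F) : Matrix ι ι F) *ᵥ x) = μ⁻¹ * Q x := by
    intro x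
    have h := hs (((s⁻¹ : Matrix.GeneralLinearGroup ι F) : Matrix ι ι F) *ᵥ x)
    rw [mulVec_mulVec_inv] at h
    rw [h, ← mul_assoc, inv_mul_cancel₀ hμ, one_mul]
  have hh : g * s⁻¹ ∈ Cfsg.isometryGroup F ⇑Q := (mem_isometryGroup_iff _ _).mpr (fun x => by
    rw [Units.val_mul, ← Matrix.mulVec_mulVec, hg, hsinv, ← mul_assoc, mul_inv_cancel₀ hμ, one_mul])
  have hmap : U.map ((g * s⁻¹ : Matrix.GeneralLinearGroup ι F) : Matrix ι ι F).mulVecLin
      = U.map (g : Matrix ι ι F).mulVecLin := by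
    rw [map_GL_mul, map_GL_inv_of_map s U U hsU]
  have hle : finrank F (U ⊓ U.map (g : Matrix ι ι F).mulVecLin : Submodule F (ι → F))
      ≤ finrank F U := Submodule.finrank_mono inf_le_left
  have hpar := parity_inf_map Q hQ U hU hdim
    (finrank F U - finrank F (U ⊓ U.map (g : Matrix ι ι F).mulVecLin : Submodule F (ι → F)))
    ((g * s⁻¹ : Matrix.GeneralLinearGroup ι F) : Matrix ι ι F) ((mem_isometryGroup_iff _ _).mp hh)
    (by rw [hmap]; omega)
  have hev := even_rank_iff_det h2 Q hQ hgen ⟨g * s⁻¹, hh⟩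
  have hdet : ((g * s⁻¹ : Matrix.GeneralLinearGroup ι F) : Matrix ι ι F).det = 1
      ↔ (g : Matrix ι ι F).det = (s : Matrix ι ι F).det := by
    rw [Units.val_mul, Matrix.det_mul]
    have hs1 : (s : Matrix ι ι F).det * ((s⁻¹ : Matrix.GeneralLinearGroup ι F) : Matrix ι ι F).det
        = 1 := by
      rw [← Matrix.det_mul, ← Units.val_mul, mul_inv_cancel, Units.val_one, Matrix.det_one]
    constructor
    · intro h
      calc (g : Matrix ι ι F).det
          = ((g : Matrix ι ι F).det * ((s⁻¹ : Matrix.GeneralLinearGroup ι F) : Matrix ι ι F).det)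
            * (s : Matrix ι ι F).det := by
            rw [mul_assoc, mul_comm _ (s : Matrix ι ι F).det, hs1, mul_one]
        _ = (s : Matrix ι ι F).det := by rw [h, one_mul]
    · intro h
      rw [h]
      exact hs1
  rw [← hdet, ← hev, Nat.even_iff, Nat.even_iff]
  show _ ↔ (((g * s⁻¹ : Matrix.GeneralLinearGroup ι F) : Matrix ι ι F) - 1).rank % 2 = 0
  omega

/-- **Witt**: the isometry group is transitive on totally singular subspaces of a given dimension -/
theorem exists_isometry_map_ts (Q : QuadraticForm F (ι → F))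
    (hQ : (QuadraticMap.polarBilin Q).Nondegenerate) (U U' : Submodule F (ι → F))
    (hU : ∀ u ∈ U, Q u = 0) (hU' : ∀ u ∈ U', Q u = 0) (hd : finrank F U = finrank F U') :
    ∃ k : ↥(Cfsg.isometryGroup F ⇑Q),
      U.map ((k : Matrix.GeneralLinearGroup ι F) : Matrix ι ι F).mulVecLin = U' := by
  have e : U ≃ₗ[F] U' := LinearEquiv.ofFinrankEq _ _ hd
  obtain ⟨f, hf⟩ := LinearMap.exists_extend (U'.subtype.comp e.toLinearMap)
  have hfx : ∀ x : U, f (x : ι → F) = (e x : ι → F) := fun x => by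
    have := LinearMap.congr_fun hf x
    simpa using this
  obtain ⟨g, hg, hgU⟩ := Cfsg.Agent.S0750.main Q hQ _ U f rfl
    (fun x hx => by rw [hfx ⟨x, hx⟩, hU x hx]; exact hU' _ (e ⟨x, hx⟩).2)
    (fun x hx h0 => by
      rw [hfx ⟨x, hx⟩] at h0
      have h1 : e ⟨x, hx⟩ = 0 := Subtype.ext h0
      have h2 := e.map_eq_zero_iff.1 h1
      exact congrArg Subtype.val h2)
  have hmul : ∀ x, LinearMap.toMatrix' g *ᵥ x = g x := by
    intro x
    rw [← Matrix.toLin'_apply, Matrix.toLin'_toMatrix']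
  have hiso : ∀ x, Q (LinearMap.toMatrix' g *ᵥ x) = Q x := fun x => by rw [hmul]; exact hg x
  have hdet : (LinearMap.toMatrix' g).det ≠ 0 := by
    rcases det_eq_one_or_neg_one_of_isometry Q hQ (LinearMap.toMatrix' g) hiso with h | h
    · rw [h]; exact one_ne_zero
    · rw [h]; exact neg_ne_zero.mpr one_ne_zero
  refine ⟨⟨Matrix.GeneralLinearGroup.mkOfDetNeZero (LinearMap.toMatrix' g) hdet,
    (mem_isometryGroup_iff _ _).mpr hiso⟩, ?_⟩
  apply Submodule.eq_of_le_of_finrank_le
  · rintro _ ⟨u, hu, rfl⟩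
    show LinearMap.toMatrix' g *ᵥ u ∈ U'
    rw [hmul, hgU u hu, hfx ⟨u, hu⟩]
    exact (e ⟨u, hu⟩).2
  · rw [finrank_map_GL, hd]

theorem finrank_le_of_ts (Q : QuadraticForm F (ι → F))
    (hQ : (QuadraticMap.polarBilin Q).Nondegenerate) (W : Submodule F (ι → F))
    (hW : ∀ w ∈ W, Q w = 0) : 2 * finrank F W ≤ Fintype.card ι := by
  have hWW : W ≤ polOrth Q W := fun w hw =>
    (mem_polOrth Q W w).mpr (fun u hu => polar_eq_zero_of_ts Q W hW hu hw)
  have d1 := Submodule.finrank_mono hWW
  have d2 := finrank_polOrth Q hQ W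
  have d3 : finrank F W ≤ Fintype.card ι := by
    have := Submodule.finrank_le W
    rwa [Module.finrank_fintype_fun_eq_card] at this
  omega

/-- in a space of plus type the maximal totally singular subspaces are the totally singular subspaces of
half the dimension -/
theorem isMaxTS_iff (Q : QuadraticForm F (ι → F))
    (hQ : (QuadraticMap.polarBilin Q).Nondegenerate) (U0 : Submodule F (ι → F))
    (hU0 : ∀ u ∈ U0, Q u = 0) (hdim0 : 2 * finrank F U0 = Fintype.card ι)
    (U : Submodule F (ι → F)) :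
    IsMaxTotallySingular ⇑Q U ↔ (∀ u ∈ U, Q u = 0) ∧ 2 * finrank F U = Fintype.card ι := by
  constructor
  · rintro ⟨hU, hmax⟩
    refine ⟨hU, ?_⟩
    obtain ⟨U1, hUU1, hU1, hd1⟩ := exists_max_ts_ge Q hQ U0 hU0 hdim0 U hU
    rw [← hmax U1 hU1 hUU1]
    exact hd1
  · rintro ⟨hU, hd⟩
    refine ⟨hU, fun W hW hUW => ?_⟩
    have := finrank_le_of_ts Q hQ W hW
    exact (Submodule.eq_of_le_of_finrank_le hUW (by omega)).symm

/-- **similarities preserving the two classes**: a similarity `g` with multiplier `μ` preserves the two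
classes of maximal totally singular subspaces iff `det g = det s`, for a similarity `s` with multiplier `μ`
stabilising a totally singular subspace of half the dimension. -/
theorem psc_iff_det (h2 : (2 : F) ≠ 0) (Q : QuadraticForm F (ι → F))
    (hQ : (QuadraticMap.polarBilin Q).Nondegenerate) (hgen : reflSubgroup Q = ⊤)
    (U0 : Submodule F (ι → F)) (hU0 : ∀ u ∈ U0, Q u = 0) (hdim0 : 2 * finrank F U0 = Fintype.card ι)
    (μ : F) (hμ : μ ≠ 0) (s : Matrix.GeneralLinearGroup ι F)
    (hs : ∀ x, Q ((s : Matrix ι ι F) *ᵥ x) = μ * Q x)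
    (hsU : U0.map (s : Matrix ι ι F).mulVecLin = U0)
    (g : Matrix.GeneralLinearGroup ι F) (hg : ∀ x, Q ((g : Matrix ι ι F) *ᵥ x) = μ * Q x) :
    PreservesSingularClasses ⇑Q (g : Matrix ι ι F)
      ↔ (g : Matrix ι ι F).det = (s : Matrix ι ι F).det := by
  constructor
  · intro h
    have h1 := h U0 ((isMaxTS_iff Q hQ U0 hU0 hdim0 U0).mpr ⟨hU0, hdim0⟩)
    exact (parity_similarity h2 Q hQ hgen U0 hU0 hdim0 g s μ hμ hg hs hsU).mp h1
  · intro hdet U hU
    obtain ⟨hUts, hUd⟩ := (isMaxTS_iff Q hQ U0 hU0 hdim0 U).mp hU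
    obtain ⟨k, hk⟩ := exists_isometry_map_ts Q hQ U0 U hU0 hUts (by omega)
    have hkiso := (mem_isometryGroup_iff _ _).mp k.2
    have hkinv : ∀ x, Q ((((k : Matrix.GeneralLinearGroup ι F)⁻¹ : Matrix.GeneralLinearGroup ι F)
        : Matrix ι ι F) *ᵥ x) = Q x := (mem_isometryGroup_iff _ _).mp (k⁻¹).2
    have hs' : ∀ x, Q ((((k : Matrix.GeneralLinearGroup ι F) * s
        * (k : Matrix.GeneralLinearGroup ι F)⁻¹ : Matrix.GeneralLinearGroup ι F) : Matrix ι ι F) *ᵥ x)
        = μ * Q x := by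
      intro x
      rw [Units.val_mul, Units.val_mul, ← Matrix.mulVec_mulVec, ← Matrix.mulVec_mulVec, hkiso, hs,
        hkinv]
    have hs'U : U.map (((k : Matrix.GeneralLinearGroup ι F) * s
        * (k : Matrix.GeneralLinearGroup ι F)⁻¹ : Matrix.GeneralLinearGroup ι F)
          : Matrix ι ι F).mulVecLin = U := by
      rw [map_GL_mul, map_GL_mul, map_GL_inv_of_map _ U0 U hk, hsU, hk]
    have hdet' : (((k : Matrix.GeneralLinearGroup ι F) * s
        * (k : Matrix.GeneralLinearGroup ι F)⁻¹ : Matrix.GeneralLinearGroup ι F) : Matrix ι ι F).det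
        = (s : Matrix ι ι F).det := by
      rw [Units.val_mul, Units.val_mul, Matrix.det_mul, Matrix.det_mul, mul_right_comm,
        ← Matrix.det_mul, ← Units.val_mul, mul_inv_cancel, Units.val_one, Matrix.det_one, one_mul]
    exact (parity_similarity h2 Q hQ hgen U hUts hUd g _ μ hμ hg hs' hs'U).mpr
      (hdet.trans hdet'.symm)

end

end Cfsg.Agent.Lib.helper42
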