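import Cfsg.Prelude.Def_LieTypeDatum

/-!
Counting the classes into which a conjugacy class splits (`Cfsg.splitClassCount`): generic criteria for the
count to be at most two, or exactly two.
-/

set_option autoImplicit false

namespace Cfsg.Agent.Lib.helper42

open Cfsg

section
variable {X : Type*} [Group X]

theorem isConjUnder_refl (K : Subgroup X) (x : X) : IsConjUnder K x x :=
  ⟨1, K.one_mem, by simp⟩

theorem isConjUnder_symm (K : Subgroup X) {x y : X} (h : IsConjUnder K x y) : IsConjUnder K y x := by
  obtain ⟨k, hk, rfl⟩ := h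
  exact ⟨k⁻¹, K.inv_mem hk, by group⟩

theorem isConjUnder_trans (K : Subgroup X) {x y z : X} (h1 : IsConjUnder K x y)
    (h2 : IsConjUnder K y z) : IsConjUnder K x z := by
  obtain ⟨k, hk, rfl⟩ := h1
  obtain ⟨k', hk', rfl⟩ := h2
  exact ⟨k' * k, K.mul_mem hk' hk, by group⟩

/-- the class splits into at most two classes if every conjugate is conjugate, under the smaller group, to
one of two given elements -/
theorem splitClassCount_le_two (H K : Subgroup X) (x y₀ : X) (hy₀ : IsConjUnder H x y₀)
    (h : ∀ y, IsConjUnder H x y → IsConjUnder K x y ∨ IsConjUnder K y₀ y) :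
    splitClassCount H K x = 1 ∨ splitClassCount H K x = 2 := by
  unfold splitClassCount
  set r := fun y z : {y : X // IsConjUnder H x y} => IsConjUnder K y.1 z.1 with hr
  let f : Bool → Quot r := fun b =>
    if b then Quot.mk r ⟨x, isConjUnder_refl H x⟩ else Quot.mk r ⟨y₀, hy₀⟩
  have hf : Function.Surjective f := by
    intro q
    induction q using Quot.ind with
    | mk y =>
      rcases h y.1 y.2 with h1 | h1
      · exact ⟨true, Quot.sound h1⟩
      · exact ⟨false, Quot.sound h1⟩
  have hfin : Finite (Quot r) := Finite.of_surjective f hf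
  have hle : Nat.card (Quot r) ≤ 2 := by
    have := Nat.card_le_card_of_surjective f hf
    simpa using this
  have hpos : 0 < Nat.card (Quot r) :=
    Nat.card_pos_iff.mpr ⟨⟨Quot.mk r ⟨x, isConjUnder_refl H x⟩⟩, hfin⟩
  omega

/-- the class splits into exactly two classes -/
theorem splitClassCount_eq_two (H K : Subgroup X) (x y₀ : X) (hy₀ : IsConjUnder H x y₀)
    (h : ∀ y, IsConjUnder H x y → IsConjUnder K x y ∨ IsConjUnder K y₀ y)
    (hne : ¬ IsConjUnder K x y₀) :
    splitClassCount H K x = 2 := by
  classical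
  unfold splitClassCount
  set r := fun y z : {y : X // IsConjUnder H x y} => IsConjUnder K y.1 z.1 with hr
  let f : Quot r → Bool := Quot.lift (fun y => decide (IsConjUnder K x y.1)) (by
    intro a b hab
    simp only [decide_eq_decide]
    constructor
    · intro h1
      exact isConjUnder_trans K h1 hab
    · intro h1
      exact isConjUnder_trans K h1 (isConjUnder_symm K hab))
  have hbij : Function.Bijective f := by
    constructor
    · intro q1 q2
      induction q1 using Quot.ind with
      | mk y1 =>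
        induction q2 using Quot.ind with
        | mk y2 =>
          intro hq
          have hq' : decide (IsConjUnder K x y1.1) = decide (IsConjUnder K x y2.1) := hq
          rw [decide_eq_decide] at hq'
          apply Quot.sound
          by_cases h1 : IsConjUnder K x y1.1
          · exact isConjUnder_trans K (isConjUnder_symm K h1) (hq'.mp h1)
          · have h2 : ¬ IsConjUnder K x y2.1 := fun h' => h1 (hq'.mpr h')
            have a1 := (h _ y1.2).resolve_left h1
            have a2 := (h _ y2.2).resolve_left h2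
            exact isConjUnder_trans K (isConjUnder_symm K a1) a2
    · intro b
      cases b
      · refine ⟨Quot.mk r ⟨y₀, hy₀⟩, ?_⟩
        show decide (IsConjUnder K x y₀) = false
        exact decide_eq_false hne
      · refine ⟨Quot.mk r ⟨x, isConjUnder_refl H x⟩, ?_⟩
        show decide (IsConjUnder K x x) = true
        exact decide_eq_true (isConjUnder_refl K x)
  rw [Nat.card_eq_of_bijective f hbij]
  simp

/-- index at most two: the class splits into at most two classes -/
theorem splitClassCount_le_two_of (H K : Subgroup X) [hK : K.Normal] (x s : X) (hs : s ∈ H)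
    (hcov : ∀ h ∈ H, h ∈ K ∨ s⁻¹ * h ∈ K) :
    splitClassCount H K x = 1 ∨ splitClassCount H K x = 2 := by
  refine splitClassCount_le_two H K x (s * x * s⁻¹) ⟨s, hs, rfl⟩ ?_
  rintro y ⟨h, hh, rfl⟩
  rcases hcov h hh with h1 | h1
  · exact Or.inl ⟨h, h1, rfl⟩
  · refine Or.inr ⟨s * (s⁻¹ * h) * s⁻¹, hK.conj_mem _ h1 s, ?_⟩
    group

/-- `K ≤ P ≤ H` with `H = P ∪ sP`, the centralizer of `x` in `H` inside `P`, and `P = K C_P(x)`:
the `H`-class of `x` splits into exactly two `K`-classes -/
theorem splitClassCount_eq_two_of (H K P : Subgroup X) [hK : K.Normal] (x s : X) (hKP : K ≤ P)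
    (hKH : K ≤ H) (hs : s ∈ H) (hsP : s ∉ P)
    (hcov : ∀ h ∈ H, h ∈ P ∨ s⁻¹ * h ∈ P)
    (hcent : ∀ h ∈ H, h * x = x * h → h ∈ P)
    (hfac : ∀ p ∈ P, ∃ k ∈ K, ∃ c, c * x = x * c ∧ p = k * c) :
    splitClassCount H K x = 2 := by
  have hconj : ∀ c : X, c * x = x * c → c * x * c⁻¹ = x := by
    intro c hc
    rw [hc, mul_assoc, mul_inv_cancel, mul_one]
  refine splitClassCount_eq_two H K x (s * x * s⁻¹) ⟨s, hs, rfl⟩ ?_ ?_
  · rintro y ⟨h, hh, rfl⟩
    rcases hcov h hh with h1 | h1
    · obtain ⟨k, hk, c, hc, rfl⟩ := hfac h h1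
      refine Or.inl ⟨k, hk, ?_⟩
      have := hconj c hc
      calc k * c * x * (k * c)⁻¹ = k * (c * x * c⁻¹) * k⁻¹ := by group
        _ = k * x * k⁻¹ := by rw [this]
    · obtain ⟨k, hk, c, hc, hkc⟩ := hfac _ h1
      refine Or.inr ⟨s * k * s⁻¹, hK.conj_mem _ hk s, ?_⟩
      have hh' : h = s * (k * c) := by rw [← hkc]; group
      have := hconj c hc
      rw [hh']
      calc s * (k * c) * x * (s * (k * c))⁻¹ = s * k * (c * x * c⁻¹) * k⁻¹ * s⁻¹ := by group
        _ = s * k * x * k⁻¹ * s⁻¹ := by rw [this]
        _ = s * k * s⁻¹ * (s * x * s⁻¹) * (s * k * s⁻¹)⁻¹ := by group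
  · rintro ⟨k, hk, hks⟩
    apply hsP
    have h1 : (k⁻¹ * s) * x = x * (k⁻¹ * s) := by
      have : s * x = k * x * k⁻¹ * s := by
        rw [← hks]
        group
      calc k⁻¹ * s * x = k⁻¹ * (s * x) := by group
        _ = k⁻¹ * (k * x * k⁻¹ * s) := by rw [this]
        _ = x * (k⁻¹ * s) := by group
    have h2 := hcent (k⁻¹ * s) (H.mul_mem (H.inv_mem (hKH hk)) hs) h1
    have h3 := P.mul_mem (hKP hk) h2
    rwa [mul_inv_cancel_left] at h3

instance inn_normal (G : Type*) [Group G] : (Inn G).Normal := by
  constructor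
  rintro n ⟨a, rfl⟩ g
  refine ⟨g a, ?_⟩
  ext y
  simp [MulAut.conj_apply]

end

end Cfsg.Agent.Lib.helper42
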