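import Mathlib

/-!
Determinant of a matrix `M` of even size `2m` with `M² = a`: it is `(-a)^m` if `a` is not a square, or if
`M` and `-M` have the same characteristic polynomial.
-/

set_option autoImplicit false

namespace Cfsg.Agent.Lib.helper42

open Matrix Polynomial

section
variable {ι : Type} [Fintype ι] [DecidableEq ι] {F : Type*} [Field F]

theorem charpoly_mul_charpoly_neg (M : Matrix ι ι F) (a : F) (hM : M * M = a • (1 : Matrix ι ι F)) :
    M.charpoly * (-M).charpoly = (X ^ 2 - C a) ^ Fintype.card ι := by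
  unfold Matrix.charpoly
  rw [← Matrix.det_mul]
  have h : M.charmatrix * (-M).charmatrix = Matrix.scalar ι (X ^ 2 - C a : F[X]) := by
    unfold Matrix.charmatrix
    rw [map_neg, sub_neg_eq_add, Matrix.sub_mul, Matrix.mul_add, Matrix.mul_add]
    have h1 : (Matrix.scalar ι (X : F[X])) * (C : F →+* F[X]).mapMatrix M
        = (C : F →+* F[X]).mapMatrix M * Matrix.scalar ι (X : F[X]) :=
      (Matrix.scalar_commute (X : F[X]) (fun r => Commute.all _ _) _).eq
    have h2 : (C : F →+* F[X]).mapMatrix M * (C : F →+* F[X]).mapMatrix M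
        = Matrix.scalar ι (C a : F[X]) := by
      rw [← map_mul, hM]
      ext i j
      simp [Matrix.scalar_apply, Matrix.diagonal_apply, Matrix.one_apply]
      split_ifs <;> simp
    rw [h1, h2, ← map_mul, map_sub, pow_two]
    abel
  rw [h, Matrix.scalar_apply, Matrix.det_diagonal, Finset.prod_const, Finset.card_univ]

theorem irreducible_sq_sub_C (a : F) (ha : ¬ IsSquare a) : Irreducible (X ^ 2 - C a : F[X]) := by
  have hdeg : (X ^ 2 - C a : F[X]).natDegree = 2 := natDegree_X_pow_sub_C
  apply irreducible_of_degree_le_three_of_not_isRoot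
  · rw [hdeg]
    decide
  · intro x hx
    apply ha
    have h := hx
    simp only [IsRoot.def, eval_sub, eval_pow, eval_X, eval_C] at h
    exact ⟨x, by rw [← pow_two]; exact (sub_eq_zero.mp h).symm⟩

theorem det_eq_of_charpoly_eq (M : Matrix ι ι F) (a : F) (m : ℕ) (hcard : Fintype.card ι = 2 * m)
    (h : M.charpoly = (X ^ 2 - C a) ^ m) : M.det = (-a) ^ m := by
  rw [Matrix.det_eq_sign_charpoly_coeff, hcard, pow_mul, h, coeff_zero_eq_eval_zero, eval_pow]
  simp

/-- `M² = a` with `a` a non-square: `det M = (-a)^m` -/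
theorem det_of_sq_scalar_of_not_isSquare (M : Matrix ι ι F) (a : F) (ha : ¬ IsSquare a)
    (hM : M * M = a • (1 : Matrix ι ι F)) (m : ℕ) (hcard : Fintype.card ι = 2 * m) :
    M.det = (-a) ^ m := by
  apply det_eq_of_charpoly_eq M a m hcard
  have hirr := irreducible_sq_sub_C a ha
  have hdvd : M.charpoly ∣ (X ^ 2 - C a : F[X]) ^ Fintype.card ι :=
    Dvd.intro _ (charpoly_mul_charpoly_neg M a hM)
  obtain ⟨i, -, hi⟩ := (dvd_prime_pow hirr.prime _).mp hdvd
  have hmon : ((X ^ 2 - C a : F[X]) ^ i).Monic := (monic_X_pow_sub_C a (by norm_num)).pow i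
  have heq : M.charpoly = (X ^ 2 - C a : F[X]) ^ i :=
    eq_of_monic_of_associated (Matrix.charpoly_monic M) hmon hi
  have hdeg := congrArg natDegree heq
  rw [Matrix.charpoly_natDegree_eq_dim, hcard, natDegree_pow, natDegree_X_pow_sub_C] at hdeg
  have him : i = m := by omega
  rw [heq, him]

/-- `M² = a` and `M`, `-M` have the same characteristic polynomial: `det M = (-a)^m` -/
theorem det_of_sq_scalar_of_charpoly_neg (M : Matrix ι ι F) (a : F)
    (hM : M * M = a • (1 : Matrix ι ι F)) (m : ℕ) (hcard : Fintype.card ι = 2 * m)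
    (hneg : (-M).charpoly = M.charpoly) : M.det = (-a) ^ m := by
  apply det_eq_of_charpoly_eq M a m hcard
  have h := charpoly_mul_charpoly_neg M a hM
  rw [hneg, hcard, pow_mul'] at h
  have h2 : (M.charpoly - (X ^ 2 - C a) ^ m) * (M.charpoly + (X ^ 2 - C a) ^ m) = 0 := by
    linear_combination h
  rcases mul_eq_zero.mp h2 with h3 | h3
  · exact sub_eq_zero.mp h3
  · have h4 : M.charpoly = -(X ^ 2 - C a) ^ m := eq_neg_of_add_eq_zero_left h3
    have hmon : ((X ^ 2 - C a : F[X]) ^ m).Monic := (monic_X_pow_sub_C a (by norm_num)).pow m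
    have h5 := Matrix.charpoly_monic M
    rw [h4, Monic, leadingCoeff_neg, hmon.leadingCoeff] at h5
    rw [h4]
    have : (-(X ^ 2 - C a : F[X]) ^ m) = C (-1 : F) * (X ^ 2 - C a) ^ m := by
      rw [map_neg, map_one, neg_one_mul]
    rw [this, h5, map_one, one_mul]

/-- a matrix skew-adjoint for a non-degenerate bilinear form has the same characteristic polynomial as
its negative -/
theorem charpoly_neg_of_skew (M G : Matrix ι ι F) (hG : G.det ≠ 0) (h : Mᵀ * G = -(G * M)) :
    (-M).charpoly = M.charpoly := by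
  have hu : IsUnit G.det := isUnit_iff_ne_zero.mpr hG
  have h1 : -M = G⁻¹ * Mᵀ * G := by
    rw [Matrix.mul_assoc, h, Matrix.mul_neg, ← Matrix.mul_assoc, Matrix.nonsing_inv_mul _ hu,
      Matrix.one_mul]
  rw [h1]
  have h2 := Matrix.charpoly_units_conj' (Matrix.nonsingInvUnit G hu) Mᵀ
  have h4 : ((Matrix.nonsingInvUnit G hu : (Matrix ι ι F)ˣ) : Matrix ι ι F) = G := rfl
  rw [h4] at h2
  rw [h2, Matrix.charpoly_transpose]

end

end Cfsg.Agent.Lib.helper42
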