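import Cfsg.Agent.Lib.helper42.InndiagPlus
import Cfsg.Agent.Lib.helper42.GraphInvA

/-!
Similarities `g` of a quadratic form with `g²` scalar (odd `q`): self-adjointness, the determinant, and a
spinor-sign argument showing that a similarity commuting up to sign with an isometry of determinant `-1`
has square multiplier.
-/

set_option autoImplicit false
set_option linter.unusedSectionVars false

namespace Cfsg.Agent.Lib.helper42

open Matrix Cfsg Cfsg.Agent.Lib.helper17 Module
open Cfsg.Agent.Lib.helper49 (detHom spinorSign reflG' reflG)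

section
variable {ι : Type} [Fintype ι] [DecidableEq ι] {F : Type*} [Field F]

theorem eq_zero_of_polar_eq_zero (Q : QuadraticForm F (ι → F))
    (hQ : (QuadraticMap.polarBilin Q).Nondegenerate) (x : ι → F)
    (h : ∀ y, QuadraticMap.polar ⇑Q x y = 0) : x = 0 :=
  hQ.1 x (fun y => by rw [QuadraticMap.polarBilin_apply_apply]; exact h y)

theorem polar_similarity (Q : QuadraticForm F (ι → F)) (G : Matrix ι ι F) (c : F)
    (hG : ∀ v, Q (G *ᵥ v) = c * Q v) (x y : ι → F) :
    QuadraticMap.polar ⇑Q (G *ᵥ x) (G *ᵥ y) = c * QuadraticMap.polar ⇑Q x y := by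
  unfold QuadraticMap.polar
  rw [← Matrix.mulVec_add, hG, hG, hG]
  ring

/-- `G² = a` for a similarity with multiplier `c`: `⟨Gx, y⟩ = (c/a) ⟨x, Gy⟩` -/
theorem polar_adjoint_of_sq (Q : QuadraticForm F (ι → F)) (G : Matrix ι ι F) (c a : F)
    (hG : ∀ v, Q (G *ᵥ v) = c * Q v) (hGG : G * G = a • (1 : Matrix ι ι F)) (x y : ι → F) :
    a * QuadraticMap.polar ⇑Q (G *ᵥ x) y = c * QuadraticMap.polar ⇑Q x (G *ᵥ y) := by
  have h1 : G *ᵥ (G *ᵥ y) = a • y := by
    rw [Matrix.mulVec_mulVec, hGG, Matrix.smul_mulVec, Matrix.one_mulVec]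
  have h2 := polar_similarity Q G c hG x (G *ᵥ y)
  rw [h1, QuadraticMap.polar_smul_right, smul_eq_mul] at h2
  exact h2

/-- the scalar `a` with `G² = a` is `± ` the multiplier -/
theorem sq_scalar_eq_or_neg (Q : QuadraticForm F (ι → F)) (G : Matrix ι ι F) (c a : F)
    (hG : ∀ v, Q (G *ᵥ v) = c * Q v) (hGG : G * G = a • (1 : Matrix ι ι F)) (x₁ : ι → F)
    (hx₁ : Q x₁ ≠ 0) : a = c ∨ a = -c := by
  have h1 : G *ᵥ (G *ᵥ x₁) = a • x₁ := by
    rw [Matrix.mulVec_mulVec, hGG, Matrix.smul_mulVec, Matrix.one_mulVec]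
  have h2 : Q (G *ᵥ (G *ᵥ x₁)) = c * (c * Q x₁) := by rw [hG, hG]
  rw [h1, QuadraticMap.map_smul, smul_eq_mul] at h2
  have h3 : (a - c) * (a + c) = 0 := by
    have : (a * a - c * c) * Q x₁ = 0 := by linear_combination h2
    rcases mul_eq_zero.mp this with h | h
    · linear_combination h
    · exact absurd h hx₁
  rcases mul_eq_zero.mp h3 with h | h
  · exact Or.inl (sub_eq_zero.mp h)
  · exact Or.inr (eq_neg_of_add_eq_zero_left h)

theorem gram_det_ne_zero (Q : QuadraticForm F (ι → F))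
    (hQ : (QuadraticMap.polarBilin Q).Nondegenerate) :
    (LinearMap.BilinForm.toMatrix' (QuadraticMap.polarBilin Q)).det ≠ 0 := by
  rw [← Matrix.nondegenerate_iff_det_ne_zero]
  exact (LinearMap.BilinForm.nondegenerate_toMatrix'_iff).mpr hQ

/-- a skew-adjoint matrix has the same characteristic polynomial as its negative -/
theorem charpoly_neg_of_polar_skew (Q : QuadraticForm F (ι → F))
    (hQ : (QuadraticMap.polarBilin Q).Nondegenerate) (G : Matrix ι ι F)
    (hskew : ∀ x y, QuadraticMap.polar ⇑Q (G *ᵥ x) y = -QuadraticMap.polar ⇑Q x (G *ᵥ y)) :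
    (-G).charpoly = G.charpoly := by
  apply charpoly_neg_of_skew G _ (gram_det_ne_zero Q hQ)
  have h1 : LinearMap.BilinForm.compLeft (QuadraticMap.polarBilin Q) (Matrix.toLin' G)
      = LinearMap.BilinForm.compRight (QuadraticMap.polarBilin Q) (Matrix.toLin' (-G)) := by
    refine LinearMap.ext fun x => LinearMap.ext fun y => ?_
    rw [LinearMap.BilinForm.compLeft_apply,
      LinearMap.BilinForm.compRight_apply, QuadraticMap.polarBilin_apply_apply,
      QuadraticMap.polarBilin_apply_apply, Matrix.toLin'_apply, Matrix.toLin'_apply,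
      Matrix.neg_mulVec, QuadraticMap.polar_neg_right]
    exact hskew x y
  have h := congrArg LinearMap.BilinForm.toMatrix' h1
  rw [LinearMap.BilinForm.toMatrix'_compLeft,
    LinearMap.BilinForm.toMatrix'_compRight, LinearMap.toMatrix'_toLin',
    LinearMap.toMatrix'_toLin', Matrix.mul_neg] at h
  exact h

/-- `g² = -μ(g)`: then `det g = μ(g)^m` -/
theorem deltaHom_eq_one_of_sq_neg (Q : QuadraticForm F (ι → F))
    (hQ : (QuadraticMap.polarBilin Q).Nondegenerate) (x₁ : ι → F) (hx₁ : Q x₁ ≠ 0)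
    (g : ↥(Geo.quadSimilarityGroup (F := F) ⇑Q)) (m : ℕ) (hcard : Fintype.card ι = 2 * m)
    (hgg : ((g : GL ι F) : Matrix ι ι F) * ((g : GL ι F) : Matrix ι ι F)
      = (-((mult ⇑Q g : Fˣ) : F)) • (1 : Matrix ι ι F)) :
    deltaHom ⇑Q x₁ hx₁ g = 1 := by
  rw [deltaHom_eq_one_iff, hcard, Nat.mul_div_cancel_left m (by norm_num : 0 < 2)]
  have hμ : ((mult ⇑Q g : Fˣ) : F) ≠ 0 := Units.ne_zero _
  have hskew : ∀ x y, QuadraticMap.polar ⇑Q (((g : GL ι F) : Matrix ι ι F) *ᵥ x) y
      = -QuadraticMap.polar ⇑Q x (((g : GL ι F) : Matrix ι ι F) *ᵥ y) := by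
    intro x y
    have h := polar_adjoint_of_sq Q _ _ _ (mult_spec ⇑Q g) hgg x y
    have h' : ((mult ⇑Q g : Fˣ) : F) * (QuadraticMap.polar ⇑Q (((g : GL ι F) : Matrix ι ι F) *ᵥ x) y
        + QuadraticMap.polar ⇑Q x (((g : GL ι F) : Matrix ι ι F) *ᵥ y)) = 0 := by
      linear_combination -h
    rcases mul_eq_zero.mp h' with h'' | h''
    · exact absurd h'' hμ
    · exact eq_neg_of_add_eq_zero_left h''
  have := det_of_sq_scalar_of_charpoly_neg _ _ hgg m hcard (charpoly_neg_of_polar_skew Q hQ _ hskew)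
  rw [this, neg_neg]

/-- `g² = μ(g)` a non-square, `m` even: then `det g = μ(g)^m` -/
theorem deltaHom_eq_one_of_sq_nonsquare (Q : QuadraticForm F (ι → F)) (x₁ : ι → F) (hx₁ : Q x₁ ≠ 0)
    (g : ↥(Geo.quadSimilarityGroup (F := F) ⇑Q)) (m : ℕ) (hcard : Fintype.card ι = 2 * m)
    (hm : Even m) (hns : ¬ IsSquare ((mult ⇑Q g : Fˣ) : F))
    (hgg : ((g : GL ι F) : Matrix ι ι F) * ((g : GL ι F) : Matrix ι ι F)
      = ((mult ⇑Q g : Fˣ) : F) • (1 : Matrix ι ι F)) :
    deltaHom ⇑Q x₁ hx₁ g = 1 := by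
  rw [deltaHom_eq_one_iff, hcard, Nat.mul_div_cancel_left m (by norm_num : 0 < 2),
    det_of_sq_scalar_of_not_isSquare _ _ hns hgg m hcard]
  exact hm.neg_pow _

theorem prod_map_mul_const (μ : F) (f : (ι → F) → F) (vs : List (ι → F)) :
    (vs.map (fun v => μ * f v)).prod = μ ^ vs.length * (vs.map f).prod := by
  induction vs with
  | nil => simp
  | cons a l ih =>
    rw [List.map_cons, List.prod_cons, ih, List.map_cons, List.prod_cons, List.length_cons]
    ring

theorem similarity_mul_prod_refl (Q : QuadraticForm F (ι → F)) (H : Matrix ι ι F) (μ : F) (hμ : μ ≠ 0)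
    (hH : ∀ v, Q (H *ᵥ v) = μ * Q v) (vs : List (ι → F)) :
    H * (vs.map (fun v => reflectionMatrix ⇑Q v)).prod
      = ((vs.map (fun v => H *ᵥ v)).map (fun v => reflectionMatrix ⇑Q v)).prod * H := by
  induction vs with
  | nil => simp
  | cons a l ih =>
    rw [List.map_cons, List.prod_cons, List.map_cons, List.map_cons, List.prod_cons,
      ← Matrix.mul_assoc, refl_conj_similarity Q H μ hμ hH a, Matrix.mul_assoc, ih, Matrix.mul_assoc]

end

section
variable {ι : Type} [Fintype ι] [DecidableEq ι] {F : Type*} [Field F] [Fintype F]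

/-- **Spinor argument**: a similarity commuting with an isometry of determinant `-1` (or anticommuting
with it, if `-1 ∈ Ω`) has square multiplier. -/
theorem isSquare_mult_of_comm_pm (h2 : (2 : F) ≠ 0) (Q : QuadraticForm F (ι → F))
    (hQ : (QuadraticMap.polarBilin Q).Nondegenerate) (hgen : reflSubgroup Q = ⊤)
    (e : ↥(isometryGroup F ⇑Q)) (hdet : detHom ⇑Q e = -1)
    (H : GL ι F) (μ : F) (hμ : μ ≠ 0) (hH : ∀ v, Q ((H : Matrix ι ι F) *ᵥ v) = μ * Q v)
    (hcomm : (H : Matrix ι ι F) * ((e : GL ι F) : Matrix ι ι F)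
        = ((e : GL ι F) : Matrix ι ι F) * (H : Matrix ι ι F) ∨
      ((H : Matrix ι ι F) * ((e : GL ι F) : Matrix ι ι F)
        = -(((e : GL ι F) : Matrix ι ι F) * (H : Matrix ι ι F)) ∧
        ∃ w : ↥(Omega F ⇑Q), (((w : ↥(isometryGroup F ⇑Q)) : GL ι F) : Matrix ι ι F) = -1)) :
    IsSquare μ := by
  obtain ⟨vs, hvs, hval⟩ := exists_refl_list Q e (by rw [hgen]; trivial)
  have he := Cfsg.Agent.Lib.helper49.eq_prod_reflG' Q e vs hvs hval
  -- the number of reflections is odd
  have hk : Odd vs.length := by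
    rw [he, Cfsg.Agent.Lib.helper49.detHom_prod Q vs hvs] at hdet
    by_contra hev
    rw [Nat.not_odd_iff_even] at hev
    rw [hev.neg_one_pow] at hdet
    have h1 := congrArg (fun u : Fˣ => (u : F)) hdet
    simp only [Units.val_one, Units.val_neg] at h1
    apply h2
    linear_combination h1
  set vs' : List (ι → F) := vs.map (fun v => (H : Matrix ι ι F) *ᵥ v) with hvs'def
  have hvs' : ∀ v ∈ vs', Q v ≠ 0 := by
    intro v hv
    rw [hvs'def, List.mem_map] at hv
    obtain ⟨v₀, hv₀, rfl⟩ := hv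
    rw [hH]
    exact mul_ne_zero hμ (hvs v₀ hv₀)
  have hrel := similarity_mul_prod_refl Q (H : Matrix ι ι F) μ hμ hH vs
  rw [← hval] at hrel
  have hHinv : (H : Matrix ι ι F) * ((H⁻¹ : GL ι F) : Matrix ι ι F) = 1 := by
    rw [← Units.val_mul, mul_inv_cancel, Units.val_one]
  have hcancel : ∀ A B : Matrix ι ι F, A * (H : Matrix ι ι F) = B * (H : Matrix ι ι F) → A = B := by
    intro A B hAB
    have := congrArg (fun M => M * ((H⁻¹ : GL ι F) : Matrix ι ι F)) hAB
    simp only [Matrix.mul_assoc, hHinv, Matrix.mul_one] at this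
    exact this
  -- an element of `Ω` whose matrix is the product over `vs ++ vs'`
  have hsq : ∀ x : ↥(isometryGroup F ⇑Q), x * x ∈ Omega F ⇑Q := by
    intro x
    rw [mem_Omega_iff_Phi h2 Q hQ, map_mul, map_mul]
    refine ⟨?_, Int.units_mul_self _⟩
    have hx := Cfsg.Agent.Lib.helper49.detHom_prod Q
    obtain ⟨ws, hws, hxval⟩ := exists_refl_list Q x (by rw [hgen]; trivial)
    rw [Cfsg.Agent.Lib.helper49.eq_prod_reflG' Q x ws hws hxval,
      Cfsg.Agent.Lib.helper49.detHom_prod Q ws hws, ← pow_add, ← two_mul, pow_mul]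
    simp
  obtain ⟨g, hgΩ, hgval⟩ : ∃ g : ↥(isometryGroup F ⇑Q), g ∈ Omega F ⇑Q ∧
      ((g : GL ι F) : Matrix ι ι F)
        = ((vs ++ vs').map (fun v => reflectionMatrix ⇑Q v)).prod := by
    rcases hcomm with hc | ⟨hc, w, hw⟩
    · refine ⟨e * e, hsq e, ?_⟩
      rw [List.map_append, List.prod_append, Subgroup.coe_mul, Units.val_mul, ← hval]
      congr 1
      apply hcancel
      rw [← hrel, hc]
    · refine ⟨w.1 * (e * e), (Omega F ⇑Q).mul_mem w.2 (hsq e), ?_⟩
      rw [List.map_append, List.prod_append, Subgroup.coe_mul, Units.val_mul, Subgroup.coe_mul,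
        Units.val_mul, hw, ← hval]
      have : ((vs'.map (fun v => reflectionMatrix ⇑Q v)).prod)
          = -((e : GL ι F) : Matrix ι ι F) := by
        apply hcancel
        rw [← hrel, hc, Matrix.neg_mul]
      rw [this]
      simp
  have hall : ∀ v ∈ vs ++ vs', Q v ≠ 0 := by
    intro v hv
    rcases List.mem_append.mp hv with h | h
    · exact hvs v h
    · exact hvs' v h
  have hcrit := (Cfsg.Agent.Lib.helper49.spinor_criterion h2 Q g (vs ++ vs') hall hgval).mp hgΩ
  obtain ⟨-, s, hs⟩ := hcrit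
  have hP0 := (Cfsg.Agent.Lib.helper49.isSquare_prod_iff h2 Q vs hvs).1
  have hprod : ((vs ++ vs').map (fun v => Q v)).prod
      = μ ^ vs.length * ((vs.map (fun v => Q v)).prod * (vs.map (fun v => Q v)).prod) := by
    rw [List.map_append, List.prod_append, hvs'def, List.map_map]
    have : ((fun v => Q v) ∘ fun v => (H : Matrix ι ι F) *ᵥ v) = fun v => μ * Q v := by
      funext v
      exact hH v
    rw [this, prod_map_mul_const]
    ring
  rw [hprod] at hs
  obtain ⟨j, hj⟩ := hk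
  refine ⟨s / ((vs.map (fun v => Q v)).prod * μ ^ j), ?_⟩
  rw [hj] at hs
  field_simp
  linear_combination hs

end

end Cfsg.Agent.Lib.helper42
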