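import Cfsg.Agent.Lib.helper42.GraphInvB

/-!
Vectors adapted to an isometric involution `E` (two eigenvectors for the same eigenvalue whose values under
`Q` have non-square product), over a finite field of odd order.
-/

set_option autoImplicit false
set_option linter.unusedSectionVars false

namespace Cfsg.Agent.Lib.helper42

open Matrix Cfsg Cfsg.Agent.Lib.helper17 Module Polynomial

section
variable {ι : Type} [Fintype ι] [DecidableEq ι] {F : Type*} [Field F] [Fintype F]

theorem ringChar_ne_two_of_two_ne_zero (h2 : (2 : F) ≠ 0) : ringChar F ≠ 2 := by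
  intro h
  apply h2
  have := ringChar.Nat.cast_ringChar (R := F)
  rw [h] at this
  exact_mod_cast this

theorem exists_nonsquare_of_two_ne_zero (h2 : (2 : F) ≠ 0) : ∃ a : F, ¬ IsSquare a :=
  FiniteField.exists_nonsquare (ringChar_ne_two_of_two_ne_zero h2)

/-- a binary diagonal form over a finite field of odd order represents every value -/
theorem exists_sq_add_sq (h2 : (2 : F) ≠ 0) (a b c : F) (ha : a ≠ 0) (hb : b ≠ 0) :
    ∃ x y : F, a * x ^ 2 + b * y ^ 2 = c := by
  have hf : (C a * X ^ 2 : F[X]).degree = 2 := degree_C_mul_X_pow 2 ha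
  have hg : (C b * X ^ 2 - C c : F[X]).degree = 2 := by
    rw [degree_sub_C, degree_C_mul_X_pow 2 hb]
    · rfl
    · rw [degree_C_mul_X_pow 2 hb]
      decide
  obtain ⟨x, y, hxy⟩ := FiniteField.exists_root_sum_quadratic hf hg
    (FiniteField.odd_card_of_char_ne_two (ringChar_ne_two_of_two_ne_zero h2))
  refine ⟨x, y, ?_⟩
  simp only [eval_mul, eval_C, eval_pow, eval_X, eval_sub] at hxy
  linear_combination hxy

/-- for complementary "projections" `P, P'` onto the `e`- and `(-e)`-eigenspaces of an isometry `E`: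
either the `e`-eigenspace contains two vectors whose values have non-square product, or `P` has rank at
most one -/
theorem exists_pair_or_rank_le_one (h2 : (2 : F) ≠ 0) (Q : QuadraticForm F (ι → F))
    (hQ : (QuadraticMap.polarBilin Q).Nondegenerate) (E P P' : Matrix ι ι F) (e : F) (he : e * e = 1)
    (hE : ∀ v, Q (E *ᵥ v) = Q v) (hPP' : P + P' = (2 : F) • (1 : Matrix ι ι F))
    (hEP : ∀ v, E *ᵥ (P *ᵥ v) = e • (P *ᵥ v)) (hEP' : ∀ v, E *ᵥ (P' *ᵥ v) = (-e) • (P' *ᵥ v)) :
    (∃ u w, Q u ≠ 0 ∧ Q w ≠ 0 ∧ ¬ IsSquare (Q u * Q w) ∧ E *ᵥ u = e • u ∧ E *ᵥ w = e • w)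
      ∨ P.rank ≤ 1 := by
  have hpol := polar_mulVec_of_isometry Q E hE
  have horth : ∀ v w, QuadraticMap.polar ⇑Q (P *ᵥ v) (P' *ᵥ w) = 0 := by
    intro v w
    have h := hpol (P *ᵥ v) (P' *ᵥ w)
    rw [hEP, hEP', QuadraticMap.polar_smul_left, QuadraticMap.polar_smul_right, smul_eq_mul,
      smul_eq_mul] at h
    have h' : (2 : F) * QuadraticMap.polar ⇑Q (P *ᵥ v) (P' *ᵥ w) = 0 := by
      linear_combination (-1 : F) * h + (-QuadraticMap.polar ⇑Q (P *ᵥ v) (P' *ᵥ w)) * he
    exact (mul_eq_zero.mp h').resolve_left h2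
  have hsplit : ∀ y, (2 : F) • y = P *ᵥ y + P' *ᵥ y := by
    intro y
    rw [← Matrix.add_mulVec, hPP', Matrix.smul_mulVec, Matrix.one_mulVec]
  have hkey : ∀ x, (∀ w, QuadraticMap.polar ⇑Q x (P *ᵥ w) = 0) →
      (∀ w, QuadraticMap.polar ⇑Q x (P' *ᵥ w) = 0) → x = 0 := by
    intro x h1 h1'
    apply eq_zero_of_polar_eq_zero Q hQ
    intro y
    have h : QuadraticMap.polar ⇑Q x ((2 : F) • y) = 0 := by
      rw [hsplit, QuadraticMap.polar_add_right, h1, h1', add_zero]
    rw [QuadraticMap.polar_smul_right, smul_eq_mul] at h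
    exact (mul_eq_zero.mp h).resolve_left h2
  by_cases hall : ∀ v, Q (P *ᵥ v) = 0
  · right
    have hP0 : P = 0 := by
      apply Cfsg.Agent.Lib.helper91.matrix_eq_of_mulVec
      intro v
      rw [Matrix.zero_mulVec]
      apply hkey
      · intro w
        unfold QuadraticMap.polar
        rw [← Matrix.mulVec_add, hall, hall, hall]
        ring
      · intro w
        exact horth v w
    rw [hP0, Matrix.rank_zero]
    exact Nat.zero_le 1
  · push Not at hall
    obtain ⟨v₀, hv₀⟩ := hall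
    obtain ⟨u, hu⟩ : ∃ u, u = P *ᵥ v₀ := ⟨_, rfl⟩
    rw [← hu] at hv₀
    have hEu : E *ᵥ u = e • u := by rw [hu]; exact hEP v₀
    have huP' : ∀ w, QuadraticMap.polar ⇑Q u (P' *ᵥ w) = 0 := by
      intro w
      rw [hu]
      exact horth v₀ w
    have huu : QuadraticMap.polar ⇑Q u u = 2 * Q u := by
      rw [QuadraticMap.polar_self]
      simp
    have h2Q : 2 * Q u ≠ 0 := mul_ne_zero h2 hv₀
    obtain ⟨T, hT⟩ : ∃ T : (ι → F) → (ι → F),
        ∀ v, T v = P *ᵥ v - (QuadraticMap.polar ⇑Q (P *ᵥ v) u / (2 * Q u)) • u := ⟨_, fun _ => rfl⟩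
    have hPT : ∀ v, P *ᵥ v = T v + (QuadraticMap.polar ⇑Q (P *ᵥ v) u / (2 * Q u)) • u := by
      intro v
      rw [hT]
      abel
    have hTadd : ∀ v w, T (v + w) = T v + T w := by
      intro v w
      rw [hT, hT, hT, Matrix.mulVec_add, QuadraticMap.polar_add_left, add_div, add_smul]
      abel
    have hTu : ∀ v, QuadraticMap.polar ⇑Q (T v) u = 0 := by
      intro v
      rw [hT, QuadraticMap.polar_sub_left, QuadraticMap.polar_smul_left, huu, smul_eq_mul]
      field_simp
      ring
    have hTE : ∀ v, E *ᵥ (T v) = e • T v := by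
      intro v
      rw [hT, Matrix.mulVec_sub, Matrix.mulVec_smul, hEu, hEP, smul_sub, smul_comm]
    have hTP' : ∀ v w, QuadraticMap.polar ⇑Q (T v) (P' *ᵥ w) = 0 := by
      intro v w
      rw [hT, QuadraticMap.polar_sub_left, QuadraticMap.polar_smul_left, horth, huP', smul_zero,
        sub_zero]
    by_cases hall' : ∀ v, Q (T v) = 0
    · right
      have hT0 : ∀ v, T v = 0 := by
        intro v
        apply hkey
        · intro w
          rw [hPT w, QuadraticMap.polar_add_right, QuadraticMap.polar_smul_right, hTu, smul_zero,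
            add_zero]
          unfold QuadraticMap.polar
          rw [← hTadd, hall', hall', hall']
          ring
        · exact hTP' v
      have hrange : LinearMap.range P.mulVecLin ≤ Submodule.span F (({u} : Finset (ι → F)) : Set (ι → F)) := by
        rintro _ ⟨v, rfl⟩
        rw [Matrix.mulVecLin_apply, hPT v, hT0 v, zero_add, Finset.coe_singleton]
        exact Submodule.smul_mem _ _ (Submodule.mem_span_singleton_self u)
      unfold Matrix.rank
      calc finrank F (LinearMap.range P.mulVecLin)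
          ≤ finrank F (Submodule.span F (({u} : Finset (ι → F)) : Set (ι → F))) :=
            Submodule.finrank_mono hrange
        _ ≤ ({u} : Finset (ι → F)).card := finrank_span_finset_le_card _
        _ = 1 := Finset.card_singleton u
    · left
      push Not at hall'
      obtain ⟨v₁, hv₁⟩ := hall'
      obtain ⟨ε, hε⟩ := exists_nonsquare_of_two_ne_zero h2
      have hε0 : ε ≠ 0 := by
        rintro rfl
        exact hε ⟨0, by simp⟩
      obtain ⟨x, y, hxy⟩ := exists_sq_add_sq h2 (Q u) (Q (T v₁)) (ε * Q u) hv₀ hv₁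
      have hQw : Q (x • u + y • T v₁) = ε * Q u := by
        rw [QuadraticMap.map_add (⇑Q) (x • u) (y • T v₁), QuadraticMap.map_smul,
          QuadraticMap.map_smul, QuadraticMap.polar_smul_left, QuadraticMap.polar_smul_right,
          QuadraticMap.polar_comm, hTu]
        simp only [smul_eq_mul, mul_zero, add_zero]
        linear_combination hxy
      refine ⟨u, x • u + y • T v₁, hv₀, ?_, ?_, hEu, ?_⟩
      · rw [hQw]
        exact mul_ne_zero hε0 hv₀
      · rw [hQw]
        rintro ⟨s, hs⟩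
        apply hε
        refine ⟨s / Q u, ?_⟩
        field_simp
        linear_combination hs
      · rw [Matrix.mulVec_add, Matrix.mulVec_smul, Matrix.mulVec_smul, hEu, hTE, smul_add,
          smul_comm e x, smul_comm e y]

/-- an isometric involution of a space of dimension at least three has two eigenvectors for the same
eigenvalue whose values under `Q` have non-square product -/
theorem exists_eigen_pair (h2 : (2 : F) ≠ 0) (Q : QuadraticForm F (ι → F))
    (hQ : (QuadraticMap.polarBilin Q).Nondegenerate) (E : Matrix ι ι F)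
    (hEE : E * E = 1) (hE : ∀ v, Q (E *ᵥ v) = Q v) (h3 : 3 ≤ Fintype.card ι) :
    ∃ u w, Q u ≠ 0 ∧ Q w ≠ 0 ∧ ¬ IsSquare (Q u * Q w) ∧
      ((E *ᵥ u = u ∧ E *ᵥ w = w) ∨ (E *ᵥ u = -u ∧ E *ᵥ w = -w)) := by
  have hEEv : ∀ v, E *ᵥ (E *ᵥ v) = v := by
    intro v
    rw [Matrix.mulVec_mulVec, hEE, Matrix.one_mulVec]
  have hsum : (1 + E) + (1 - E) = (2 : F) • (1 : Matrix ι ι F) := by
    rw [two_smul]
    abel
  have hsum' : (1 - E) + (1 + E) = (2 : F) • (1 : Matrix ι ι F) := by
    rw [two_smul]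
    abel
  have hp : ∀ v, E *ᵥ ((1 + E) *ᵥ v) = (1 : F) • ((1 + E) *ᵥ v) := by
    intro v
    rw [Matrix.add_mulVec, Matrix.one_mulVec, Matrix.mulVec_add, hEEv, one_smul, add_comm]
  have hm : ∀ v, E *ᵥ ((1 - E) *ᵥ v) = (-1 : F) • ((1 - E) *ᵥ v) := by
    intro v
    rw [Matrix.sub_mulVec, Matrix.one_mulVec, Matrix.mulVec_sub, hEEv, neg_one_smul, neg_sub]
  rcases exists_pair_or_rank_le_one h2 Q hQ E (1 + E) (1 - E) 1 (one_mul 1) hE hsum hp hm with
    ⟨u, w, hu, hw, hns, hEu, hEw⟩ | hr1
  · rw [one_smul] at hEu hEw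
    exact ⟨u, w, hu, hw, hns, Or.inl ⟨hEu, hEw⟩⟩
  rcases exists_pair_or_rank_le_one h2 Q hQ E (1 - E) (1 + E) (-1) (by ring) hE hsum' hm
    (by intro v; rw [neg_neg]; exact hp v) with ⟨u, w, hu, hw, hns, hEu, hEw⟩ | hr2
  · rw [neg_one_smul] at hEu hEw
    exact ⟨u, w, hu, hw, hns, Or.inr ⟨hEu, hEw⟩⟩
  exfalso
  have h1 := matrix_rank_add_le (1 + E) (1 - E)
  rw [hsum] at h1
  have hunit : IsUnit ((2 : F) • (1 : Matrix ι ι F)) := by
    rw [Matrix.isUnit_iff_isUnit_det, Matrix.det_smul, Matrix.det_one, mul_one]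
    exact (isUnit_iff_ne_zero.mpr h2).pow _
  rw [Matrix.rank_of_isUnit _ hunit] at h1
  omega

end

end Cfsg.Agent.Lib.helper42
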