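import Cfsg.Agent.Lib.helper42.GraphInvC
import Cfsg.Agent.Lib.helper42.InndiagMinus

/-!
A self-adjoint similarity `G` with `G² = λ` a non-square (a structure of vector space over the quadratic
extension `K = F(√λ)`): there is a non-singular vector `u` orthogonal to `G u`.  The proof uses the
`K`-valued quadratic form `u ↦ ⟨u, Gu⟩ + ⟨u, u⟩ √λ` and the fact that a binary diagonal form over the
finite field `K` is universal.
-/

set_option autoImplicit false
set_option linter.unusedSectionVars false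

namespace Cfsg.Agent.Lib.helper42

open Matrix Cfsg Cfsg.Agent.Lib.helper17 Module Polynomial

universe u

section
variable {ι : Type} [Fintype ι] [DecidableEq ι] {F : Type u} [Field F]

/-- values of the polar form on `x u + y G u` -/
theorem polar_comb_self (Q : QuadraticForm F (ι → F)) (G : Matrix ι ι F) (lam : F)
    (hself : ∀ x y, QuadraticMap.polar ⇑Q (G *ᵥ x) y = QuadraticMap.polar ⇑Q x (G *ᵥ y))
    (hsim : ∀ x y, QuadraticMap.polar ⇑Q (G *ᵥ x) (G *ᵥ y) = lam * QuadraticMap.polar ⇑Q x y)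
    (u : ι → F) (x y x' y' : F) :
    QuadraticMap.polar ⇑Q (x • u + y • G *ᵥ u) (x' • u + y' • G *ᵥ u)
      = (x * x' + lam * y * y') * QuadraticMap.polar ⇑Q u u
        + (x * y' + y * x') * QuadraticMap.polar ⇑Q u (G *ᵥ u) := by
  simp only [QuadraticMap.polar_add_left, QuadraticMap.polar_add_right, QuadraticMap.polar_smul_left,
    QuadraticMap.polar_smul_right, smul_eq_mul, hsim, hself u u]
  ring

/-- `x u + y G u` and `x' w + y' G w` are orthogonal if `u ⊥ w, G w` -/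
theorem polar_comb_orth (Q : QuadraticForm F (ι → F)) (G : Matrix ι ι F) (lam : F)
    (hself : ∀ x y, QuadraticMap.polar ⇑Q (G *ᵥ x) y = QuadraticMap.polar ⇑Q x (G *ᵥ y))
    (hsim : ∀ x y, QuadraticMap.polar ⇑Q (G *ᵥ x) (G *ᵥ y) = lam * QuadraticMap.polar ⇑Q x y)
    (u w : ι → F) (h1 : QuadraticMap.polar ⇑Q u w = 0) (h2 : QuadraticMap.polar ⇑Q u (G *ᵥ w) = 0)
    (x y x' y' : F) :
    QuadraticMap.polar ⇑Q (x • u + y • G *ᵥ u) (x' • w + y' • G *ᵥ w) = 0 := by
  simp only [QuadraticMap.polar_add_left, QuadraticMap.polar_add_right, QuadraticMap.polar_smul_left,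
    QuadraticMap.polar_smul_right, smul_eq_mul, hsim, hself u w, h1, h2]
  ring

theorem mulVec_comb (G : Matrix ι ι F) (lam : F) (hGG : G * G = lam • (1 : Matrix ι ι F))
    (u : ι → F) (x y : F) :
    G *ᵥ (x • u + y • G *ᵥ u) = (lam * y) • u + x • G *ᵥ u := by
  rw [Matrix.mulVec_add, Matrix.mulVec_smul, Matrix.mulVec_smul, Matrix.mulVec_mulVec, hGG,
    Matrix.smul_mulVec, Matrix.one_mulVec, smul_smul, add_comm, mul_comm]

end

section
variable {ι : Type} [Fintype ι] [DecidableEq ι] {F : Type u} [Field F] [Fintype F]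

theorem exists_perp_image (hodd : Odd (Fintype.card F)) (Q : QuadraticForm F (ι → F))
    (hQ : (QuadraticMap.polarBilin Q).Nondegenerate) (G : Matrix ι ι F) (lam : F)
    (hlam : ¬ IsSquare lam) (hG : ∀ v, Q (G *ᵥ v) = lam * Q v)
    (hGG : G * G = lam • (1 : Matrix ι ι F)) (h3 : 3 ≤ Fintype.card ι) :
    ∃ u, Q u ≠ 0 ∧ QuadraticMap.polar ⇑Q u (G *ᵥ u) = 0 := by
  classical
  have h2 := two_ne_zero_of_odd_card hodd
  have hlam0 : lam ≠ 0 := by
    rintro rfl
    exact hlam ⟨0, by simp⟩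
  have hself : ∀ x y, QuadraticMap.polar ⇑Q (G *ᵥ x) y = QuadraticMap.polar ⇑Q x (G *ᵥ y) := by
    intro x y
    exact mul_left_cancel₀ hlam0 (polar_adjoint_of_sq Q G lam lam hG hGG x y)
  have hsim := polar_similarity Q G lam hG
  have hpolself : ∀ v, QuadraticMap.polar ⇑Q v v = 2 * Q v := by
    intro v
    rw [QuadraticMap.polar_self]
    simp
  -- a non-singular vector
  obtain ⟨u₁, hu₁⟩ : ∃ u₁, Q u₁ ≠ 0 := by
    by_contra hcon
    push Not at hcon
    have hz : ∀ x : ι → F, x = 0 := fun x => eq_zero_of_polar_eq_zero Q hQ x (fun y => by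
      unfold QuadraticMap.polar
      rw [hcon, hcon, hcon]
      ring)
    obtain ⟨i⟩ : Nonempty ι := Fintype.card_pos_iff.mp (by omega)
    have := congrFun (hz (Pi.single i 1)) i
    simp at this
  obtain ⟨r₁, hr₁⟩ : ∃ r₁, r₁ = QuadraticMap.polar ⇑Q u₁ u₁ := ⟨_, rfl⟩
  obtain ⟨p₁, hp₁⟩ : ∃ p₁, p₁ = QuadraticMap.polar ⇑Q u₁ (G *ᵥ u₁) := ⟨_, rfl⟩
  have hr₁ne : r₁ ≠ 0 := by
    rw [hr₁, hpolself]
    exact mul_ne_zero h2 hu₁
  obtain ⟨D, hDdef⟩ : ∃ D, D = lam * r₁ * r₁ - p₁ * p₁ := ⟨_, rfl⟩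
  have hD : D ≠ 0 := by
    intro h
    rw [hDdef] at h
    apply hlam
    refine ⟨p₁ / r₁, ?_⟩
    field_simp
    linear_combination h
  have hGu₁ : QuadraticMap.polar ⇑Q (G *ᵥ u₁) (G *ᵥ u₁) = lam * r₁ := by rw [hsim, hr₁]
  have hGu₁' : QuadraticMap.polar ⇑Q (G *ᵥ u₁) u₁ = p₁ := by rw [QuadraticMap.polar_comm, hp₁]
  -- the projection onto the orthogonal complement of `u₁, G u₁`
  obtain ⟨T, hT⟩ : ∃ T : (ι → F) → (ι → F), ∀ v, T v = v
      - ((lam * r₁ * QuadraticMap.polar ⇑Q v u₁ - p₁ * QuadraticMap.polar ⇑Q v (G *ᵥ u₁)) / D) • u₁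
      - ((r₁ * QuadraticMap.polar ⇑Q v (G *ᵥ u₁) - p₁ * QuadraticMap.polar ⇑Q v u₁) / D)
          • G *ᵥ u₁ := ⟨_, fun _ => rfl⟩
  have hTv : ∀ v, v = T v
      + ((lam * r₁ * QuadraticMap.polar ⇑Q v u₁ - p₁ * QuadraticMap.polar ⇑Q v (G *ᵥ u₁)) / D) • u₁
      + ((r₁ * QuadraticMap.polar ⇑Q v (G *ᵥ u₁) - p₁ * QuadraticMap.polar ⇑Q v u₁) / D)
          • G *ᵥ u₁ := by
    intro v
    rw [hT]
    abel
  have hTadd : ∀ v w, T (v + w) = T v + T w := by
    intro v w
    rw [hT, hT, hT]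
    simp only [QuadraticMap.polar_add_left, mul_add, add_sub_add_comm, add_div, add_smul]
  have hTu : ∀ v, QuadraticMap.polar ⇑Q (T v) u₁ = 0 := by
    intro v
    rw [hT]
    simp only [QuadraticMap.polar_sub_left, QuadraticMap.polar_smul_left, smul_eq_mul, ← hr₁, hGu₁']
    field_simp
    rw [hDdef]
    ring
  have hTGu : ∀ v, QuadraticMap.polar ⇑Q (T v) (G *ᵥ u₁) = 0 := by
    intro v
    rw [hT]
    simp only [QuadraticMap.polar_sub_left, QuadraticMap.polar_smul_left, smul_eq_mul, ← hp₁, hGu₁]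
    field_simp
    rw [hDdef]
    ring
  obtain ⟨v₂, hv₂⟩ : ∃ v, Q (T v) ≠ 0 := by
    by_contra hcon
    push Not at hcon
    have hT0 : ∀ v, T v = 0 := by
      intro v
      apply eq_zero_of_polar_eq_zero Q hQ
      intro y
      rw [hTv y, QuadraticMap.polar_add_right, QuadraticMap.polar_add_right,
        QuadraticMap.polar_smul_right, QuadraticMap.polar_smul_right, hTu, hTGu, smul_zero, smul_zero,
        add_zero, add_zero]
      unfold QuadraticMap.polar
      rw [← hTadd, hcon, hcon, hcon]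
      ring
    have htop : (⊤ : Submodule F (ι → F))
        ≤ Submodule.span F ((({u₁, G *ᵥ u₁} : Finset (ι → F)) : Set (ι → F))) := by
      intro v _
      have hv := hTv v
      rw [hT0 v, zero_add] at hv
      rw [hv]
      refine Submodule.add_mem _ (Submodule.smul_mem _ _ (Submodule.subset_span ?_))
        (Submodule.smul_mem _ _ (Submodule.subset_span ?_))
      · simp
      · simp
    have h1 := Submodule.finrank_mono htop
    rw [finrank_top, Module.finrank_fintype_fun_eq_card] at h1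
    have h2' := finrank_span_finset_le_card (R := F) ({u₁, G *ᵥ u₁} : Finset (ι → F))
    have h3' : ({u₁, G *ᵥ u₁} : Finset (ι → F)).card ≤ 2 := Finset.card_le_two
    unfold Set.finrank at h2'
    omega
  obtain ⟨u₂, hu₂⟩ : ∃ u₂, u₂ = T v₂ := ⟨_, rfl⟩
  rw [← hu₂] at hv₂
  have h21 : QuadraticMap.polar ⇑Q u₂ u₁ = 0 := by rw [hu₂]; exact hTu v₂
  have h21' : QuadraticMap.polar ⇑Q u₂ (G *ᵥ u₁) = 0 := by rw [hu₂]; exact hTGu v₂
  obtain ⟨r₂, hr₂⟩ : ∃ r₂, r₂ = QuadraticMap.polar ⇑Q u₂ u₂ := ⟨_, rfl⟩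
  obtain ⟨p₂, hp₂⟩ : ∃ p₂, p₂ = QuadraticMap.polar ⇑Q u₂ (G *ᵥ u₂) := ⟨_, rfl⟩
  have hr₂ne : r₂ ≠ 0 := by
    rw [hr₂, hpolself]
    exact mul_ne_zero h2 hv₂
  -- the quadratic extension
  obtain ⟨K, instK, instA, hK⟩ := exists_quadratic_extension (0 : F) (-lam) (by
    intro z₁ z₂ hz
    have hz₂ : z₂ = 0 := by
      by_contra hz₂
      apply hlam
      refine ⟨z₁ / z₂, ?_⟩
      field_simp
      linear_combination -hz
    subst hz₂
    refine ⟨?_, rfl⟩
    have : z₁ ^ 2 = 0 := by linear_combination hz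
    exact pow_eq_zero_iff (by norm_num) |>.mp this)
  obtain ⟨ω, hω⟩ := isSquare_algebraMap_of_finrank_two (K := K) hodd hK lam
  haveI : Module.Finite F K := Module.finite_of_finrank_pos (by rw [hK]; norm_num)
  haveI : Finite K := Module.finite_of_finite F
  haveI : Fintype K := Fintype.ofFinite K
  have hind : ∀ x y : F, algebraMap F K x + algebraMap F K y * ω = 0 → x = 0 ∧ y = 0 := by
    intro x y h
    by_cases hy : y = 0
    · subst hy
      rw [map_zero, zero_mul, add_zero] at h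
      exact ⟨(map_eq_zero (algebraMap F K)).mp h, rfl⟩
    · exfalso
      apply hlam
      have hyK : algebraMap F K y ≠ 0 := (_root_.map_ne_zero (algebraMap F K)).mpr hy
      have hω' : ω = algebraMap F K (-x / y) := by
        rw [map_div₀, map_neg]
        field_simp
        linear_combination h
      refine ⟨-x / y, ?_⟩
      apply (algebraMap F K).injective
      rw [hω, map_mul, ← hω']
  have hspan : ∀ α : K, ∃ x y : F, α = algebraMap F K x + algebraMap F K y * ω := by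
    have hli : LinearIndependent F ![(1 : K), ω] := by
      rw [LinearIndependent.pair_iff]
      intro s t hst
      apply hind
      rw [← hst, Algebra.smul_def, Algebra.smul_def, mul_one]
    have hsp := hli.span_eq_top_of_card_eq_finrank' (by rw [hK]; rfl)
    intro α
    have hα : α ∈ Submodule.span F (Set.range ![(1 : K), ω]) := by
      rw [hsp]
      trivial
    obtain ⟨c, hc⟩ := (Submodule.mem_span_range_iff_exists_fun F).mp hα
    refine ⟨c 0, c 1, ?_⟩
    rw [← hc, Fin.sum_univ_two, Algebra.smul_def, Algebra.smul_def]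
    simp
  have hcardK : Fintype.card K % 2 = 1 := by
    rw [Module.card_eq_pow_finrank (K := F) (V := K), hK]
    exact Nat.odd_iff.mp hodd.pow
  have hC₁ : algebraMap F K p₁ + algebraMap F K r₁ * ω ≠ 0 := fun h => hr₁ne (hind _ _ h).2
  have hC₂ : algebraMap F K p₂ + algebraMap F K r₂ * ω ≠ 0 := fun h => hr₂ne (hind _ _ h).2
  have hg2 : (C (algebraMap F K p₂ + algebraMap F K r₂ * ω) * X ^ 2 - C ω : K[X]).degree = 2 := by
    rw [degree_sub_C, degree_C_mul_X_pow 2 hC₂]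
    · rfl
    · rw [degree_C_mul_X_pow 2 hC₂]
      decide
  obtain ⟨α, β, hαβ⟩ := FiniteField.exists_root_sum_quadratic
    (degree_C_mul_X_pow 2 hC₁) hg2 hcardK
  simp only [eval_mul, eval_C, eval_pow, eval_X, eval_sub] at hαβ
  obtain ⟨x₁, y₁, rfl⟩ := hspan α
  obtain ⟨x₂, y₂, rfl⟩ := hspan β
  obtain ⟨hA, hB⟩ := hind
    ((x₁ * x₁ + lam * y₁ * y₁) * p₁ + 2 * x₁ * y₁ * lam * r₁
      + ((x₂ * x₂ + lam * y₂ * y₂) * p₂ + 2 * x₂ * y₂ * lam * r₂))
    ((x₁ * x₁ + lam * y₁ * y₁) * r₁ + 2 * x₁ * y₁ * p₁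
      + ((x₂ * x₂ + lam * y₂ * y₂) * r₂ + 2 * x₂ * y₂ * p₂) - 1) (by
    simp only [map_add, map_mul, map_sub, map_one, map_ofNat]
    linear_combination hαβ + (algebraMap F K y₁ * algebraMap F K y₁ * algebraMap F K p₁
      + 2 * algebraMap F K x₁ * algebraMap F K y₁ * algebraMap F K r₁
      + algebraMap F K y₁ * algebraMap F K y₁ * algebraMap F K r₁ * ω
      + algebraMap F K y₂ * algebraMap F K y₂ * algebraMap F K p₂
      + 2 * algebraMap F K x₂ * algebraMap F K y₂ * algebraMap F K r₂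
      + algebraMap F K y₂ * algebraMap F K y₂ * algebraMap F K r₂ * ω) * hω)
  -- the vector
  have e11 := polar_comb_self Q G lam hself hsim u₁ x₁ y₁ x₁ y₁
  have e22 := polar_comb_self Q G lam hself hsim u₂ x₂ y₂ x₂ y₂
  have e11' := polar_comb_self Q G lam hself hsim u₁ x₁ y₁ (lam * y₁) x₁
  have e22' := polar_comb_self Q G lam hself hsim u₂ x₂ y₂ (lam * y₂) x₂
  have e21 := polar_comb_orth Q G lam hself hsim u₂ u₁ h21 h21' x₂ y₂ x₁ y₁
  have e21' := polar_comb_orth Q G lam hself hsim u₂ u₁ h21 h21' x₂ y₂ (lam * y₁) x₁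
  have e12' := polar_comb_orth Q G lam hself hsim u₂ u₁ h21 h21' (lam * y₂) x₂ x₁ y₁
  rw [← hr₁, ← hp₁] at e11 e11'
  rw [← hr₂, ← hp₂] at e22 e22'
  have hG1 := mulVec_comb G lam hGG u₁ x₁ y₁
  have hG2 := mulVec_comb G lam hGG u₂ x₂ y₂
  obtain ⟨a₁, ha₁⟩ : ∃ a₁, a₁ = x₁ • u₁ + y₁ • G *ᵥ u₁ := ⟨_, rfl⟩
  obtain ⟨a₂, ha₂⟩ : ∃ a₂, a₂ = x₂ • u₂ + y₂ • G *ᵥ u₂ := ⟨_, rfl⟩
  obtain ⟨b₁, hb₁⟩ : ∃ b₁, b₁ = (lam * y₁) • u₁ + x₁ • G *ᵥ u₁ := ⟨_, rfl⟩
  obtain ⟨b₂, hb₂⟩ : ∃ b₂, b₂ = (lam * y₂) • u₂ + x₂ • G *ᵥ u₂ := ⟨_, rfl⟩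
  rw [← ha₁] at e11 e11' e21 e12' hG1
  rw [← ha₂] at e22 e22' e21 e21' hG2
  rw [← hb₁] at e11' e21' hG1
  rw [← hb₂] at e22' e12' hG2
  refine ⟨a₁ + a₂, ?_, ?_⟩
  · have hpp : QuadraticMap.polar ⇑Q (a₁ + a₂) (a₁ + a₂) = 1 := by
      rw [QuadraticMap.polar_add_left, QuadraticMap.polar_add_right, QuadraticMap.polar_add_right,
        e11, e22, e21, QuadraticMap.polar_comm ⇑Q a₁ a₂, e21]
      linear_combination hB
    rw [hpolself] at hpp
    intro h0
    rw [h0, mul_zero] at hpp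
    exact zero_ne_one hpp
  · rw [Matrix.mulVec_add, hG1, hG2,
      QuadraticMap.polar_add_left, QuadraticMap.polar_add_right, QuadraticMap.polar_add_right,
      e11', e22', e21', QuadraticMap.polar_comm ⇑Q a₁ b₂, e12']
    linear_combination hA

end

end Cfsg.Agent.Lib.helper42
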