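import Cfsg.Agent.Lib.helper42.GraphInvD
import Cfsg.Agent.Lib.helper42.SplitCount

/-!
Involutory automorphisms `γ` of `PΩ(Q)` induced by a similarity `g` with `det g ≠ μ(g)^(n/2)` (graph
automorphisms for the plus-type form), odd `q`, `-1 ∈ Ω(Q)`: the class of `γ` under the inner-diagonal
group splits into exactly two classes under the inner automorphisms.
-/

set_option autoImplicit false
set_option linter.unusedSectionVars false

namespace Cfsg.Agent.Lib.helper42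

open Matrix Cfsg Cfsg.Agent.Lib.helper17 Module
open Cfsg.Agent.Lib.helper49 (detHom spinorSign reflG' reflG)

universe u

section
variable {ι : Type} [Fintype ι] [DecidableEq ι] {F : Type u} [Field F] [Fintype F]

/-- a product of two reflections as an element of the isometry group: determinant one, and in `Ω` only if
the product of the values is a square -/
theorem exists_refl_pair (h2 : (2 : F) ≠ 0) (Q : QuadraticForm F (ι → F)) (u w : ι → F)
    (hu : Q u ≠ 0) (hw : Q w ≠ 0) (hns : ¬ IsSquare (Q u * Q w)) :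
    ∃ c : ↥(isometryGroup F ⇑Q), detHom ⇑Q c = 1 ∧ c ∉ Omega F ⇑Q ∧
      ((c : GL ι F) : Matrix ι ι F) = reflectionMatrix ⇑Q u * reflectionMatrix ⇑Q w := by
  have hvs : ∀ v ∈ [u, w], Q v ≠ 0 := by
    intro v hv
    simp only [List.mem_cons, List.not_mem_nil, or_false] at hv
    rcases hv with rfl | rfl
    · exact hu
    · exact hw
  have hval : (((reflG Q u hu * reflG Q w hw : ↥(isometryGroup F ⇑Q)) : GL ι F) : Matrix ι ι F)
      = ([u, w].map (fun v => reflectionMatrix ⇑Q v)).prod := by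
    simp only [List.map_cons, List.map_nil, List.prod_cons, List.prod_nil, mul_one]
    rfl
  refine ⟨reflG Q u hu * reflG Q w hw, ?_, ?_, rfl⟩
  · rw [Cfsg.Agent.Lib.helper49.eq_prod_reflG' Q _ [u, w] hvs hval,
      Cfsg.Agent.Lib.helper49.detHom_prod Q _ hvs]
    simp
  · intro hmem
    have h := (Cfsg.Agent.Lib.helper49.spinor_criterion h2 Q _ [u, w] hvs hval).mp hmem
    apply hns
    simpa using h.2

/-- **(A)**: an element of `SO ∖ Ω` commuting with `g` -/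
theorem graph_invol_centralizer (hodd : Odd (Fintype.card F)) (Q : QuadraticForm F (ι → F))
    (hQ : (QuadraticMap.polarBilin Q).Nondegenerate)
    (fr : HypFrame3 Q) (m : ℕ) (hcard : Fintype.card ι = 2 * m) (h5 : 5 ≤ Fintype.card ι)
    (g : ↥(Geo.quadSimilarityGroup (F := F) ⇑Q))
    (hδ : deltaHom ⇑Q _ fr.Q_x1_ne g ≠ 1) (hgg : PsiAut ⇑Q g * PsiAut ⇑Q g = 1) :
    ∃ c : ↥(isometryGroup F ⇑Q), detHom ⇑Q c = 1 ∧ c ∉ Omega F ⇑Q ∧
      ((c : GL ι F) : Matrix ι ι F) * ((g : GL ι F) : Matrix ι ι F)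
        = ((g : GL ι F) : Matrix ι ι F) * ((c : GL ι F) : Matrix ι ι F) := by
  have h2 := two_ne_zero_of_odd_card hodd
  obtain ⟨a, ha⟩ := scalar_of_PsiAut_eq_one Q hQ fr h5 (g * g) (by rw [map_mul]; exact hgg)
  rw [Subgroup.coe_mul, Units.val_mul] at ha
  have hG := mult_spec ⇑Q g
  have hμ0 : ((mult ⇑Q g : Fˣ) : F) ≠ 0 := Units.ne_zero _
  obtain ⟨G, hGdef⟩ : ∃ G : Matrix ι ι F, G = ((g : GL ι F) : Matrix ι ι F) := ⟨_, rfl⟩
  obtain ⟨μ, hμdef⟩ : ∃ μ : F, μ = ((mult ⇑Q g : Fˣ) : F) := ⟨_, rfl⟩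
  rcases sq_scalar_eq_or_neg Q _ _ a hG ha _ fr.Q_x1_ne with rfl | rfl
  swap
  · exact absurd (deltaHom_eq_one_of_sq_neg Q hQ _ fr.Q_x1_ne g m hcard ha) hδ
  rw [← hGdef] at ha hG ⊢
  rw [← hμdef] at ha hG hμ0
  by_cases hsq : IsSquare μ
  · obtain ⟨ν, hν⟩ := hsq
    have hν0 : ν ≠ 0 := by
      rintro rfl
      rw [mul_zero] at hν
      exact hμ0 hν
    have hEE : (ν⁻¹ • G) * (ν⁻¹ • G) = 1 := by
      rw [Matrix.smul_mul, Matrix.mul_smul, ha, smul_smul, smul_smul, hν]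
      have : ν⁻¹ * ν⁻¹ * (ν * ν) = 1 := by field_simp
      rw [this, one_smul]
    have hE : ∀ v, Q ((ν⁻¹ • G) *ᵥ v) = Q v := by
      intro v
      rw [Matrix.smul_mulVec, QuadraticMap.map_smul, hG, hν, smul_eq_mul]
      field_simp
    obtain ⟨u, w, hu, hw, hns, hcase⟩ := exists_eigen_pair h2 Q hQ _ hEE hE (by omega)
    obtain ⟨c, hc1, hc2, hcval⟩ := exists_refl_pair h2 Q u w hu hw hns
    refine ⟨c, hc1, hc2, ?_⟩
    have hru : (ν⁻¹ • G) * reflectionMatrix ⇑Q u = reflectionMatrix ⇑Q u * (ν⁻¹ • G) := by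
      have h := refl_conj_similarity Q (ν⁻¹ • G) 1 one_ne_zero (by simpa using hE) u
      rcases hcase with ⟨h1, -⟩ | ⟨h1, -⟩
      · rw [h1] at h
        exact h
      · rw [h1, ← neg_one_smul F u,
          Cfsg.Agent.Lib.helper49.refl_smul Q u (-1) (neg_ne_zero.mpr one_ne_zero)] at h
        exact h
    have hrw : (ν⁻¹ • G) * reflectionMatrix ⇑Q w = reflectionMatrix ⇑Q w * (ν⁻¹ • G) := by
      have h := refl_conj_similarity Q (ν⁻¹ • G) 1 one_ne_zero (by simpa using hE) w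
      rcases hcase with ⟨-, h1⟩ | ⟨-, h1⟩
      · rw [h1] at h
        exact h
      · rw [h1, ← neg_one_smul F w,
          Cfsg.Agent.Lib.helper49.refl_smul Q w (-1) (neg_ne_zero.mpr one_ne_zero)] at h
        exact h
    have hGE : G = ν • (ν⁻¹ • G) := by
      rw [smul_smul, mul_inv_cancel₀ hν0, one_smul]
    have hcomm : (ν⁻¹ • G) * (reflectionMatrix ⇑Q u * reflectionMatrix ⇑Q w)
        = (reflectionMatrix ⇑Q u * reflectionMatrix ⇑Q w) * (ν⁻¹ • G) := by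
      rw [← Matrix.mul_assoc, hru, Matrix.mul_assoc, hrw, Matrix.mul_assoc]
    rw [hcval, hGE, Matrix.mul_smul, Matrix.smul_mul, hcomm]
  · obtain ⟨u, hu, hperp⟩ := exists_perp_image hodd Q hQ G μ hsq hG ha (by omega)
    have hGu : Q (G *ᵥ u) ≠ 0 := by
      rw [hG]
      exact mul_ne_zero hμ0 hu
    have hns : ¬ IsSquare (Q u * Q (G *ᵥ u)) := by
      rw [hG]
      rintro ⟨s, hs⟩
      apply hsq
      refine ⟨s / Q u, ?_⟩
      field_simp
      linear_combination hs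
    obtain ⟨c, hc1, hc2, hcval⟩ := exists_refl_pair h2 Q u (G *ᵥ u) hu hGu hns
    refine ⟨c, hc1, hc2, ?_⟩
    have h1 := refl_conj_similarity Q G μ hμ0 hG u
    have h2' := refl_conj_similarity Q G μ hμ0 hG (G *ᵥ u)
    have hGGu : G *ᵥ (G *ᵥ u) = μ • u := by
      rw [Matrix.mulVec_mulVec, ha, Matrix.smul_mulVec, Matrix.one_mulVec]
    rw [hGGu, Cfsg.Agent.Lib.helper49.refl_smul Q u μ hμ0] at h2'
    have h3 := refl_conj_similarity Q (reflectionMatrix ⇑Q u) 1 one_ne_zero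
      (by intro x; rw [one_mul]; exact reflectionMatrix_preserves Q u hu x) (G *ᵥ u)
    have hfix : reflectionMatrix ⇑Q u *ᵥ (G *ᵥ u) = G *ᵥ u := by
      rw [Cfsg.Agent.Lib.helper49.refl_mulVec, hperp, mul_zero, zero_smul, sub_zero]
    rw [hfix] at h3
    rw [hcval]
    calc reflectionMatrix ⇑Q u * reflectionMatrix ⇑Q (G *ᵥ u) * G
        = reflectionMatrix ⇑Q (G *ᵥ u) * (reflectionMatrix ⇑Q u * G) := by
          rw [h3, Matrix.mul_assoc]
      _ = reflectionMatrix ⇑Q (G *ᵥ u) * (G * reflectionMatrix ⇑Q (G *ᵥ u)) := by rw [h2']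
      _ = G * (reflectionMatrix ⇑Q u * reflectionMatrix ⇑Q (G *ᵥ u)) := by
          rw [← Matrix.mul_assoc, ← h1, Matrix.mul_assoc]

/-- **(B')**: for `m` even, a similarity commuting with `γ` modulo scalars has square multiplier -/
theorem graph_invol_centralizer_sq (hodd : Odd (Fintype.card F)) (Q : QuadraticForm F (ι → F))
    (hQ : (QuadraticMap.polarBilin Q).Nondegenerate) (hgen : reflSubgroup Q = ⊤)
    (fr : HypFrame3 Q) (m : ℕ) (hcard : Fintype.card ι = 2 * m) (h5 : 5 ≤ Fintype.card ι)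
    (hmeven : Even m)
    (hneg : ∃ w : ↥(Omega F ⇑Q), (((w : ↥(isometryGroup F ⇑Q)) : GL ι F) : Matrix ι ι F) = -1)
    (g : ↥(Geo.quadSimilarityGroup (F := F) ⇑Q))
    (hδ : deltaHom ⇑Q _ fr.Q_x1_ne g ≠ 1) (hgg : PsiAut ⇑Q g * PsiAut ⇑Q g = 1)
    (h : ↥(Geo.quadSimilarityGroup (F := F) ⇑Q))
    (hcomm : PsiAut ⇑Q h * PsiAut ⇑Q g = PsiAut ⇑Q g * PsiAut ⇑Q h) :
    IsSquare ((mult ⇑Q h : Fˣ) : F) := by
  have h2 := two_ne_zero_of_odd_card hodd
  have heven : Even (Fintype.card ι) := ⟨m, by omega⟩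
  obtain ⟨a, ha⟩ := scalar_of_PsiAut_eq_one Q hQ fr h5 (g * g) (by rw [map_mul]; exact hgg)
  rw [Subgroup.coe_mul, Units.val_mul] at ha
  have hG := mult_spec ⇑Q g
  have hμ0 : ((mult ⇑Q g : Fˣ) : F) ≠ 0 := Units.ne_zero _
  have hδ' : deltaHom ⇑Q _ fr.Q_x1_ne g = -1 :=
    (deltaHom_cases Q hQ heven _ fr.Q_x1_ne g).resolve_left hδ
  rcases sq_scalar_eq_or_neg Q _ _ a hG ha _ fr.Q_x1_ne with rfl | rfl
  swap
  · exact absurd (deltaHom_eq_one_of_sq_neg Q hQ _ fr.Q_x1_ne g m hcard ha) hδ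
  by_cases hsq : IsSquare ((mult ⇑Q g : Fˣ) : F)
  swap
  · exact absurd (deltaHom_eq_one_of_sq_nonsquare Q _ fr.Q_x1_ne g m hcard hmeven hsq ha) hδ
  obtain ⟨ν, hν⟩ := hsq
  have hν0 : ν ≠ 0 := by
    rintro rfl
    rw [mul_zero] at hν
    exact hμ0 hν
  obtain ⟨G, hGdef⟩ : ∃ G : Matrix ι ι F, G = ((g : GL ι F) : Matrix ι ι F) := ⟨_, rfl⟩
  rw [← hGdef] at ha hG
  have hEE : (ν⁻¹ • G) * (ν⁻¹ • G) = 1 := by
    rw [Matrix.smul_mul, Matrix.mul_smul, ha, smul_smul, smul_smul, hν]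
    have : ν⁻¹ * ν⁻¹ * (ν * ν) = 1 := by field_simp
    rw [this, one_smul]
  have hE : ∀ v, Q ((ν⁻¹ • G) *ᵥ v) = Q v := by
    intro v
    rw [Matrix.smul_mulVec, QuadraticMap.map_smul, hG, hν, smul_eq_mul]
    field_simp
  obtain ⟨e, hedef⟩ : ∃ e : ↥(isometryGroup F ⇑Q),
      ((e : GL ι F) : Matrix ι ι F) = ν⁻¹ • G :=
    ⟨⟨⟨ν⁻¹ • G, ν⁻¹ • G, hEE, hEE⟩, (mem_isometryGroup_iff _ _).mpr hE⟩, rfl⟩
  -- the determinant of `e`
  have hdet : detHom ⇑Q e = -1 := by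
    apply Units.ext
    have h1 := congrArg (fun u : Fˣ => (u : F)) hδ'
    simp only [deltaHom_apply, Units.val_mul, Matrix.GeneralLinearGroup.val_det_apply,
      Units.val_pow_eq_pow_val, Units.val_inv_eq_inv_val, Units.val_neg, Units.val_one] at h1
    rw [hcard, Nat.mul_div_cancel_left m (by norm_num : 0 < 2), ← hGdef, hν] at h1
    rw [Cfsg.Agent.Lib.helper49.detHom, MonoidHom.comp_apply, Matrix.GeneralLinearGroup.val_det_apply]
    simp only [Subgroup.coe_subtype, Units.val_neg, Units.val_one]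
    rw [hedef, Matrix.det_smul, hcard, ← h1, pow_mul]
    field_simp
  -- the commutation relation
  obtain ⟨b, hb⟩ := scalar_of_PsiAut_eq_one Q hQ fr h5 (h * g * h⁻¹ * g⁻¹) (by
    rw [map_mul, map_mul, map_mul, map_inv, map_inv, hcomm]
    group)
  obtain ⟨H, hHdef⟩ : ∃ H : GL ι F, H = (h : GL ι F) := ⟨_, rfl⟩
  have hHG : (H : Matrix ι ι F) * G = b • (G * (H : Matrix ι ι F)) := by
    have h1 : (h : GL ι F) * (g : GL ι F)
        = ((h * g * h⁻¹ * g⁻¹ : ↥(Geo.quadSimilarityGroup (F := F) ⇑Q)) : GL ι F)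
          * ((g : GL ι F) * (h : GL ι F)) := by
      simp only [Subgroup.coe_mul, Subgroup.coe_inv]
      group
    have h3 := congrArg (fun x : GL ι F => (x : Matrix ι ι F)) h1
    simp only [Units.val_mul] at h3
    rw [hb, Matrix.smul_mul, Matrix.one_mul, ← hGdef, ← hHdef] at h3
    exact h3
  have hHE : (H : Matrix ι ι F) * (ν⁻¹ • G) = b • ((ν⁻¹ • G) * (H : Matrix ι ι F)) := by
    rw [Matrix.mul_smul, hHG, Matrix.smul_mul, smul_comm]
  have hb2 : b * b = 1 := by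
    have h1 : (H : Matrix ι ι F) = (b * b) • (H : Matrix ι ι F) := by
      obtain ⟨E, hEdef⟩ : ∃ E : Matrix ι ι F, E = ν⁻¹ • G := ⟨_, rfl⟩
      obtain ⟨H', hH'def⟩ : ∃ H' : Matrix ι ι F, H' = (H : Matrix ι ι F) := ⟨_, rfl⟩
      rw [← hEdef] at hEE hHE
      rw [← hH'def] at hHE ⊢
      have hstep : E * (H' * E) = b • (E * E * H') := by
        rw [hHE, Matrix.mul_smul, Matrix.mul_assoc]
      calc H' = H' * (E * E) := by
            rw [hEE, Matrix.mul_one]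
        _ = (H' * E) * E := by rw [Matrix.mul_assoc]
        _ = (b • (E * H')) * E := by rw [hHE]
        _ = b • (E * (H' * E)) := by
            rw [Matrix.smul_mul, Matrix.mul_assoc]
        _ = (b * b) • ((E * E) * H') := by
            rw [hstep, smul_smul]
        _ = (b * b) • H' := by rw [hEE, Matrix.one_mul]
    by_contra hne
    have h3 : (b * b - 1) • (H : Matrix ι ι F) = 0 := by
      rw [sub_smul, one_smul, ← h1, sub_self]
    have h4 : (H : Matrix ι ι F) = 0 := by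
      rcases smul_eq_zero.mp h3 with h5' | h5'
      · exact absurd (sub_eq_zero.mp h5') hne
      · exact h5'
    have h5' : (H : Matrix ι ι F) * ((H⁻¹ : GL ι F) : Matrix ι ι F) = 1 := by
      rw [← Units.val_mul, mul_inv_cancel, Units.val_one]
    rw [h4, Matrix.zero_mul] at h5'
    obtain ⟨i⟩ : Nonempty ι := Fintype.card_pos_iff.mp (by omega)
    have := congrFun (congrFun h5' i) i
    simp at this
  have hb' : b = 1 ∨ b = -1 := by
    have : (b - 1) * (b + 1) = 0 := by linear_combination hb2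
    rcases mul_eq_zero.mp this with h | h
    · exact Or.inl (sub_eq_zero.mp h)
    · exact Or.inr (eq_neg_of_add_eq_zero_left h)
  have hHsim : ∀ v, Q ((H : Matrix ι ι F) *ᵥ v) = ((mult ⇑Q h : Fˣ) : F) * Q v := by
    rw [hHdef]
    exact mult_spec ⇑Q h
  apply isSquare_mult_of_comm_pm h2 Q hQ hgen e hdet H _ (Units.ne_zero _) hHsim
  rw [hedef]
  rcases hb' with rfl | rfl
  · left
    rw [hHE, one_smul]
  · right
    refine ⟨?_, hneg⟩
    rw [hHE, neg_one_smul]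

theorem zmod_four_aux : ∀ z w : Multiplicative (ZMod 4), w ≠ 1 → w * w = 1 → z * z = 1 →
    z = 1 ∨ z * w⁻¹ = 1 := by
  decide

theorem dihedral_four_aux : ∀ d t : DihedralGroup 4, d * d ≠ 1 → d * t = t * d → t * t = 1 →
    t = 1 ∨ t = d * d := by
  decide

/-- **the class of a graph involution splits into two** (`-1 ∈ Ω(Q)`) -/
theorem splitCount_graph_two (hodd : Odd (Fintype.card F)) (Q : QuadraticForm F (ι → F))
    (hQ : (QuadraticMap.polarBilin Q).Nondegenerate) (hgen : reflSubgroup Q = ⊤)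
    (fr : HypFrame3 Q) (m : ℕ) (hcard : Fintype.card ι = 2 * m) (h5 : 5 ≤ Fintype.card ι)
    (hneg : ∃ w : ↥(Omega F ⇑Q), (((w : ↥(isometryGroup F ⇑Q)) : GL ι F) : Matrix ι ι F) = -1)
    (s₀ : ↥(Geo.quadSimilarityGroup (F := F) ⇑Q))
    (hs₀δ : deltaHom ⇑Q _ fr.Q_x1_ne s₀ = 1) (hs₀ : ¬ IsSquare ((mult ⇑Q s₀ : Fˣ) : F))
    (hZ4 : ¬ Even m → ∃ φ : ↥(inndiagGen ⇑Q _ fr.Q_x1_ne) →* Multiplicative (ZMod 4),
      Function.Surjective φ ∧
        φ.ker = (Inn (POmega F ⇑Q)).subgroupOf (inndiagGen ⇑Q _ fr.Q_x1_ne))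
    (hD8 : ¬ Even m → ∃ φ : ↥(pgoAut F ⇑Q) →* DihedralGroup 4,
      Function.Surjective φ ∧ φ.ker = (Inn (POmega F ⇑Q)).subgroupOf (pgoAut F ⇑Q))
    (g : ↥(Geo.quadSimilarityGroup (F := F) ⇑Q))
    (hδ : deltaHom ⇑Q _ fr.Q_x1_ne g ≠ 1) (hgg : PsiAut ⇑Q g * PsiAut ⇑Q g = 1) :
    splitClassCount (inndiagGen ⇑Q _ fr.Q_x1_ne) (Inn (POmega F ⇑Q)) (PsiAut ⇑Q g) = 2 := by
  have h2 := two_ne_zero_of_odd_card hodd
  have heven : Even (Fintype.card ι) := ⟨m, by omega⟩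
  obtain ⟨φ₁, hφ₁val, hφ₁ker, -⟩ := exists_phiOne h2 Q hQ fr h5 heven s₀ hs₀δ hs₀
  have hPH : psoAut F ⇑Q ≤ inndiagGen ⇑Q _ fr.Q_x1_ne :=
    psoAut_le_inndiagGen h2 Q hQ heven _ fr.Q_x1_ne
  have hKP : Inn (POmega F ⇑Q) ≤ psoAut F ⇑Q := Inn_le_psoAut _
  have hmemP : ∀ x : ↥(inndiagGen ⇑Q _ fr.Q_x1_ne),
      (x : MulAut (POmega F ⇑Q)) ∈ psoAut F ⇑Q ↔ φ₁ x = 1 := by
    intro x
    rw [← MonoidHom.mem_ker, hφ₁ker, Subgroup.mem_subgroupOf]
  have hs₀H : PsiAut ⇑Q s₀ ∈ inndiagGen ⇑Q _ fr.Q_x1_ne :=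
    Subgroup.mem_map_of_mem _ (MonoidHom.mem_ker.mpr hs₀δ)
  have hφs₀ : φ₁ ⟨PsiAut ⇑Q s₀, hs₀H⟩ = -1 := by
    rw [hφ₁val s₀ (MonoidHom.mem_ker.mpr hs₀δ)]
    have hne : chiOne ⇑Q _ fr.Q_x1_ne s₀ ≠ 1 := by
      rw [Ne, chiOne_eq_one_iff]
      exact hs₀
    exact (Int.units_eq_one_or _).resolve_left hne
  -- the centralizing element
  obtain ⟨c, hcdet, hcΩ, hccomm⟩ := graph_invol_centralizer hodd Q hQ fr m hcard h5 g hδ hgg
  have hc₀P : PsiO ⇑Q c ∈ psoAut F ⇑Q := by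
    rw [psoAut_eq, mem_img]
    exact ⟨Subgroup.inclusion (isometryGroup_le_similarity ⇑Q) c,
      ⟨c.2, MonoidHom.mem_ker.mpr hcdet⟩, rfl⟩
  have hc₀K : PsiO ⇑Q c ∉ Inn (POmega F ⇑Q) := by
    rw [PsiO_mem_Inn_iff_mem_Omega Q hQ fr h5 hneg c]
    exact hcΩ
  have hc₀comm : PsiO ⇑Q c * PsiAut ⇑Q g = PsiAut ⇑Q g * PsiO ⇑Q c := by
    unfold PsiO
    rw [MonoidHom.comp_apply, ← map_mul, ← map_mul]
    congr 1
    apply Subtype.ext
    apply Units.ext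
    simp only [Subgroup.coe_mul, Units.val_mul]
    exact hccomm
  have hidx : ((Inn (POmega F ⇑Q)).subgroupOf (psoAut F ⇑Q)).index = 2 :=
    relIndex_Inn_psoAut_two h2 Q hQ fr h5 hneg
  have hγH : PsiAut ⇑Q g ∉ inndiagGen ⇑Q _ fr.Q_x1_ne := by
    intro hmem
    obtain ⟨g', hg', hgg'⟩ := Subgroup.mem_map.mp hmem
    have h1 := chiPair_of_PsiAut_eq_one h2 Q hQ fr h5 heven (g'⁻¹ * g) (by
      rw [map_mul, map_inv, hgg', inv_mul_cancel])
    rw [chiPair_eq_one_iff] at h1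
    have h3 := h1.2
    rw [map_mul, map_inv, MonoidHom.mem_ker.mp hg', inv_one, one_mul] at h3
    exact hδ h3
  refine splitClassCount_eq_two_of (inndiagGen ⇑Q _ fr.Q_x1_ne) (Inn (POmega F ⇑Q))
    (psoAut F ⇑Q) (PsiAut ⇑Q g) (PsiAut ⇑Q s₀) hKP (hKP.trans hPH) hs₀H ?_ ?_ ?_ ?_
  · intro h
    have h1 := (hmemP ⟨_, hs₀H⟩).mp h
    rw [hφs₀] at h1
    exact absurd h1 (by decide)
  · intro h hh
    rcases Int.units_eq_one_or (φ₁ ⟨h, hh⟩) with h1 | h1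
    · exact Or.inl ((hmemP ⟨h, hh⟩).mpr h1)
    · right
      have h3 : φ₁ ((⟨PsiAut ⇑Q s₀, hs₀H⟩ : ↥(inndiagGen ⇑Q _ fr.Q_x1_ne))⁻¹ * ⟨h, hh⟩) = 1 := by
        rw [map_mul, map_inv, hφs₀, h1]
        decide
      exact (hmemP _).mpr h3
  · intro h hh hcomm
    obtain ⟨h₀, hh₀, rfl⟩ := Subgroup.mem_map.mp hh
    by_cases hmeven : Even m
    · have hsq := graph_invol_centralizer_sq hodd Q hQ hgen fr m hcard h5 hmeven hneg g hδ hgg
        h₀ hcomm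
      apply (hmemP ⟨_, hh⟩).mpr
      rw [hφ₁val h₀ hh₀, chiOne_eq_one_iff]
      exact hsq
    · by_contra hP
      obtain ⟨φZ, -, hZker⟩ := hZ4 hmeven
      obtain ⟨φD, -, hDker⟩ := hD8 hmeven
      have hZ : ∀ x : ↥(inndiagGen ⇑Q _ fr.Q_x1_ne),
          φZ x = 1 ↔ (x : MulAut (POmega F ⇑Q)) ∈ Inn (POmega F ⇑Q) := by
        intro x
        rw [← MonoidHom.mem_ker, hZker, Subgroup.mem_subgroupOf]
      have hD : ∀ x : ↥(Geo.quadSimilarityGroup (F := F) ⇑Q),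
          φD (PsiPgo ⇑Q x) = 1 ↔ PsiAut ⇑Q x ∈ Inn (POmega F ⇑Q) := by
        intro x
        rw [← MonoidHom.mem_ker, hDker, Subgroup.mem_subgroupOf, PsiPgo_val]
      have hc₀H : PsiO ⇑Q c ∈ inndiagGen ⇑Q _ fr.Q_x1_ne := hPH hc₀P
      have hw1 : φZ ⟨PsiO ⇑Q c, hc₀H⟩ ≠ 1 := fun h => hc₀K ((hZ _).mp h)
      have hw2 : φZ ⟨PsiO ⇑Q c, hc₀H⟩ * φZ ⟨PsiO ⇑Q c, hc₀H⟩ = 1 := by
        rw [← map_mul, hZ]
        have := Subgroup.mul_self_mem_of_index_two hidx ⟨PsiO ⇑Q c, hc₀P⟩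
        exact Subgroup.mem_subgroupOf.mp this
      have hz := zmod_four_aux (φZ ⟨PsiAut ⇑Q h₀, hh⟩) (φZ ⟨PsiO ⇑Q c, hc₀H⟩) hw1 hw2
      have hzz : φZ ⟨PsiAut ⇑Q h₀, hh⟩ * φZ ⟨PsiAut ⇑Q h₀, hh⟩ ≠ 1 := by
        intro h1
        rcases hz h1 with h3 | h3
        · exact hP (hKP ((hZ _).mp h3))
        · rw [← map_inv, ← map_mul, hZ] at h3
          have h4 := (psoAut F ⇑Q).mul_mem (hKP h3) hc₀P
          simp only [Subgroup.coe_mul, Subgroup.coe_inv, inv_mul_cancel_right] at h4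
          exact hP h4
      have hsq : PsiAut ⇑Q (h₀ * h₀) ∉ Inn (POmega F ⇑Q) := by
        intro h1
        apply hzz
        rw [← map_mul, hZ]
        rw [map_mul] at h1
        exact h1
      have hd : φD (PsiPgo ⇑Q h₀) * φD (PsiPgo ⇑Q h₀) ≠ 1 := by
        rw [← map_mul, ← map_mul, Ne, hD]
        exact hsq
      have hdt : φD (PsiPgo ⇑Q h₀) * φD (PsiPgo ⇑Q g) = φD (PsiPgo ⇑Q g) * φD (PsiPgo ⇑Q h₀) := by
        have h1 : PsiPgo ⇑Q h₀ * PsiPgo ⇑Q g = PsiPgo ⇑Q g * PsiPgo ⇑Q h₀ := Subtype.ext hcomm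
        rw [← map_mul, h1, map_mul]
      have htt : φD (PsiPgo ⇑Q g) * φD (PsiPgo ⇑Q g) = 1 := by
        rw [← map_mul, ← map_mul, hD, map_mul, hgg]
        exact Subgroup.one_mem _
      rcases dihedral_four_aux _ _ hd hdt htt with h1 | h1
      · exact hγH (hPH (hKP ((hD g).mp h1)))
      · have h3 : φD (PsiPgo ⇑Q ((h₀ * h₀)⁻¹ * g)) = 1 := by
          simp only [map_mul, map_inv]
          rw [h1, inv_mul_cancel]
        have h4 := (hD _).mp h3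
        have h6 := (inndiagGen ⇑Q _ fr.Q_x1_ne).mul_mem
          ((inndiagGen ⇑Q _ fr.Q_x1_ne).mul_mem hh hh) (hPH (hKP h4))
        rw [map_mul, map_inv, map_mul, mul_inv_cancel_left] at h6
        exact hγH h6
  · intro p hp
    by_cases hpK : p ∈ Inn (POmega F ⇑Q)
    · exact ⟨p, hpK, 1, by rw [one_mul, mul_one], by rw [mul_one]⟩
    · refine ⟨p * (PsiO ⇑Q c)⁻¹, ?_, PsiO ⇑Q c, hc₀comm, by rw [inv_mul_cancel_right]⟩
      have h1 := (Subgroup.mul_mem_iff_of_index_two hidx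
        (a := ⟨p, hp⟩) (b := (⟨PsiO ⇑Q c, hc₀P⟩ : ↥(psoAut F ⇑Q))⁻¹)).mpr (by
          rw [Subgroup.mem_subgroupOf, inv_mem_iff, Subgroup.mem_subgroupOf]
          exact ⟨fun h => absurd h hpK, fun h => absurd h hc₀K⟩)
      exact Subgroup.mem_subgroupOf.mp h1

end

end Cfsg.Agent.Lib.helper42
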