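import Cfsg.Agent.Lib.helper42.GraphInvE

/-!
Graph involutions of `PΩ(Q)` when `-1 ∉ Ω(Q)` and the dimension is `2n` with `n` even: the class under the
inner-diagonal group splits into two classes under the inner automorphisms.
-/

set_option autoImplicit false
set_option linter.unusedSectionVars false

namespace Cfsg.Agent.Lib.helper42

open Matrix Cfsg Cfsg.Agent.Lib.helper17 Module
open Cfsg.Agent.Lib.helper49 (detHom spinorSign reflG' reflG)

universe u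

section
variable {ι : Type} [Fintype ι] [DecidableEq ι] {F : Type u} [Field F] [Fintype F]

/-- an isometric involution of determinant `-1` in dimension `2n`, `n` even, does not anticommute with an
invertible matrix -/
theorem anticomm_false (h2 : (2 : F) ≠ 0) (Q : QuadraticForm F (ι → F))
    (hQ : (QuadraticMap.polarBilin Q).Nondegenerate) (hgen : reflSubgroup Q = ⊤)
    (n : ℕ) (hcard : Fintype.card ι = 2 * n) (hneven : Even n)
    (e : ↥(isometryGroup F ⇑Q)) (hdet : detHom ⇑Q e = -1)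
    (hEE : ((e : GL ι F) : Matrix ι ι F) * ((e : GL ι F) : Matrix ι ι F) = 1)
    (H : GL ι F) (hHE : (H : Matrix ι ι F) * ((e : GL ι F) : Matrix ι ι F)
        = -(((e : GL ι F) : Matrix ι ι F) * (H : Matrix ι ι F))) : False := by
  have hdetE := det_eq_neg_one_pow_rank Q hQ hgen e
  have hdet' : (((e : GL ι F) : Matrix ι ι F)).det = -1 := by
    have h3 := congrArg (fun u : Fˣ => (u : F)) hdet
    simp only [Units.val_neg, Units.val_one] at h3
    rw [Cfsg.Agent.Lib.helper49.detHom, MonoidHom.comp_apply,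
      Matrix.GeneralLinearGroup.val_det_apply] at h3
    simpa using h3
  obtain ⟨E, hEdef⟩ : ∃ E : Matrix ι ι F, E = ((e : GL ι F) : Matrix ι ι F) := ⟨_, rfl⟩
  rw [← hEdef] at hEE hHE hdetE hdet'
  have hHdet : IsUnit (H : Matrix ι ι F).det :=
    (Matrix.isUnit_iff_isUnit_det _).mp ⟨H, rfl⟩
  have hnegdet : IsUnit (-1 : Matrix ι ι F).det :=
    (Matrix.isUnit_iff_isUnit_det _).mp (isUnit_one.neg)
  have h1 : (H : Matrix ι ι F) * (E - 1) = (-(E + 1)) * (H : Matrix ι ι F) := by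
    rw [Matrix.mul_sub, Matrix.mul_one, hHE, Matrix.neg_mul, Matrix.add_mul, Matrix.one_mul]
    abel
  have hr : (E - 1).rank = (E + 1).rank := by
    have a := Matrix.rank_mul_eq_right_of_isUnit_det (H : Matrix ι ι F) (E - 1) hHdet
    have b := Matrix.rank_mul_eq_left_of_isUnit_det (H : Matrix ι ι F) (-(E + 1)) hHdet
    have c := Matrix.rank_mul_eq_left_of_isUnit_det (-1 : Matrix ι ι F) (E + 1) hnegdet
    rw [Matrix.mul_neg, Matrix.mul_one] at c
    rw [h1, b, c] at a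
    exact a.symm
  have hle : (E - 1).rank + (E + 1).rank ≤ Fintype.card ι := by
    apply Matrix.rank_add_rank_le_card_of_mul_eq_zero
    rw [Matrix.sub_mul, Matrix.mul_add, Matrix.mul_one, Matrix.one_mul, hEE]
    abel
  have hge : Fintype.card ι ≤ (E + 1).rank + (E - 1).rank := by
    have h4 : ((2 : F)⁻¹ • (1 : Matrix ι ι F)) * (E + 1) + ((-(2 : F)⁻¹) • (1 : Matrix ι ι F)) * (E - 1)
        = 1 := by
      rw [Matrix.smul_mul, Matrix.smul_mul, Matrix.one_mul, Matrix.one_mul]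
      ext i j
      simp only [Matrix.add_apply, Matrix.smul_apply, Matrix.sub_apply, smul_eq_mul]
      field_simp
      ring
    have h6 := matrix_rank_add_le (((2 : F)⁻¹ • (1 : Matrix ι ι F)) * (E + 1))
      (((-(2 : F)⁻¹) • (1 : Matrix ι ι F)) * (E - 1))
    rw [h4, Matrix.rank_one] at h6
    have h7 := Matrix.rank_mul_le_right ((2 : F)⁻¹ • (1 : Matrix ι ι F)) (E + 1)
    have h8 := Matrix.rank_mul_le_right ((-(2 : F)⁻¹) • (1 : Matrix ι ι F)) (E - 1)
    omega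
  have hrank : (E - 1).rank = n := by omega
  rw [hrank, hneven.neg_one_pow] at hdetE
  rw [hdetE] at hdet'
  apply h2
  linear_combination hdet'

/-- **(B'')**: for `m` even, a similarity commuting with `γ` modulo scalars has square multiplier (no
hypothesis on `-1`: the anticommuting case does not occur) -/
theorem graph_invol_centralizer_sq' (hodd : Odd (Fintype.card F)) (Q : QuadraticForm F (ι → F))
    (hQ : (QuadraticMap.polarBilin Q).Nondegenerate) (hgen : reflSubgroup Q = ⊤)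
    (fr : HypFrame3 Q) (m : ℕ) (hcard : Fintype.card ι = 2 * m) (h5 : 5 ≤ Fintype.card ι)
    (hmeven : Even m)
    (g : ↥(Geo.quadSimilarityGroup (F := F) ⇑Q))
    (hδ : deltaHom ⇑Q _ fr.Q_x1_ne g ≠ 1) (hgg : PsiAut ⇑Q g * PsiAut ⇑Q g = 1)
    (h : ↥(Geo.quadSimilarityGroup (F := F) ⇑Q))
    (hcomm : PsiAut ⇑Q h * PsiAut ⇑Q g = PsiAut ⇑Q g * PsiAut ⇑Q h) :
    IsSquare ((mult ⇑Q h : Fˣ) : F) := by
  have h2 := two_ne_zero_of_odd_card hodd
  have heven : Even (Fintype.card ι) := ⟨m, by omega⟩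
  obtain ⟨a, ha⟩ := scalar_of_PsiAut_eq_one Q hQ fr h5 (g * g) (by rw [map_mul]; exact hgg)
  rw [Subgroup.coe_mul, Units.val_mul] at ha
  have hG := mult_spec ⇑Q g
  have hμ0 : ((mult ⇑Q g : Fˣ) : F) ≠ 0 := Units.ne_zero _
  have hδ' : deltaHom ⇑Q _ fr.Q_x1_ne g = -1 :=
    (deltaHom_cases Q hQ heven _ fr.Q_x1_ne g).resolve_left hδ
  rcases sq_scalar_eq_or_neg Q _ _ a hG ha _ fr.Q_x1_ne with rfl | rfl
  swap
  · exact absurd (deltaHom_eq_one_of_sq_neg Q hQ _ fr.Q_x1_ne g m hcard ha) hδ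
  by_cases hsq : IsSquare ((mult ⇑Q g : Fˣ) : F)
  swap
  · exact absurd (deltaHom_eq_one_of_sq_nonsquare Q _ fr.Q_x1_ne g m hcard hmeven hsq ha) hδ
  obtain ⟨ν, hν⟩ := hsq
  have hν0 : ν ≠ 0 := by
    rintro rfl
    rw [mul_zero] at hν
    exact hμ0 hν
  obtain ⟨G, hGdef⟩ : ∃ G : Matrix ι ι F, G = ((g : GL ι F) : Matrix ι ι F) := ⟨_, rfl⟩
  rw [← hGdef] at ha hG
  have hEE : (ν⁻¹ • G) * (ν⁻¹ • G) = 1 := by
    rw [Matrix.smul_mul, Matrix.mul_smul, ha, smul_smul, smul_smul, hν]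
    have : ν⁻¹ * ν⁻¹ * (ν * ν) = 1 := by field_simp
    rw [this, one_smul]
  have hE : ∀ v, Q ((ν⁻¹ • G) *ᵥ v) = Q v := by
    intro v
    rw [Matrix.smul_mulVec, QuadraticMap.map_smul, hG, hν, smul_eq_mul]
    field_simp
  obtain ⟨e, hedef⟩ : ∃ e : ↥(isometryGroup F ⇑Q),
      ((e : GL ι F) : Matrix ι ι F) = ν⁻¹ • G :=
    ⟨⟨⟨ν⁻¹ • G, ν⁻¹ • G, hEE, hEE⟩, (mem_isometryGroup_iff _ _).mpr hE⟩, rfl⟩
  -- the determinant of `e`
  have hdet : detHom ⇑Q e = -1 := by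
    apply Units.ext
    have h1 := congrArg (fun u : Fˣ => (u : F)) hδ'
    simp only [deltaHom_apply, Units.val_mul, Matrix.GeneralLinearGroup.val_det_apply,
      Units.val_pow_eq_pow_val, Units.val_inv_eq_inv_val, Units.val_neg, Units.val_one] at h1
    rw [hcard, Nat.mul_div_cancel_left m (by norm_num : 0 < 2), ← hGdef, hν] at h1
    rw [Cfsg.Agent.Lib.helper49.detHom, MonoidHom.comp_apply, Matrix.GeneralLinearGroup.val_det_apply]
    simp only [Subgroup.coe_subtype, Units.val_neg, Units.val_one]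
    rw [hedef, Matrix.det_smul, hcard, ← h1, pow_mul]
    field_simp
  -- the commutation relation
  obtain ⟨b, hb⟩ := scalar_of_PsiAut_eq_one Q hQ fr h5 (h * g * h⁻¹ * g⁻¹) (by
    rw [map_mul, map_mul, map_mul, map_inv, map_inv, hcomm]
    group)
  obtain ⟨H, hHdef⟩ : ∃ H : GL ι F, H = (h : GL ι F) := ⟨_, rfl⟩
  have hHG : (H : Matrix ι ι F) * G = b • (G * (H : Matrix ι ι F)) := by
    have h1 : (h : GL ι F) * (g : GL ι F)
        = ((h * g * h⁻¹ * g⁻¹ : ↥(Geo.quadSimilarityGroup (F := F) ⇑Q)) : GL ι F)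
          * ((g : GL ι F) * (h : GL ι F)) := by
      simp only [Subgroup.coe_mul, Subgroup.coe_inv]
      group
    have h3 := congrArg (fun x : GL ι F => (x : Matrix ι ι F)) h1
    simp only [Units.val_mul] at h3
    rw [hb, Matrix.smul_mul, Matrix.one_mul, ← hGdef, ← hHdef] at h3
    exact h3
  have hHE : (H : Matrix ι ι F) * (ν⁻¹ • G) = b • ((ν⁻¹ • G) * (H : Matrix ι ι F)) := by
    rw [Matrix.mul_smul, hHG, Matrix.smul_mul, smul_comm]
  have hb2 : b * b = 1 := by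
    have h1 : (H : Matrix ι ι F) = (b * b) • (H : Matrix ι ι F) := by
      obtain ⟨E, hEdef⟩ : ∃ E : Matrix ι ι F, E = ν⁻¹ • G := ⟨_, rfl⟩
      obtain ⟨H', hH'def⟩ : ∃ H' : Matrix ι ι F, H' = (H : Matrix ι ι F) := ⟨_, rfl⟩
      rw [← hEdef] at hEE hHE
      rw [← hH'def] at hHE ⊢
      have hstep : E * (H' * E) = b • (E * E * H') := by
        rw [hHE, Matrix.mul_smul, Matrix.mul_assoc]
      calc H' = H' * (E * E) := by
            rw [hEE, Matrix.mul_one]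
        _ = (H' * E) * E := by rw [Matrix.mul_assoc]
        _ = (b • (E * H')) * E := by rw [hHE]
        _ = b • (E * (H' * E)) := by
            rw [Matrix.smul_mul, Matrix.mul_assoc]
        _ = (b * b) • ((E * E) * H') := by
            rw [hstep, smul_smul]
        _ = (b * b) • H' := by rw [hEE, Matrix.one_mul]
    by_contra hne
    have h3 : (b * b - 1) • (H : Matrix ι ι F) = 0 := by
      rw [sub_smul, one_smul, ← h1, sub_self]
    have h4 : (H : Matrix ι ι F) = 0 := by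
      rcases smul_eq_zero.mp h3 with h5' | h5'
      · exact absurd (sub_eq_zero.mp h5') hne
      · exact h5'
    have h5' : (H : Matrix ι ι F) * ((H⁻¹ : GL ι F) : Matrix ι ι F) = 1 := by
      rw [← Units.val_mul, mul_inv_cancel, Units.val_one]
    rw [h4, Matrix.zero_mul] at h5'
    obtain ⟨i⟩ : Nonempty ι := Fintype.card_pos_iff.mp (by omega)
    have := congrFun (congrFun h5' i) i
    simp at this
  have hb' : b = 1 ∨ b = -1 := by
    have : (b - 1) * (b + 1) = 0 := by linear_combination hb2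
    rcases mul_eq_zero.mp this with h | h
    · exact Or.inl (sub_eq_zero.mp h)
    · exact Or.inr (eq_neg_of_add_eq_zero_left h)
  have hHsim : ∀ v, Q ((H : Matrix ι ι F) *ᵥ v) = ((mult ⇑Q h : Fˣ) : F) * Q v := by
    rw [hHdef]
    exact mult_spec ⇑Q h
  apply isSquare_mult_of_comm_pm h2 Q hQ hgen e hdet H _ (Units.ne_zero _) hHsim
  rw [hedef]
  rcases hb' with rfl | rfl
  · left
    rw [hHE, one_smul]
  · exfalso
    apply anticomm_false h2 Q hQ hgen m hcard hmeven e hdet (by rw [hedef]; exact hEE) H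
    rw [hedef, hHE, neg_one_smul]

/-- the class of a graph involution splits into two (`-1 ∉ Ω(Q)`, dimension `2m` with `m` even) -/
theorem splitCount_graph_two_of_even (hodd : Odd (Fintype.card F)) (Q : QuadraticForm F (ι → F))
    (hQ : (QuadraticMap.polarBilin Q).Nondegenerate) (hgen : reflSubgroup Q = ⊤)
    (fr : HypFrame3 Q) (m : ℕ) (hcard : Fintype.card ι = 2 * m) (h5 : 5 ≤ Fintype.card ι)
    (hmeven : Even m)
    (hneg : ¬ ∃ w : ↥(Omega F ⇑Q), (((w : ↥(isometryGroup F ⇑Q)) : GL ι F) : Matrix ι ι F) = -1)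
    (s₀ : ↥(Geo.quadSimilarityGroup (F := F) ⇑Q))
    (hs₀δ : deltaHom ⇑Q _ fr.Q_x1_ne s₀ = 1) (hs₀ : ¬ IsSquare ((mult ⇑Q s₀ : Fˣ) : F))
    (g : ↥(Geo.quadSimilarityGroup (F := F) ⇑Q))
    (hδ : deltaHom ⇑Q _ fr.Q_x1_ne g ≠ 1) (hgg : PsiAut ⇑Q g * PsiAut ⇑Q g = 1) :
    splitClassCount (inndiagGen ⇑Q _ fr.Q_x1_ne) (Inn (POmega F ⇑Q)) (PsiAut ⇑Q g) = 2 := by
  have h2 := two_ne_zero_of_odd_card hodd
  have heven : Even (Fintype.card ι) := ⟨m, by omega⟩
  obtain ⟨φ₁, hφ₁val, hφ₁ker, -⟩ := exists_phiOne h2 Q hQ fr h5 heven s₀ hs₀δ hs₀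
  have hPH : psoAut F ⇑Q ≤ inndiagGen ⇑Q _ fr.Q_x1_ne :=
    psoAut_le_inndiagGen h2 Q hQ heven _ fr.Q_x1_ne
  have hKP : Inn (POmega F ⇑Q) ≤ psoAut F ⇑Q := Inn_le_psoAut _
  have hPK : psoAut F ⇑Q ≤ Inn (POmega F ⇑Q) :=
    Subgroup.relIndex_eq_one.mp (relIndex_Inn_psoAut_one h2 Q hQ fr h5 heven hneg)
  have hmemP : ∀ x : ↥(inndiagGen ⇑Q _ fr.Q_x1_ne),
      (x : MulAut (POmega F ⇑Q)) ∈ psoAut F ⇑Q ↔ φ₁ x = 1 := by
    intro x
    rw [← MonoidHom.mem_ker, hφ₁ker, Subgroup.mem_subgroupOf]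
  have hs₀H : PsiAut ⇑Q s₀ ∈ inndiagGen ⇑Q _ fr.Q_x1_ne :=
    Subgroup.mem_map_of_mem _ (MonoidHom.mem_ker.mpr hs₀δ)
  have hφs₀ : φ₁ ⟨PsiAut ⇑Q s₀, hs₀H⟩ = -1 := by
    rw [hφ₁val s₀ (MonoidHom.mem_ker.mpr hs₀δ)]
    have hne : chiOne ⇑Q _ fr.Q_x1_ne s₀ ≠ 1 := by
      rw [Ne, chiOne_eq_one_iff]
      exact hs₀
    exact (Int.units_eq_one_or _).resolve_left hne
  refine splitClassCount_eq_two_of (inndiagGen ⇑Q _ fr.Q_x1_ne) (Inn (POmega F ⇑Q))
    (psoAut F ⇑Q) (PsiAut ⇑Q g) (PsiAut ⇑Q s₀) hKP (hKP.trans hPH) hs₀H ?_ ?_ ?_ ?_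
  · intro h
    have h1 := (hmemP ⟨_, hs₀H⟩).mp h
    rw [hφs₀] at h1
    exact absurd h1 (by decide)
  · intro h hh
    rcases Int.units_eq_one_or (φ₁ ⟨h, hh⟩) with h1 | h1
    · exact Or.inl ((hmemP ⟨h, hh⟩).mpr h1)
    · right
      have h3 : φ₁ ((⟨PsiAut ⇑Q s₀, hs₀H⟩ : ↥(inndiagGen ⇑Q _ fr.Q_x1_ne))⁻¹ * ⟨h, hh⟩) = 1 := by
        rw [map_mul, map_inv, hφs₀, h1]
        decide
      exact (hmemP _).mpr h3
  · intro h hh hcomm
    obtain ⟨h₀, hh₀, rfl⟩ := Subgroup.mem_map.mp hh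
    have hsq := graph_invol_centralizer_sq' hodd Q hQ hgen fr m hcard h5 hmeven g hδ hgg h₀ hcomm
    apply (hmemP ⟨_, hh⟩).mpr
    rw [hφ₁val h₀ hh₀, chiOne_eq_one_iff]
    exact hsq
  · intro p hp
    exact ⟨p, hPK hp, 1, by rw [one_mul, mul_one], by rw [mul_one]⟩

end

end Cfsg.Agent.Lib.helper42
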