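import Cfsg.Agent.Lib.helper42.TwoClassesSim
import Cfsg.Agent.Lib.helper42.AutImage4

/-!
The subgroup of `Aut(PΩ(Q))` induced by the similarities `g` with `det g = μ(g)^(n/2)` (the inner-diagonal
group for forms of plus type), and its quotient by `Inn(PΩ(Q))`: of order 2 if `-1 ∉ Ω(Q)`, of order 4
otherwise (odd `q`).
-/

set_option autoImplicit false
set_option linter.unusedSectionVars false

namespace Cfsg.Agent.Lib.helper42

open Matrix Cfsg Cfsg.Agent.Lib.helper17 Module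
open Cfsg.Agent.Lib.helper49 (detHom spinorSign)

theorem exists_hom_of_quotient_equiv {A : Type*} [Group A] (N : Subgroup A) [N.Normal] {T : Type*}
    [Group T] (e : A ⧸ N ≃* T) : ∃ φ : A →* T, Function.Surjective φ ∧ φ.ker = N := by
  refine ⟨e.toMonoidHom.comp (QuotientGroup.mk' N),
    e.surjective.comp (QuotientGroup.mk'_surjective N), ?_⟩
  ext β
  rw [MonoidHom.mem_ker, MonoidHom.comp_apply]
  show e (QuotientGroup.mk β) = 1 ↔ _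
  rw [MulEquiv.map_eq_one_iff, QuotientGroup.eq_one_iff]

/-- a group of order four is a Klein four group as soon as all elements of a subset `P` and one more
element `x` square to one, and every element outside `P` lies in `x P` -/
theorem isKleinFour_of_card_four {G : Type*} [Group G] (hcard : Nat.card G = 4) (x : G)
    (hx : x * x = 1) (P : G → Prop) (hP : ∀ z, P z → z * z = 1) (hPx : ∀ z, ¬ P z → P (x⁻¹ * z)) :
    IsKleinFour G := by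
  have hcomm := IsPGroup.commutative_of_card_eq_prime_sq (p := 2) (G := G) (by rw [hcard]; rfl)
  have hsqall : ∀ z : G, z * z = 1 := by
    intro z
    by_cases hz : P z
    · exact hP z hz
    · have hy := hP _ (hPx z hz)
      have hz' : z = x * (x⁻¹ * z) := by group
      rw [hz']
      generalize x⁻¹ * z = Y at hy
      calc x * Y * (x * Y) = x * (Y * x) * Y := by group
        _ = x * (x * Y) * Y := by rw [hcomm Y x]
        _ = (x * x) * (Y * Y) := by group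
        _ = 1 := by rw [hx, hy, one_mul]
  have hexp : Monoid.exponent G = 2 := by
    have h1 : Monoid.exponent G ∣ 2 :=
      Monoid.exponent_dvd_of_forall_pow_eq_one (fun z => by rw [pow_two]; exact hsqall z)
    rcases (Nat.dvd_prime Nat.prime_two).mp h1 with h | h
    · exfalso
      have hsub := Monoid.exp_eq_one_iff.mp h
      have : Nat.card G = 1 := Nat.card_unique
      omega
    · exact h
  exact ⟨hcard, hexp⟩

section
variable {ι : Type} [Fintype ι] [DecidableEq ι] {F : Type*} [Field F]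

theorem deltaHom_eq_one_iff (Q : (ι → F) → F) (x₁ : ι → F) (hx₁ : Q x₁ ≠ 0)
    (g : ↥(Geo.quadSimilarityGroup (F := F) Q)) :
    deltaHom Q x₁ hx₁ g = 1
      ↔ ((g : GL ι F) : Matrix ι ι F).det = ((mult Q g : Fˣ) : F) ^ (Fintype.card ι / 2) := by
  rw [deltaHom_apply, inv_pow, mul_inv_eq_one, Units.ext_iff,
    Matrix.GeneralLinearGroup.val_det_apply, Units.val_pow_eq_pow_val]

/-- the subgroup of `Aut(PΩ(Q))` induced by the similarities with `det g = μ(g)^(n/2)` -/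
noncomputable def inndiagGen (Q : (ι → F) → F) (x₁ : ι → F) (hx₁ : Q x₁ ≠ 0) :
    Subgroup (MulAut (POmega F Q)) :=
  (deltaHom Q x₁ hx₁).ker.map (PsiAut Q)

theorem autSubgroupOf_psc_eq (Q : (ι → F) → F) (x₁ : ι → F) (hx₁ : Q x₁ ≠ 0)
    (hpsc : ∀ g : ↥(Geo.quadSimilarityGroup (F := F) Q),
      PreservesSingularClasses Q ((g : GL ι F) : Matrix ι ι F) ↔ deltaHom Q x₁ hx₁ g = 1) :
    autSubgroupOf (fun β : POmega F Q ≃* POmega F Q =>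
      ∃ g : GL ι F, g ∈ Geo.quadSimilarityGroup (F := F) Q ∧
        PreservesSingularClasses Q (g : Matrix ι ι F) ∧
        IsInducedBySemilinearPOmega Q g (RingEquiv.refl F) β) = inndiagGen Q x₁ hx₁ := by
  unfold autSubgroupOf
  have : {β : MulAut (POmega F Q) |
      ∃ g : GL ι F, g ∈ Geo.quadSimilarityGroup (F := F) Q ∧
        PreservesSingularClasses Q (g : Matrix ι ι F) ∧
        IsInducedBySemilinearPOmega Q g (RingEquiv.refl F) β}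
        = (inndiagGen Q x₁ hx₁ : Set (MulAut (POmega F Q))) := by
    ext β
    unfold inndiagGen
    simp only [Set.mem_ofPred_eq, SetLike.mem_coe, Subgroup.mem_map, MonoidHom.mem_ker]
    constructor
    · rintro ⟨g, hg, hpscg, hind⟩
      exact ⟨⟨g, hg⟩, (hpsc ⟨g, hg⟩).mp hpscg, ((induced_iff Q g hg β).mp hind).symm⟩
    · rintro ⟨g, hg, rfl⟩
      exact ⟨g, g.2, (hpsc g).mpr hg, (induced_iff Q g g.2 _).mpr rfl⟩
  rw [this, Subgroup.closure_eq]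

variable [Fintype F]

theorem psoAut_le_inndiagGen (h2 : (2 : F) ≠ 0) (Q : QuadraticForm F (ι → F))
    (hQ : (QuadraticMap.polarBilin Q).Nondegenerate) (heven : Even (Fintype.card ι))
    (x₁ : ι → F) (hx₁ : Q x₁ ≠ 0) : psoAut F ⇑Q ≤ inndiagGen ⇑Q x₁ hx₁ := by
  intro β hβ
  rw [psoAut_eq] at hβ
  obtain ⟨g, hg, rfl⟩ := (mem_img _ _ _).mp hβ
  have h1 := chiPair_special h2 Q hQ heven x₁ hx₁ g hg
  rw [chiPair_eq_one_iff] at h1
  exact Subgroup.mem_map_of_mem _ (MonoidHom.mem_ker.mpr h1.2)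

/-- the quadratic character of the multiplier, on the inner-diagonal group; its kernel is the image of the
special orthogonal group -/
theorem exists_phiOne (h2 : (2 : F) ≠ 0) (Q : QuadraticForm F (ι → F))
    (hQ : (QuadraticMap.polarBilin Q).Nondegenerate) (fr : HypFrame3 Q) (h5 : 5 ≤ Fintype.card ι)
    (heven : Even (Fintype.card ι)) (s₀ : ↥(Geo.quadSimilarityGroup (F := F) ⇑Q))
    (hs₀δ : deltaHom ⇑Q _ fr.Q_x1_ne s₀ = 1) (hs₀ : ¬ IsSquare ((mult ⇑Q s₀ : Fˣ) : F)) :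
    ∃ φ₁ : ↥(inndiagGen ⇑Q _ fr.Q_x1_ne) →* ℤˣ,
      (∀ (g : ↥(Geo.quadSimilarityGroup (F := F) ⇑Q))
        (hg : g ∈ (deltaHom ⇑Q _ fr.Q_x1_ne).ker),
        φ₁ ⟨PsiAut ⇑Q g, Subgroup.mem_map_of_mem _ hg⟩ = chiOne ⇑Q _ fr.Q_x1_ne g) ∧
      φ₁.ker = (psoAut F ⇑Q).subgroupOf (inndiagGen ⇑Q _ fr.Q_x1_ne) ∧
      Function.Surjective φ₁ := by
  unfold inndiagGen
  have hx₁ : Q (fr.e 0 + (1 : F) • fr.f 0) ≠ 0 := fr.Q_x1_ne
  set x₁ : ι → F := fr.e 0 + (1 : F) • fr.f 0 with hx₁def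
  set Ψ₀ : ↥(deltaHom ⇑Q x₁ hx₁).ker →* ↥((deltaHom ⇑Q x₁ hx₁).ker.map (PsiAut ⇑Q)) :=
    (PsiAut ⇑Q).subgroupMap (deltaHom ⇑Q x₁ hx₁).ker with hΨ₀
  have hsurj : Function.Surjective Ψ₀ := (PsiAut ⇑Q).subgroupMap_surjective _
  have hΨ₀val : ∀ g, ((Ψ₀ g : ↥((deltaHom ⇑Q x₁ hx₁).ker.map (PsiAut ⇑Q))) :
      MulAut (POmega F ⇑Q)) = PsiAut ⇑Q g.1 := fun g => rfl
  set χ₁' : ↥(deltaHom ⇑Q x₁ hx₁).ker →* ℤˣ :=
    (chiOne ⇑Q x₁ hx₁).comp (deltaHom ⇑Q x₁ hx₁).ker.subtype with hχ₁'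
  have hker : Ψ₀.ker ≤ χ₁'.ker := by
    intro g hg
    rw [MonoidHom.mem_ker] at hg ⊢
    have hg' : PsiAut ⇑Q g.1 = 1 := congrArg Subtype.val hg
    have h1 := chiPair_of_PsiAut_eq_one h2 Q hQ fr h5 heven g.1 hg'
    rw [chiPair_eq_one_iff] at h1
    show chiOne ⇑Q x₁ hx₁ g.1 = 1
    rw [chiOne_eq_one_iff]
    exact h1.1
  set φ₁ : ↥((deltaHom ⇑Q x₁ hx₁).ker.map (PsiAut ⇑Q)) →* ℤˣ :=
    Ψ₀.liftOfSurjective hsurj ⟨χ₁', hker⟩ with hφ₁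
  have hφΨ : ∀ g, φ₁ (Ψ₀ g) = χ₁' g := fun g =>
    Ψ₀.liftOfRightInverse_comp_apply _ _ ⟨χ₁', hker⟩ g
  refine ⟨φ₁, fun g hg => hφΨ ⟨g, hg⟩, ?_, ?_⟩
  · ext β
    obtain ⟨g, rfl⟩ := hsurj β
    rw [MonoidHom.mem_ker, hφΨ, Subgroup.mem_subgroupOf, hΨ₀val, psoAut_eq, mem_img]
    show chiOne ⇑Q x₁ hx₁ g.1 = 1 ↔ _
    have hgδ : deltaHom ⇑Q x₁ hx₁ g.1 = 1 := MonoidHom.mem_ker.mp g.2
    constructor
    · intro h
      have h1 : chiPair h2 Q hQ heven x₁ hx₁ g.1 = 1 := by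
        rw [chiPair_eq_one_iff]
        exact ⟨(chiOne_eq_one_iff _ _ _ _).mp h, hgδ⟩
      obtain ⟨k, hk, hkg⟩ := exists_special_of_chiPair h2 Q hQ heven x₁ hx₁ g.1 h1
      exact ⟨k, hk, hkg⟩
    · rintro ⟨k, hk, hkg⟩
      have h1 := chiPair_special h2 Q hQ heven x₁ hx₁ k hk
      have h2' := chiPair_of_PsiAut_eq_one h2 Q hQ fr h5 heven (k⁻¹ * g.1) (by
        rw [map_mul, map_inv, hkg, inv_mul_cancel])
      have h3 : chiPair h2 Q hQ heven x₁ hx₁ g.1 = 1 := by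
        have : g.1 = k * (k⁻¹ * g.1) := by group
        rw [this, map_mul, h1, h2', one_mul]
      rw [chiPair_eq_one_iff] at h3
      exact (chiOne_eq_one_iff _ _ _ _).mpr h3.1
  · intro u
    rcases Int.units_eq_one_or u with rfl | rfl
    · exact ⟨1, map_one _⟩
    · refine ⟨Ψ₀ ⟨s₀, MonoidHom.mem_ker.mpr hs₀δ⟩, ?_⟩
      rw [hφΨ]
      show chiOne ⇑Q x₁ hx₁ s₀ = -1
      have hne : chiOne ⇑Q x₁ hx₁ s₀ ≠ 1 := by
        rw [Ne, chiOne_eq_one_iff]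
        exact hs₀
      exact (Int.units_eq_one_or _).resolve_left hne

theorem card_inndiagGen_quot (h2 : (2 : F) ≠ 0) (Q : QuadraticForm F (ι → F))
    (hQ : (QuadraticMap.polarBilin Q).Nondegenerate) (fr : HypFrame3 Q) (h5 : 5 ≤ Fintype.card ι)
    (heven : Even (Fintype.card ι)) (s₀ : ↥(Geo.quadSimilarityGroup (F := F) ⇑Q))
    (hs₀δ : deltaHom ⇑Q _ fr.Q_x1_ne s₀ = 1) (hs₀ : ¬ IsSquare ((mult ⇑Q s₀ : Fˣ) : F)) :
    Nat.card (↥(inndiagGen ⇑Q _ fr.Q_x1_ne) ⧸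
        (Inn (POmega F ⇑Q)).subgroupOf (inndiagGen ⇑Q _ fr.Q_x1_ne))
      = (Inn (POmega F ⇑Q)).relIndex (psoAut F ⇑Q) * 2 := by
  obtain ⟨φ₁, -, hkerφ₁, hsurj⟩ := exists_phiOne h2 Q hQ fr h5 heven s₀ hs₀δ hs₀
  have hidx : (psoAut F ⇑Q).relIndex (inndiagGen ⇑Q _ fr.Q_x1_ne) = 2 := by
    unfold Subgroup.relIndex
    rw [← hkerφ₁, Subgroup.index_ker, MonoidHom.range_eq_top.mpr hsurj, Subgroup.card_top,
      Nat.card_eq_fintype_card, Fintype.card_units_int]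
  rw [← Subgroup.index_eq_card]
  show (Inn (POmega F ⇑Q)).relIndex (inndiagGen ⇑Q _ fr.Q_x1_ne) = _
  rw [← Subgroup.relIndex_mul_relIndex _ _ _ (Inn_le_psoAut _)
    (psoAut_le_inndiagGen h2 Q hQ heven _ fr.Q_x1_ne), hidx]

/-- if `-1 ∉ Ω(Q)`: the inner-diagonal group modulo `Inn` has order two -/
theorem inndiagGen_mod_inn_two (h2 : (2 : F) ≠ 0) (Q : QuadraticForm F (ι → F))
    (hQ : (QuadraticMap.polarBilin Q).Nondegenerate) (fr : HypFrame3 Q) (h5 : 5 ≤ Fintype.card ι)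
    (heven : Even (Fintype.card ι)) (s₀ : ↥(Geo.quadSimilarityGroup (F := F) ⇑Q))
    (hs₀δ : deltaHom ⇑Q _ fr.Q_x1_ne s₀ = 1) (hs₀ : ¬ IsSquare ((mult ⇑Q s₀ : Fˣ) : F))
    (hneg : ¬ ∃ w : ↥(Omega F ⇑Q),
      (((w : ↥(isometryGroup F ⇑Q)) : GL ι F) : Matrix ι ι F) = -1) :
    ∃ φ : ↥(inndiagGen ⇑Q _ fr.Q_x1_ne) →* Multiplicative (ZMod 2), Function.Surjective φ ∧
      φ.ker = (Inn (POmega F ⇑Q)).subgroupOf (inndiagGen ⇑Q _ fr.Q_x1_ne) := by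
  obtain ⟨φ₁, -, hkerφ₁, hsurj⟩ := exists_phiOne h2 Q hQ fr h5 heven s₀ hs₀δ hs₀
  have hEq : Inn (POmega F ⇑Q) = psoAut F ⇑Q :=
    le_antisymm (Inn_le_psoAut _)
      (Subgroup.relIndex_eq_one.mp (relIndex_Inn_psoAut_one h2 Q hQ fr h5 heven hneg))
  have e : ℤˣ ≃* Multiplicative (ZMod 2) :=
    mulEquivOfPrimeCardEq (p := 2) (by rw [Nat.card_eq_fintype_card, Fintype.card_units_int])
      (by rw [Nat.card_eq_fintype_card]; rfl)
  refine ⟨e.toMonoidHom.comp φ₁, e.surjective.comp hsurj, ?_⟩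
  rw [hEq, ← hkerφ₁]
  ext β
  rw [MonoidHom.mem_ker, MonoidHom.mem_ker, MonoidHom.comp_apply]
  exact e.map_eq_one_iff

/-- if `-1 ∈ Ω(Q)` and some element of the inner-diagonal group has square outside `Inn`: the quotient is
cyclic of order four -/
theorem inndiagGen_mod_inn_cyclic (h2 : (2 : F) ≠ 0) (Q : QuadraticForm F (ι → F))
    (hQ : (QuadraticMap.polarBilin Q).Nondegenerate) (fr : HypFrame3 Q) (h5 : 5 ≤ Fintype.card ι)
    (heven : Even (Fintype.card ι)) (s₀ : ↥(Geo.quadSimilarityGroup (F := F) ⇑Q))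
    (hs₀δ : deltaHom ⇑Q _ fr.Q_x1_ne s₀ = 1) (hs₀ : ¬ IsSquare ((mult ⇑Q s₀ : Fˣ) : F))
    (hneg : ∃ w : ↥(Omega F ⇑Q),
      (((w : ↥(isometryGroup F ⇑Q)) : GL ι F) : Matrix ι ι F) = -1)
    (hsq : PsiAut ⇑Q (s₀ * s₀) ∉ Inn (POmega F ⇑Q)) :
    ∃ φ : ↥(inndiagGen ⇑Q _ fr.Q_x1_ne) →* Multiplicative (ZMod 4), Function.Surjective φ ∧
      φ.ker = (Inn (POmega F ⇑Q)).subgroupOf (inndiagGen ⇑Q _ fr.Q_x1_ne) := by
  have hcard := card_inndiagGen_quot h2 Q hQ fr h5 heven s₀ hs₀δ hs₀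
  rw [relIndex_Inn_psoAut_two h2 Q hQ fr h5 hneg, show 2 * 2 = 4 from rfl] at hcard
  have hmem : PsiAut ⇑Q s₀ ∈ inndiagGen ⇑Q _ fr.Q_x1_ne :=
    Subgroup.mem_map_of_mem _ (MonoidHom.mem_ker.mpr hs₀δ)
  have hx2 : (QuotientGroup.mk (⟨PsiAut ⇑Q s₀, hmem⟩ : ↥(inndiagGen ⇑Q _ fr.Q_x1_ne)) :
      ↥(inndiagGen ⇑Q _ fr.Q_x1_ne) ⧸
        (Inn (POmega F ⇑Q)).subgroupOf (inndiagGen ⇑Q _ fr.Q_x1_ne)) ^ 2 ≠ 1 := by
    intro h
    rw [← QuotientGroup.mk_pow, QuotientGroup.eq_one_iff, Subgroup.mem_subgroupOf] at h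
    apply hsq
    rw [map_mul, ← pow_two]
    exact h
  have hdvd := orderOf_dvd_natCard (QuotientGroup.mk (⟨PsiAut ⇑Q s₀, hmem⟩ :
      ↥(inndiagGen ⇑Q _ fr.Q_x1_ne)) : ↥(inndiagGen ⇑Q _ fr.Q_x1_ne) ⧸
        (Inn (POmega F ⇑Q)).subgroupOf (inndiagGen ⇑Q _ fr.Q_x1_ne))
  rw [hcard, show 4 = 2 ^ 2 from rfl] at hdvd
  obtain ⟨k, hk, hk'⟩ := (Nat.dvd_prime_pow Nat.prime_two).mp hdvd
  have ho : orderOf (QuotientGroup.mk (⟨PsiAut ⇑Q s₀, hmem⟩ :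
      ↥(inndiagGen ⇑Q _ fr.Q_x1_ne)) : ↥(inndiagGen ⇑Q _ fr.Q_x1_ne) ⧸
        (Inn (POmega F ⇑Q)).subgroupOf (inndiagGen ⇑Q _ fr.Q_x1_ne)) = 4 := by
    interval_cases k
    · exfalso
      apply hx2
      rw [pow_zero, orderOf_eq_one_iff] at hk'
      rw [hk', one_pow]
    · exfalso
      apply hx2
      have h := pow_orderOf_eq_one (QuotientGroup.mk (⟨PsiAut ⇑Q s₀, hmem⟩ :
        ↥(inndiagGen ⇑Q _ fr.Q_x1_ne)) : ↥(inndiagGen ⇑Q _ fr.Q_x1_ne) ⧸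
          (Inn (POmega F ⇑Q)).subgroupOf (inndiagGen ⇑Q _ fr.Q_x1_ne))
      rw [hk', pow_one] at h
      exact h
    · rw [hk']
      rfl
  haveI : IsCyclic (↥(inndiagGen ⇑Q _ fr.Q_x1_ne) ⧸
      (Inn (POmega F ⇑Q)).subgroupOf (inndiagGen ⇑Q _ fr.Q_x1_ne)) :=
    isCyclic_of_orderOf_eq_card _ (by rw [hcard]; exact ho)
  have e : (↥(inndiagGen ⇑Q _ fr.Q_x1_ne) ⧸
      (Inn (POmega F ⇑Q)).subgroupOf (inndiagGen ⇑Q _ fr.Q_x1_ne)) ≃* Multiplicative (ZMod 4) :=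
    mulEquivOfCyclicCardEq (by rw [hcard, Nat.card_eq_fintype_card]; rfl)
  exact exists_hom_of_quotient_equiv _ e

/-- if `-1 ∈ Ω(Q)` and some element of the inner-diagonal group with non-square multiplier has square in
`Inn`: the quotient is a Klein four group -/
theorem inndiagGen_mod_inn_klein (h2 : (2 : F) ≠ 0) (Q : QuadraticForm F (ι → F))
    (hQ : (QuadraticMap.polarBilin Q).Nondegenerate) (fr : HypFrame3 Q) (h5 : 5 ≤ Fintype.card ι)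
    (heven : Even (Fintype.card ι)) (s₀ : ↥(Geo.quadSimilarityGroup (F := F) ⇑Q))
    (hs₀δ : deltaHom ⇑Q _ fr.Q_x1_ne s₀ = 1) (hs₀ : ¬ IsSquare ((mult ⇑Q s₀ : Fˣ) : F))
    (hneg : ∃ w : ↥(Omega F ⇑Q),
      (((w : ↥(isometryGroup F ⇑Q)) : GL ι F) : Matrix ι ι F) = -1)
    (hsq : PsiAut ⇑Q (s₀ * s₀) ∈ Inn (POmega F ⇑Q)) :
    ∃ φ : ↥(inndiagGen ⇑Q _ fr.Q_x1_ne) →* Multiplicative (ZMod 2 × ZMod 2),
      Function.Surjective φ ∧
      φ.ker = (Inn (POmega F ⇑Q)).subgroupOf (inndiagGen ⇑Q _ fr.Q_x1_ne) := by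
  have hcard := card_inndiagGen_quot h2 Q hQ fr h5 heven s₀ hs₀δ hs₀
  have hidx2 := relIndex_Inn_psoAut_two h2 Q hQ fr h5 hneg
  rw [hidx2, show 2 * 2 = 4 from rfl] at hcard
  obtain ⟨φ₁, hφ₁, hkerφ₁, -⟩ := exists_phiOne h2 Q hQ fr h5 heven s₀ hs₀δ hs₀
  have hmem : PsiAut ⇑Q s₀ ∈ inndiagGen ⇑Q _ fr.Q_x1_ne :=
    Subgroup.mem_map_of_mem _ (MonoidHom.mem_ker.mpr hs₀δ)
  have hφs : φ₁ ⟨PsiAut ⇑Q s₀, hmem⟩ = -1 := by
    rw [hφ₁ s₀ (MonoidHom.mem_ker.mpr hs₀δ)]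
    have hne : chiOne ⇑Q _ fr.Q_x1_ne s₀ ≠ 1 := by
      rw [Ne, chiOne_eq_one_iff]
      exact hs₀
    exact (Int.units_eq_one_or _).resolve_left hne
  -- squares of elements of the image of `SO` are inner
  have hB : ∀ b : ↥(inndiagGen ⇑Q _ fr.Q_x1_ne), φ₁ b = 1 →
      (QuotientGroup.mk b : ↥(inndiagGen ⇑Q _ fr.Q_x1_ne) ⧸
        (Inn (POmega F ⇑Q)).subgroupOf (inndiagGen ⇑Q _ fr.Q_x1_ne)) * QuotientGroup.mk b = 1 := by
    intro b hb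
    have hb' : b ∈ φ₁.ker := MonoidHom.mem_ker.mpr hb
    rw [hkerφ₁, Subgroup.mem_subgroupOf] at hb'
    rw [← QuotientGroup.mk_mul, QuotientGroup.eq_one_iff, Subgroup.mem_subgroupOf]
    have h1 := Subgroup.mul_self_mem_of_index_two
      (H := (Inn (POmega F ⇑Q)).subgroupOf (psoAut F ⇑Q)) hidx2 ⟨b.1, hb'⟩
    rw [Subgroup.mem_subgroupOf] at h1
    exact h1
  have hx : (QuotientGroup.mk (⟨PsiAut ⇑Q s₀, hmem⟩ : ↥(inndiagGen ⇑Q _ fr.Q_x1_ne)) :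
      ↥(inndiagGen ⇑Q _ fr.Q_x1_ne) ⧸
        (Inn (POmega F ⇑Q)).subgroupOf (inndiagGen ⇑Q _ fr.Q_x1_ne))
      * QuotientGroup.mk (⟨PsiAut ⇑Q s₀, hmem⟩ : ↥(inndiagGen ⇑Q _ fr.Q_x1_ne)) = 1 := by
    rw [← QuotientGroup.mk_mul, QuotientGroup.eq_one_iff, Subgroup.mem_subgroupOf]
    rw [map_mul] at hsq
    exact hsq
  haveI : IsKleinFour (↥(inndiagGen ⇑Q _ fr.Q_x1_ne) ⧸
        (Inn (POmega F ⇑Q)).subgroupOf (inndiagGen ⇑Q _ fr.Q_x1_ne)) := by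
    refine isKleinFour_of_card_four hcard _ hx
      (fun z => ∃ b : ↥(inndiagGen ⇑Q _ fr.Q_x1_ne), φ₁ b = 1 ∧ QuotientGroup.mk b = z) ?_ ?_
    · rintro z ⟨b, hb, rfl⟩
      exact hB b hb
    · intro z hz
      induction z using QuotientGroup.induction_on with
      | H a =>
        have ha : φ₁ a = -1 := by
          rcases Int.units_eq_one_or (φ₁ a) with ha | ha
          · exact absurd ⟨a, ha, rfl⟩ hz
          · exact ha
        refine ⟨(⟨PsiAut ⇑Q s₀, hmem⟩ : ↥(inndiagGen ⇑Q _ fr.Q_x1_ne))⁻¹ * a, ?_, rfl⟩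
        rw [map_mul, map_inv, hφs, ha]
        rfl
  obtain ⟨e⟩ := IsKleinFour.nonempty_mulEquiv
    (G₁ := ↥(inndiagGen ⇑Q _ fr.Q_x1_ne) ⧸
        (Inn (POmega F ⇑Q)).subgroupOf (inndiagGen ⇑Q _ fr.Q_x1_ne))
    (G₂ := Multiplicative (ZMod 2 × ZMod 2))
  exact exists_hom_of_quotient_equiv _ e

/-- the cyclic case from a similarity `T` with non-square multiplier `c`, `T² = c` and `det T ≠ μ(T)^(n/2)`:
then `T r` (`r` a reflection) lies in the inner-diagonal group and its square is not inner -/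
theorem inndiagGen_mod_inn_cyclic' (h2 : (2 : F) ≠ 0) (Q : QuadraticForm F (ι → F))
    (hQ : (QuadraticMap.polarBilin Q).Nondegenerate) (fr : HypFrame3 Q) (h5 : 5 ≤ Fintype.card ι)
    (heven : Even (Fintype.card ι))
    (hneg : ∃ w : ↥(Omega F ⇑Q),
      (((w : ↥(isometryGroup F ⇑Q)) : GL ι F) : Matrix ι ι F) = -1)
    (T : ↥(Geo.quadSimilarityGroup (F := F) ⇑Q)) (c : Fˣ) (hc : ¬ IsSquare (c : F))
    (hT : ∀ v, Q (((T : GL ι F) : Matrix ι ι F) *ᵥ v) = (c : F) * Q v)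
    (hTT : ((T : GL ι F) : Matrix ι ι F) * ((T : GL ι F) : Matrix ι ι F)
      = (c : F) • (1 : Matrix ι ι F))
    (hδT : deltaHom ⇑Q _ fr.Q_x1_ne T ≠ 1) :
    ∃ φ : ↥(inndiagGen ⇑Q _ fr.Q_x1_ne) →* Multiplicative (ZMod 4), Function.Surjective φ ∧
      φ.ker = (Inn (POmega F ⇑Q)).subgroupOf (inndiagGen ⇑Q _ fr.Q_x1_ne) := by
  have hx₁ : Q (fr.e 0 + (1 : F) • fr.f 0) ≠ 0 := fr.Q_x1_ne
  have hQx₁ : Q (fr.e 0 + (1 : F) • fr.f 0) = 1 := fr.Q_add_smul 0 1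
  have hrmem : ((reflectionIsom Q (fr.e 0 + (1 : F) • fr.f 0) hx₁ : ↥(isometryGroup F ⇑Q)) : GL ι F)
      ∈ Geo.quadSimilarityGroup (F := F) ⇑Q :=
    isometryGroup_le_similarity _ (reflectionIsom Q _ hx₁).2
  obtain ⟨R, hRdef⟩ : ∃ R : ↥(Geo.quadSimilarityGroup (F := F) ⇑Q), R = ⟨_, hrmem⟩ := ⟨_, rfl⟩
  have hRval : ((R : GL ι F) : Matrix ι ι F) = reflectionMatrix ⇑Q (fr.e 0 + (1 : F) • fr.f 0) := by
    rw [hRdef]
    exact reflectionIsom_coe Q _ hx₁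
  have hRv : ∀ v, Q (((R : GL ι F) : Matrix ι ι F) *ᵥ v) = Q v := by
    intro v
    rw [hRval]
    exact reflectionMatrix_preserves Q _ hx₁ v
  have hδT' : deltaHom ⇑Q _ hx₁ T = -1 := (deltaHom_cases Q hQ heven _ hx₁ T).resolve_left hδT
  have hmR : mult ⇑Q R = 1 :=
    Units.ext (mult_unique ⇑Q _ hx₁ _ 1 (by rw [one_mul]; exact hRv _))
  have hδR : deltaHom ⇑Q _ hx₁ R = -1 := by
    rw [deltaHom_apply, hmR, inv_one, one_pow, mul_one]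
    apply Units.ext
    rw [Matrix.GeneralLinearGroup.val_det_apply, hRval, reflectionMatrix_det Q _ hx₁]
    simp
  have hδ : deltaHom ⇑Q _ hx₁ (T * R) = 1 := by
    rw [map_mul, hδT', hδR, neg_mul_neg, one_mul]
  have hmult : ((mult ⇑Q (T * R) : Fˣ) : F) = c :=
    mult_unique ⇑Q _ hx₁ _ c (by
      rw [Subgroup.coe_mul, Units.val_mul, ← Matrix.mulVec_mulVec, hT]
      congr 1
      exact hRv _)
  have hns : ¬ IsSquare ((mult ⇑Q (T * R) : Fˣ) : F) := by rw [hmult]; exact hc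
  refine inndiagGen_mod_inn_cyclic h2 Q hQ fr h5 heven (T * R) hδ hns hneg ?_
  intro hin
  have hQT : Q (((T : GL ι F) : Matrix ι ι F) *ᵥ (fr.e 0 + (1 : F) • fr.f 0)) = c := by
    rw [hT, hQx₁, mul_one]
  have hTx : Q (((T : GL ι F) : Matrix ι ι F) *ᵥ (fr.e 0 + (1 : F) • fr.f 0)) ≠ 0 := by
    rw [hQT]
    exact Units.ne_zero c
  have hconj : ((T : GL ι F) : Matrix ι ι F) * reflectionMatrix ⇑Q (fr.e 0 + (1 : F) • fr.f 0)
      = reflectionMatrix ⇑Q (((T : GL ι F) : Matrix ι ι F) *ᵥ (fr.e 0 + (1 : F) • fr.f 0))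
        * ((T : GL ι F) : Matrix ι ι F) :=
    refl_conj_similarity Q _ (c : F) (Units.ne_zero c) hT _
  have hval : ((((T * R) * (T * R) :
      ↥(Geo.quadSimilarityGroup (F := F) ⇑Q)) : GL ι F) : Matrix ι ι F)
      = (c : F) • (reflectionMatrix ⇑Q (((T : GL ι F) : Matrix ι ι F) *ᵥ (fr.e 0 + (1 : F) • fr.f 0))
          * reflectionMatrix ⇑Q (fr.e 0 + (1 : F) • fr.f 0)) := by
    simp only [Subgroup.coe_mul, Units.val_mul, hRval]
    calc ((T : GL ι F) : Matrix ι ι F) * reflectionMatrix ⇑Q (fr.e 0 + (1 : F) • fr.f 0)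
          * (((T : GL ι F) : Matrix ι ι F) * reflectionMatrix ⇑Q (fr.e 0 + (1 : F) • fr.f 0))
        = (reflectionMatrix ⇑Q (((T : GL ι F) : Matrix ι ι F) *ᵥ (fr.e 0 + (1 : F) • fr.f 0))
            * ((T : GL ι F) : Matrix ι ι F))
          * (((T : GL ι F) : Matrix ι ι F) * reflectionMatrix ⇑Q (fr.e 0 + (1 : F) • fr.f 0)) :=
          congrArg (fun M => M * (((T : GL ι F) : Matrix ι ι F)
            * reflectionMatrix ⇑Q (fr.e 0 + (1 : F) • fr.f 0))) hconj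
      _ = reflectionMatrix ⇑Q (((T : GL ι F) : Matrix ι ι F) *ᵥ (fr.e 0 + (1 : F) • fr.f 0))
            * ((((T : GL ι F) : Matrix ι ι F) * ((T : GL ι F) : Matrix ι ι F))
              * reflectionMatrix ⇑Q (fr.e 0 + (1 : F) • fr.f 0)) := by
          simp only [Matrix.mul_assoc]
      _ = _ := by rw [hTT, Matrix.smul_mul, Matrix.one_mul, Matrix.mul_smul]
  obtain ⟨ρ, hρdef⟩ : ∃ ρ : ↥(isometryGroup F ⇑Q),
      ρ = reflectionIsom Q _ hTx * reflectionIsom Q _ hx₁ := ⟨_, rfl⟩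
  have hρval : ((ρ : GL ι F) : Matrix ι ι F)
      = reflectionMatrix ⇑Q (((T : GL ι F) : Matrix ι ι F) *ᵥ (fr.e 0 + (1 : F) • fr.f 0))
          * reflectionMatrix ⇑Q (fr.e 0 + (1 : F) • fr.f 0) := by
    rw [hρdef, Subgroup.coe_mul, Units.val_mul, reflectionIsom_coe, reflectionIsom_coe]
  have hΨ : PsiAut ⇑Q ((T * R) * (T * R)) = PsiO ⇑Q ρ := by
    have hz : PsiAut ⇑Q ((T * R) * (T * R)
        * (Subgroup.inclusion (isometryGroup_le_similarity ⇑Q) ρ)⁻¹) = 1 :=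
      PsiAut_scalar _ _ (c : F) (by
        rw [Subgroup.coe_mul, Units.val_mul, hval, ← hρval, Subgroup.coe_inv,
          Subgroup.coe_inclusion, Matrix.smul_mul, ← Units.val_mul, mul_inv_cancel, Units.val_one])
    rw [map_mul, map_inv, mul_inv_eq_one] at hz
    exact hz
  rw [hΨ] at hin
  have h3 := (PsiO_mem_Inn_iff_mem_Omega Q hQ fr h5 hneg ρ).mp hin
  rw [mem_Omega_iff_Phi h2 Q hQ, hρdef, map_mul, map_mul] at h3
  have hs_a : spinorSign (⇑Q) (reflectionIsom Q _ hx₁) = -1 := by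
    have e : reflectionIsom Q _ hx₁ = Cfsg.Agent.Lib.helper49.reflG Q _ hx₁ :=
      Subtype.ext (Units.ext rfl)
    rw [e]
    exact (Cfsg.Agent.Lib.helper49.spinorSign_refl h2 Q _ hx₁).1 ⟨1, by rw [hQx₁, one_mul]⟩
  have hs_b : spinorSign (⇑Q) (reflectionIsom Q _ hTx) = 1 := by
    have e : reflectionIsom Q _ hTx = Cfsg.Agent.Lib.helper49.reflG Q _ hTx :=
      Subtype.ext (Units.ext rfl)
    rw [e]
    exact (Cfsg.Agent.Lib.helper49.spinorSign_refl h2 Q _ hTx).2 (by rw [hQT]; exact hc)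
  rw [hs_a, hs_b] at h3
  exact absurd h3.2 (by decide)

end

end Cfsg.Agent.Lib.helper42
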