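import Cfsg.Agent.Lib.helper42.SkewSim
import Cfsg.Agent.Lib.helper42.CDTwoA
import Cfsg.Agent.Lib.helper49.Spinor

/-!
An isometry `S` of odd order prime to the characteristic commutes with an invertible skew-adjoint operator
(`S - S⁻¹` on `[V, S]`, plus a sum of wedges of an orthogonal basis of the fixed space), hence with a
similarity of any given multiplier `c` and determinant `c ^ (n/2)`.
-/

set_option autoImplicit false
set_option linter.unusedSectionVars false

namespace Cfsg.Agent.Lib.helper42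

open Matrix Polynomial Module

section
variable {ι : Type} [Fintype ι] [DecidableEq ι] {F : Type*} [Field F]

/-- the operator `x ↦ ⟨b, x⟩ a - ⟨a, x⟩ b` -/
noncomputable def wedgeMat (Q : QuadraticForm F (ι → F)) (a b : ι → F) : Matrix ι ι F :=
  Matrix.vecMulVec a (Cfsg.polarVec ⇑Q b) - Matrix.vecMulVec b (Cfsg.polarVec ⇑Q a)

theorem wedgeMat_mulVec (Q : QuadraticForm F (ι → F)) (a b x : ι → F) :
    wedgeMat Q a b *ᵥ x = QuadraticMap.polar ⇑Q b x • a - QuadraticMap.polar ⇑Q a x • b := by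
  rw [wedgeMat, Matrix.sub_mulVec, Matrix.vecMulVec_mulVec, Matrix.vecMulVec_mulVec,
    Cfsg.Agent.Lib.helper49.polarVec_dotProduct, Cfsg.Agent.Lib.helper49.polarVec_dotProduct]
  ext i
  simp only [Pi.sub_apply, Pi.smul_apply, smul_eq_mul, MulOpposite.smul_eq_mul_unop,
    MulOpposite.unop_op]
  ring

theorem isSkewMat_wedge (Q : QuadraticForm F (ι → F)) (a b : ι → F) : IsSkewMat Q (wedgeMat Q a b) := by
  intro u v
  rw [wedgeMat_mulVec, wedgeMat_mulVec, QuadraticMap.polar_sub_left, QuadraticMap.polar_sub_right,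
    QuadraticMap.polar_smul_left, QuadraticMap.polar_smul_left, QuadraticMap.polar_smul_right,
    QuadraticMap.polar_smul_right, QuadraticMap.polar_comm ⇑Q u a, QuadraticMap.polar_comm ⇑Q u b]
  simp only [smul_eq_mul]
  ring

theorem isSkewMat_add (Q : QuadraticForm F (ι → F)) {A B : Matrix ι ι F} (hA : IsSkewMat Q A)
    (hB : IsSkewMat Q B) : IsSkewMat Q (A + B) := by
  intro u v
  rw [Matrix.add_mulVec, Matrix.add_mulVec, QuadraticMap.polar_add_left, QuadraticMap.polar_add_right,
    hA, hB]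
  ring

theorem isSkewMat_sum (Q : QuadraticForm F (ι → F)) {κ : Type*} (s : Finset κ) (A : κ → Matrix ι ι F)
    (hA : ∀ i ∈ s, IsSkewMat Q (A i)) : IsSkewMat Q (∑ i ∈ s, A i) := by
  classical
  induction s using Finset.induction_on with
  | empty =>
    intro u v
    simp
  | insert i s hi ih =>
    rw [Finset.sum_insert hi]
    exact isSkewMat_add Q (hA i (Finset.mem_insert_self i s))
      (ih (fun j hj => hA j (Finset.mem_insert_of_mem hj)))

theorem mat_eq_of_mulVec {M N : Matrix ι ι F} (h : ∀ x, M *ᵥ x = N *ᵥ x) : M = N := by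
  apply Matrix.toLin'.injective
  apply LinearMap.ext
  intro x
  rw [Matrix.toLin'_apply, Matrix.toLin'_apply, h]

/-- an isometry of odd order `r` (prime to the characteristic) with even-dimensional fixed space commutes with
an invertible skew-adjoint operator -/
theorem exists_skew_commute (h2 : (2 : F) ≠ 0) (Q : QuadraticForm F (ι → F))
    (hQ : (QuadraticMap.polarBilin Q).Nondegenerate) (S : Matrix ι ι F)
    (hS : ∀ v, Q (S *ᵥ v) = Q v) {r : ℕ} (hr : Odd r) (hrF : (r : F) ≠ 0) (hSr : S ^ r = 1)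
    (hpar : Even (finrank F (fixSub S))) :
    ∃ J : Matrix ι ι F, IsSkewMat Q J ∧ IsUnit J ∧ J * S = S * J := by
  classical
  obtain ⟨k', hk'⟩ := hpar
  have hr0 : 0 < r := hr.pos
  obtain ⟨Si, hSi⟩ : ∃ Si : Matrix ι ι F, Si = S ^ (r - 1) := ⟨_, rfl⟩
  have hSSi : S * Si = 1 := by rw [hSi, ← pow_succ', Nat.sub_add_cancel hr0, hSr]
  have hSiS : Si * S = 1 := by rw [hSi, ← pow_succ, Nat.sub_add_cancel hr0, hSr]
  have hSp : ∀ u v, QuadraticMap.polar ⇑Q (S *ᵥ u) (S *ᵥ v) = QuadraticMap.polar ⇑Q u v := by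
    intro u v
    unfold QuadraticMap.polar
    rw [← Matrix.mulVec_add, hS, hS, hS]
  have hadj : ∀ u v, QuadraticMap.polar ⇑Q (S *ᵥ u) v = QuadraticMap.polar ⇑Q u (Si *ᵥ v) := by
    intro u v
    have h := hSp u (Si *ᵥ v)
    rw [Matrix.mulVec_mulVec, hSSi, Matrix.one_mulVec] at h
    exact h
  have hadj' : ∀ u v, QuadraticMap.polar ⇑Q (Si *ᵥ u) v = QuadraticMap.polar ⇑Q u (S *ᵥ v) := by
    intro u v
    have h := hSp (Si *ᵥ u) v
    rw [Matrix.mulVec_mulVec, hSSi, Matrix.one_mulVec] at h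
    exact h.symm
  have hfixpow : ∀ x : ι → F, S *ᵥ x = x → ∀ i : ℕ, (S ^ i) *ᵥ x = x := by
    intro x hx i
    induction i with
    | zero => simp
    | succ i ih => rw [pow_succ, ← Matrix.mulVec_mulVec, hx, ih]
  have hfixSi : ∀ x : ι → F, S *ᵥ x = x → Si *ᵥ x = x := fun x hx => by
    rw [hSi]
    exact hfixpow x hx _
  have hpolpow : ∀ x : ι → F, S *ᵥ x = x → ∀ (i : ℕ) (y : ι → F),
      QuadraticMap.polar ⇑Q x ((S ^ i) *ᵥ y) = QuadraticMap.polar ⇑Q x y := by
    intro x hx i
    induction i with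
    | zero =>
      intro y
      simp
    | succ i ih =>
      intro y
      rw [pow_succ', ← Matrix.mulVec_mulVec, ← hadj', hfixSi x hx, ih]
  -- the fixed space is non-degenerate
  have hR : ∀ w : ι → F, S *ᵥ w = w → (∀ y, S *ᵥ y = y → QuadraticMap.polar ⇑Q w y = 0) → w = 0 := by
    intro w hw hperp
    apply hQ.1
    intro x
    rw [QuadraticMap.polarBilin_apply_apply]
    have hfix : S *ᵥ (∑ i ∈ Finset.range r, (S ^ i) *ᵥ x) = ∑ i ∈ Finset.range r, (S ^ i) *ᵥ x := by
      rw [Matrix.mulVec_sum]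
      simp only [Matrix.mulVec_mulVec, ← pow_succ']
      have h1 := Finset.sum_range_succ (fun i => (S ^ i) *ᵥ x) r
      have h2' := Finset.sum_range_succ' (fun i => (S ^ i) *ᵥ x) r
      rw [h1] at h2'
      simp only [hSr, pow_zero] at h2'
      exact (add_right_cancel h2').symm
    have h3 := hperp _ hfix
    rw [← QuadraticMap.polarBilin_apply_apply, map_sum] at h3
    simp only [QuadraticMap.polarBilin_apply_apply, hpolpow w hw] at h3
    rw [Finset.sum_const, Finset.card_range, nsmul_eq_mul] at h3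
    exact (mul_eq_zero.mp h3).resolve_left hrF
  -- an orthogonal basis of the fixed space
  obtain ⟨B', hB'⟩ : ∃ B' : LinearMap.BilinForm F (fixSub S),
      ∀ x y : fixSub S, B' x y = QuadraticMap.polar ⇑Q (x : ι → F) (y : ι → F) :=
    ⟨(QuadraticMap.polarBilin Q).domRestrict₁₂ (fixSub S) (fixSub S), fun x y => rfl⟩
  have hsymm : LinearMap.IsSymm B' := ⟨fun x y => by
    rw [RingHom.id_apply, hB', hB', QuadraticMap.polar_comm]⟩
  have : Invertible (2 : F) := invertibleOfNonzero h2
  obtain ⟨w₀, hw₀⟩ := LinearMap.BilinForm.exists_orthogonal_basis hsymm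
  rw [LinearMap.isOrthoᵢ_def] at hw₀
  obtain ⟨w, hwdef⟩ : ∃ w : Basis (Fin k' ⊕ Fin k') F (fixSub S),
      w = w₀.reindex ((finCongr hk').trans finSumFinEquiv.symm) := ⟨_, rfl⟩
  have hworth : ∀ l l', l ≠ l' →
      QuadraticMap.polar ⇑Q ((w l : fixSub S) : ι → F) ((w l' : fixSub S) : ι → F) = 0 := by
    intro l l' hll
    rw [← hB', hwdef, Basis.reindex_apply, Basis.reindex_apply]
    exact hw₀ _ _ (fun h => hll (Equiv.injective _ h))
  have hwfix : ∀ l, S *ᵥ ((w l : fixSub S) : ι → F) = ((w l : fixSub S) : ι → F) :=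
    fun l => mem_fixSub.mp (w l).2
  have hspan : ∀ x : ι → F, (∀ l, QuadraticMap.polar ⇑Q x ((w l : fixSub S) : ι → F) = 0) →
      ∀ y, S *ᵥ y = y → QuadraticMap.polar ⇑Q x y = 0 := by
    intro x hx y hy
    have hy' := congrArg (Subtype.val) (w.sum_repr ⟨y, mem_fixSub.mpr hy⟩)
    simp only [Submodule.coe_sum, Submodule.coe_smul] at hy'
    rw [← hy', ← QuadraticMap.polarBilin_apply_apply, map_sum]
    refine Finset.sum_eq_zero (fun l _ => ?_)
    rw [map_smul, QuadraticMap.polarBilin_apply_apply, hx l, smul_zero]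
  have hwaniso : ∀ l, QuadraticMap.polar ⇑Q ((w l : fixSub S) : ι → F) ((w l : fixSub S) : ι → F) ≠ 0 := by
    intro l h0
    have h1 : ((w l : fixSub S) : ι → F) = 0 := by
      apply hR _ (hwfix l)
      apply hspan
      intro l'
      by_cases hll : l = l'
      · rw [← hll]
        exact h0
      · exact hworth l l' hll
    exact w.ne_zero l (Subtype.ext h1)
  obtain ⟨a, ha⟩ : ∃ a : Fin k' → (ι → F), ∀ i, a i = ((w (Sum.inl i) : fixSub S) : ι → F) :=
    ⟨_, fun i => rfl⟩
  obtain ⟨b, hb⟩ : ∃ b : Fin k' → (ι → F), ∀ i, b i = ((w (Sum.inr i) : fixSub S) : ι → F) :=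
    ⟨_, fun i => rfl⟩
  have hafix : ∀ i, S *ᵥ a i = a i := fun i => by rw [ha]; exact hwfix _
  have hbfix : ∀ i, S *ᵥ b i = b i := fun i => by rw [hb]; exact hwfix _
  obtain ⟨A, hA⟩ : ∃ A : Matrix ι ι F, A = ∑ i : Fin k', wedgeMat Q (a i) (b i) := ⟨_, rfl⟩
  have hAv : ∀ x, A *ᵥ x = ∑ i : Fin k', (QuadraticMap.polar ⇑Q (b i) x • a i
      - QuadraticMap.polar ⇑Q (a i) x • b i) := by
    intro x
    rw [hA, Matrix.sum_mulVec]
    exact Finset.sum_congr rfl (fun i _ => wedgeMat_mulVec Q _ _ x)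
  have hAfix : ∀ x, S *ᵥ (A *ᵥ x) = A *ᵥ x := by
    intro x
    rw [hAv, Matrix.mulVec_sum]
    refine Finset.sum_congr rfl (fun i _ => ?_)
    rw [Matrix.mulVec_sub, Matrix.mulVec_smul, Matrix.mulVec_smul, hafix, hbfix]
  have hAS : ∀ x, A *ᵥ (S *ᵥ x) = A *ᵥ x := by
    intro x
    rw [hAv, hAv]
    refine Finset.sum_congr rfl (fun i _ => ?_)
    rw [← hadj', ← hadj', hfixSi _ (hafix i), hfixSi _ (hbfix i)]
  obtain ⟨J₀, hJ₀⟩ : ∃ J₀ : Matrix ι ι F, J₀ = S - Si := ⟨_, rfl⟩
  have hJ₀skew : IsSkewMat Q J₀ := by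
    intro u v
    rw [hJ₀, Matrix.sub_mulVec, Matrix.sub_mulVec, QuadraticMap.polar_sub_left,
      QuadraticMap.polar_sub_right, hadj, hadj']
    ring
  have hJ₀fix : ∀ y, S *ᵥ y = y → J₀ *ᵥ y = 0 := by
    intro y hy
    rw [hJ₀, Matrix.sub_mulVec, hy, hfixSi y hy, sub_self]
  refine ⟨J₀ + A, isSkewMat_add Q hJ₀skew ?_, ?_, ?_⟩
  · rw [hA]
    exact isSkewMat_sum Q _ _ (fun i _ => isSkewMat_wedge Q _ _)
  · -- invertibility
    apply Matrix.mulVec_injective_iff_isUnit.mp
    have hker : ∀ v, (J₀ + A) *ᵥ v = 0 → v = 0 := by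
      intro v hv
      rw [Matrix.add_mulVec] at hv
      have hz : A *ᵥ v = 0 := by
        apply hR _ (hAfix v)
        intro y hy
        have h1 : A *ᵥ v = -(J₀ *ᵥ v) := eq_neg_of_add_eq_zero_right hv
        rw [h1, QuadraticMap.polar_neg_left, hJ₀skew, hJ₀fix y hy, QuadraticMap.polar_zero_right]
        simp
      rw [hz, add_zero] at hv
      -- `S v = v`
      have hSv : S *ᵥ v = Si *ᵥ v := by
        rw [hJ₀, Matrix.sub_mulVec] at hv
        exact sub_eq_zero.mp hv
      have hS2 : S *ᵥ (S *ᵥ v) = v := by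
        rw [hSv, Matrix.mulVec_mulVec, hSSi, Matrix.one_mulVec]
      have hS2pow : ∀ j : ℕ, (S ^ (2 * j)) *ᵥ v = v := by
        intro j
        induction j with
        | zero => simp
        | succ j ih =>
          rw [show 2 * (j + 1) = 2 * j + 1 + 1 by ring, pow_succ, pow_succ, Matrix.mul_assoc,
            ← Matrix.mulVec_mulVec, ← Matrix.mulVec_mulVec, hS2, ih]
      have hvfix : S *ᵥ v = v := by
        obtain ⟨j, hj⟩ := hr
        have h := hS2pow (j + 1)
        rw [show 2 * (j + 1) = r + 1 by omega, pow_succ, hSr, Matrix.one_mul] at h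
        exact h
      -- `v ⟂` the basis
      have hperp : ∀ l, QuadraticMap.polar ⇑Q v ((w l : fixSub S) : ι → F) = 0 := by
        have hzA := hz
        rw [hAv] at hzA
        have hcomp : ∀ y : ι → F, ∑ i : Fin k', (QuadraticMap.polar ⇑Q (b i) v * QuadraticMap.polar ⇑Q (a i) y
            - QuadraticMap.polar ⇑Q (a i) v * QuadraticMap.polar ⇑Q (b i) y) = 0 := by
          intro y
          have h := congrArg (fun z => QuadraticMap.polarBilin Q z y) hzA
          simp only [map_sum, LinearMap.sum_apply, map_sub, map_smul, LinearMap.sub_apply,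
            LinearMap.smul_apply, QuadraticMap.polarBilin_apply_apply, smul_eq_mul, map_zero,
            LinearMap.zero_apply] at h
          exact h
        have haa : ∀ i j, i ≠ j → QuadraticMap.polar ⇑Q (a i) (a j) = 0 := by
          intro i j hij
          rw [ha, ha]
          exact hworth _ _ (by simpa using hij)
        have hbb' : ∀ i j, i ≠ j → QuadraticMap.polar ⇑Q (b i) (b j) = 0 := by
          intro i j hij
          rw [hb, hb]
          exact hworth _ _ (by simpa using hij)
        have hab : ∀ i j, QuadraticMap.polar ⇑Q (a i) (b j) = 0 := by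
          intro i j
          rw [ha, hb]
          exact hworth _ _ (by simp)
        have hba : ∀ i j, QuadraticMap.polar ⇑Q (b i) (a j) = 0 := by
          intro i j
          rw [ha, hb]
          exact hworth _ _ (by simp)
        have haa0 : ∀ i, QuadraticMap.polar ⇑Q (a i) (a i) ≠ 0 := fun i => by
          rw [ha]
          exact hwaniso _
        have hbb0 : ∀ i, QuadraticMap.polar ⇑Q (b i) (b i) ≠ 0 := fun i => by
          rw [hb]
          exact hwaniso _
        have hbv : ∀ j, QuadraticMap.polar ⇑Q (b j) v = 0 := by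
          intro j
          have h := hcomp (a j)
          rw [Finset.sum_eq_single j (fun i _ hij => by rw [haa i j hij, hba i j]; ring)
            (fun h => absurd (Finset.mem_univ j) h)] at h
          rw [hba, mul_zero, sub_zero] at h
          exact (mul_eq_zero.mp h).resolve_right (haa0 j)
        have hav : ∀ j, QuadraticMap.polar ⇑Q (a j) v = 0 := by
          intro j
          have h := hcomp (b j)
          rw [Finset.sum_eq_single j (fun i _ hij => by rw [hab i j, hbb' i j hij]; ring)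
            (fun h => absurd (Finset.mem_univ j) h)] at h
          rw [hab, mul_zero, zero_sub, neg_eq_zero] at h
          exact (mul_eq_zero.mp h).resolve_right (hbb0 j)
        intro l
        rcases l with j | j
        · rw [← ha, QuadraticMap.polar_comm]
          exact hav j
        · rw [← hb, QuadraticMap.polar_comm]
          exact hbv j
      exact hR v hvfix (hspan v hperp)
    intro x y hxy
    have h := hker (x - y) (by
      rw [Matrix.mulVec_sub]
      exact sub_eq_zero.mpr hxy)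
    exact sub_eq_zero.mp h
  · apply mat_eq_of_mulVec
    intro x
    rw [Matrix.add_mul, Matrix.mul_add, Matrix.add_mulVec, Matrix.add_mulVec]
    have e1 : (A * S) *ᵥ x = A *ᵥ x := by rw [← Matrix.mulVec_mulVec, hAS]
    have e2 : (S * A) *ᵥ x = A *ᵥ x := by rw [← Matrix.mulVec_mulVec, hAfix]
    rw [e1, e2, hJ₀, Matrix.sub_mul, Matrix.mul_sub, hSiS, hSSi]

/-- an isometry of odd order prime to the characteristic (with even-dimensional fixed space) commutes with a
similarity of any given multiplier `c`, of determinant `c ^ (n/2)` -/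
theorem exists_commuting_similarity [Fintype F] (h2 : (2 : F) ≠ 0) (Q : QuadraticForm F (ι → F))
    (hQ : (QuadraticMap.polarBilin Q).Nondegenerate) (S : Matrix ι ι F)
    (hS : ∀ v, Q (S *ᵥ v) = Q v) {r : ℕ} (hr : Odd r) (hrF : (r : F) ≠ 0) (hSr : S ^ r = 1)
    (hpar : Even (finrank F (fixSub S))) (k : ℕ) (hk : Fintype.card ι = 2 * k) (c : F) (hc : c ≠ 0) :
    ∃ H : Matrix ι ι F, H * S = S * H ∧ (∀ v, Q (H *ᵥ v) = c * Q v) ∧ H.det = c ^ k := by
  obtain ⟨J, hJs, hJu, hJS⟩ := exists_skew_commute h2 Q hQ S hS hr hrF hSr hpar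
  obtain ⟨P, hP⟩ := exists_poly_norm h2 J hJu c hc
  have hsim := sim_of_poly_norm h2 Q J hJs P c hP
  exact ⟨aeval J P, aeval_commute_of_commute J S hJS P, hsim,
    det_of_skew_commute h2 Q hQ J hJs hJu k hk (aeval J P) (aeval_commute_of_commute J J rfl P) c hc hsim⟩

end

end Cfsg.Agent.Lib.helper42
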