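import Mathlib
import Cfsg.Agent.Lib.helper48.NormInv

/-!
# Unitary elements of a finite commutative ring with involution

Abstract core of the construction of an isometry of non-trivial spinor norm commuting with a given
isometry of odd order: in a finite commutative ring `A` with involution `τ` whose `τ`-fixed elements are
`0` or units, some unitary element acts as an odd permutation on a level set of the form `a ↦ lam (a τ(a))`.
-/

set_option autoImplicit false

namespace Cfsg.Agent.Lib.helper42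

section PermFree

variable {α : Type*} [Fintype α] [DecidableEq α]

theorem cycleType_of_free (σ : Equiv.Perm α) (k : ℕ) (hσk : σ ^ k = 1)
    (hfree : ∀ x, σ x ≠ x → ∀ j : ℕ, (σ ^ j) x = x → k ∣ j) :
    σ.cycleType = Multiset.replicate (Multiset.card σ.cycleType) k := by
  rw [Multiset.eq_replicate_card]
  intro n hn
  have h1 : n ∣ k := (Equiv.Perm.dvd_of_mem_cycleType hn).trans (orderOf_dvd_of_pow_eq_one hσk)
  obtain ⟨c, t, rfl, hd, hc, rfl⟩ := Equiv.Perm.mem_cycleType_iff.mp hn
  obtain ⟨x, hx⟩ := hc.nonempty_support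
  rw [Equiv.Perm.mem_support] at hx
  have htx : t x = x := (hd x).resolve_left hx
  have h2 : (c * t) x ≠ x := by
    rw [Equiv.Perm.mul_apply, htx]
    exact hx
  have h3 : ((c * t) ^ c.support.card) x = x := by
    rw [hd.commute.mul_pow, Equiv.Perm.mul_apply, Equiv.Perm.pow_apply_eq_self_of_apply_eq_self htx,
      ← hc.orderOf, pow_orderOf_eq_one, Equiv.Perm.one_apply]
  exact Nat.dvd_antisymm h1 (hfree x h2 _ h3)

/-- the sign of a permutation all of whose non-trivial cycles have the same even length `k` -/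
theorem sign_of_free (σ : Equiv.Perm α) (k : ℕ) (hk : Even k) (hk0 : 0 < k) (hσk : σ ^ k = 1)
    (hfree : ∀ x, σ x ≠ x → ∀ j : ℕ, (σ ^ j) x = x → k ∣ j) :
    Equiv.Perm.sign σ = (-1) ^ (σ.support.card / k) := by
  have hct := cycleType_of_free σ k hσk hfree
  have hsum : σ.cycleType.sum = Multiset.card σ.cycleType * k := by
    conv_lhs => rw [hct]
    rw [Multiset.sum_replicate, smul_eq_mul]
  rw [Equiv.Perm.sign_of_cycleType, ← Equiv.Perm.sum_cycleType, hsum, Nat.mul_div_cancel _ hk0,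
    pow_add, mul_comm (Multiset.card σ.cycleType) k, pow_mul, hk.neg_one_pow, one_pow, one_mul]

end PermFree

section Core

variable {F : Type*} [Field F] {A : Type*} [CommRing A]

/-- the unitary units of a commutative ring with involution -/
def unitaryUnits (τ : A →+* A) : Subgroup Aˣ where
  carrier := {u | (u : A) * τ u = 1}
  mul_mem' := by
    intro a b ha hb
    simp only [Set.mem_ofPred_eq] at ha hb ⊢
    rw [Units.val_mul, map_mul, mul_mul_mul_comm, ha, hb, mul_one]
  one_mem' := by simp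
  inv_mem' := by
    intro a ha
    simp only [Set.mem_ofPred_eq] at ha ⊢
    have h1 : τ (a : A) = ((a⁻¹ : Aˣ) : A) := by
      have h := congrArg (fun z => ((a⁻¹ : Aˣ) : A) * z) ha
      simp only [← mul_assoc, Units.inv_mul, one_mul, mul_one] at h
      exact h
    have h2 : τ ((a⁻¹ : Aˣ) : A) * τ (a : A) = 1 := by rw [← map_mul, Units.inv_mul, map_one]
    rw [h1] at h2
    rw [mul_comm]
    exact h2

theorem mem_unitaryUnits (τ : A →+* A) (u : Aˣ) : u ∈ unitaryUnits τ ↔ (u : A) * τ u = 1 := Iff.rfl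

theorem unitary_norm (τ : A →+* A) (u : unitaryUnits τ) (a : A) :
    (((u : Aˣ) : A) * a) * τ (((u : Aˣ) : A) * a) = a * τ a := by
  have hu : ((u : Aˣ) : A) * τ ((u : Aˣ) : A) = 1 := u.2
  have h1 : τ (((u : Aˣ) : A) * a) = τ ((u : Aˣ) : A) * τ a := map_mul τ _ _
  rw [h1, mul_mul_mul_comm, hu, one_mul]

theorem unitary_level (τ : A →+* A) (lam : A →+ F) (u : unitaryUnits τ) (a : A) :
    lam ((((u : Aˣ) : A) * a) * τ (((u : Aˣ) : A) * a)) = lam (a * τ a) := by
  rw [unitary_norm]

open Classical in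
/-- multiplication by a unitary element on a level set, as a permutation of the ring -/
noncomputable def mulLevelHom (τ : A →+* A) (lam : A →+ F) (c : F) :
    unitaryUnits τ →* Equiv.Perm A where
  toFun u :=
    { toFun := fun a => if lam (a * τ a) = c then ((u : Aˣ) : A) * a else a
      invFun := fun a => if lam (a * τ a) = c then (((u⁻¹ : unitaryUnits τ) : Aˣ) : A) * a else a
      left_inv := fun a => by
        by_cases h : lam (a * τ a) = c
        · have h' : lam ((((u : Aˣ) : A) * a) * τ (((u : Aˣ) : A) * a)) = c := by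
            rw [unitary_level τ lam u a, h]
          simp only [h, h', if_true]
          rw [← mul_assoc, Subgroup.coe_inv, Units.inv_mul, one_mul]
        · simp only [h, if_false]
      right_inv := fun a => by
        by_cases h : lam (a * τ a) = c
        · have h' : lam (((((u⁻¹ : unitaryUnits τ) : Aˣ) : A) * a)
              * τ ((((u⁻¹ : unitaryUnits τ) : Aˣ) : A) * a)) = c := by
            rw [unitary_level τ lam u⁻¹ a, h]
          simp only [h, h', if_true]
          rw [← mul_assoc, Subgroup.coe_inv, Units.mul_inv, one_mul]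
        · simp only [h, if_false] }
  map_one' := by
    ext a
    simp
  map_mul' u v := by
    ext a
    by_cases h : lam (a * τ a) = c
    · have h' : lam ((((v : Aˣ) : A) * a) * τ (((v : Aˣ) : A) * a)) = c := by
        rw [unitary_level τ lam v a, h]
      simp only [Equiv.Perm.mul_apply, Equiv.coe_fn_mk, h, if_true]
      rw [if_pos h', Subgroup.coe_mul, Units.val_mul, mul_assoc]
    · simp only [Equiv.Perm.mul_apply, Equiv.coe_fn_mk, h, if_false]

theorem mulLevelHom_apply_of_eq (τ : A →+* A) (lam : A →+ F) (c : F) (u : unitaryUnits τ) (a : A)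
    (h : lam (a * τ a) = c) : mulLevelHom τ lam c u a = ((u : Aˣ) : A) * a := by
  classical
  show (if lam (a * τ a) = c then ((u : Aˣ) : A) * a else a) = _
  rw [if_pos h]

theorem mulLevelHom_apply_of_ne (τ : A →+* A) (lam : A →+ F) (c : F) (u : unitaryUnits τ) (a : A)
    (h : lam (a * τ a) ≠ c) : mulLevelHom τ lam c u a = a := by
  classical
  show (if lam (a * τ a) = c then ((u : Aˣ) : A) * a else a) = _
  rw [if_neg h]

theorem mulLevelHom_level (τ : A →+* A) (lam : A →+ F) (c : F) (u : unitaryUnits τ) (a : A) :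
    lam ((mulLevelHom τ lam c u a) * τ (mulLevelHom τ lam c u a)) = lam (a * τ a) := by
  by_cases h : lam (a * τ a) = c
  · rw [mulLevelHom_apply_of_eq τ lam c u a h, unitary_level]
  · rw [mulLevelHom_apply_of_ne τ lam c u a h]

/-- a product of signs over an additive group in which the values at `w` and `-w` agree -/
theorem prod_neg_pairing {V : Type*} [AddCommGroup V] [Fintype V] [DecidableEq V] (f : V → ℤˣ)
    (hf : ∀ w, f (-w) = f w) (hne : ∀ w : V, w ≠ 0 → -w ≠ w) : ∏ w, f w = f 0 := by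
  rw [← Finset.mul_prod_erase Finset.univ f (Finset.mem_univ 0)]
  have h1 : ∏ w ∈ Finset.univ.erase (0 : V), f w = 1 := by
    refine Finset.prod_involution (fun w _ => -w) ?_ ?_ ?_ ?_
    · intro a _
      rw [hf]
      exact Int.units_mul_self _
    · intro a ha _
      exact hne a (Finset.ne_of_mem_erase ha)
    · intro a ha
      rw [Finset.mem_erase] at ha ⊢
      exact ⟨neg_ne_zero.mpr ha.1, Finset.mem_univ _⟩
    · intro a _
      exact neg_neg a
  rw [h1, mul_one]

theorem reduced_of_reg (hreg : ∀ n : A, ∃ y, n = n * n * y) (n : A) (h : n * n = 0) : n = 0 := by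
  obtain ⟨y, hy⟩ := hreg n
  rw [hy, h, zero_mul]

/-- a unitary element other than `1` differs from `1` by a unit -/
theorem unitary_sub_one_isUnit (τ : A →+* A) (hτ : ∀ x, τ (τ x) = x)
    (hreg : ∀ n : A, ∃ y, n = n * n * y) (hmin : ∀ n : A, τ n = n → n = 0 ∨ IsUnit n)
    (u : A) (hu : u * τ u = 1) (hu1 : u ≠ 1) : IsUnit (u - 1) := by
  have hfix : τ ((u - 1) * τ (u - 1)) = (u - 1) * τ (u - 1) := by
    rw [map_mul, hτ, mul_comm]
  rcases hmin _ hfix with h | h
  · exfalso
    apply hu1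
    have h1 : (u - 1) * (u - 1) = 0 := by
      have h3 : (u - 1) * τ (u - 1) * u = -((u - 1) * (u - 1)) := by
        rw [map_sub, map_one]
        linear_combination (u - 1) * hu
      rw [h, zero_mul] at h3
      exact neg_eq_zero.mp h3.symm
    exact sub_eq_zero.mp (reduced_of_reg hreg _ h1)
  · exact isUnit_of_mul_isUnit_left h

theorem unitary_sq_eq_one (τ : A →+* A) (hmin : ∀ n : A, τ n = n → n = 0 ∨ IsUnit n)
    (u : A) (hu : u * τ u = 1) (huu : u * u = 1) : u = 1 ∨ u = -1 := by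
  have hτu : τ u = u := by
    calc τ u = τ u * (u * u) := by rw [huu, mul_one]
      _ = (u * τ u) * u := by ring
      _ = u := by rw [hu, one_mul]
  have hfix : τ (u - 1) = u - 1 := by rw [map_sub, map_one, hτu]
  rcases hmin _ hfix with h | h
  · left
    exact sub_eq_zero.mp h
  · right
    have h1 : (u - 1) * (u + 1) = 0 := by linear_combination huu
    exact eq_neg_of_add_eq_zero_left (h.mul_right_eq_zero.mp h1)

theorem isUnit_of_level (τ : A →+* A) (hτ : ∀ x, τ (τ x) = x)
    (hmin : ∀ n : A, τ n = n → n = 0 ∨ IsUnit n) (lam : A →+ F) (a : A)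
    (h : lam (a * τ a) ≠ 0) : IsUnit a := by
  have hfix : τ (a * τ a) = a * τ a := by rw [map_mul, hτ, mul_comm]
  rcases hmin _ hfix with h0 | h0
  · rw [h0, map_zero] at h
    exact absurd rfl h
  · exact isUnit_of_mul_isUnit_left h0

theorem odd_card_of_two_unit [Finite A] (h2 : IsUnit (2 : A)) : Odd (Nat.card A) := by
  by_contra h
  rw [Nat.not_odd_iff_even] at h
  have : Fact (Nat.Prime 2) := ⟨Nat.prime_two⟩
  obtain ⟨a, ha⟩ := exists_prime_addOrderOf_dvd_card' 2 (even_iff_two_dvd.mp h)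
  have h1 : (2 : ℕ) • a = 0 := by
    rw [← ha]
    exact addOrderOf_nsmul_eq_zero a
  have h3 : (2 : A) * a = 0 := by
    rw [two_mul]
    rw [two_nsmul] at h1
    exact h1
  have h4 : a = 0 := h2.mul_right_eq_zero.mp h3
  rw [h4, addOrderOf_zero] at ha
  omega

/-- a unitary element which is not a square: its order is even and of odd index -/
theorem exists_nonsquare_unitary [Finite A] (τ : A →+* A)
    (hmin : ∀ n : A, τ n = n → n = 0 ∨ IsUnit n) (hne : (-1 : A) ≠ 1) :
    ∃ g : unitaryUnits τ, g ≠ 1 ∧ Even (orderOf g) ∧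
      Odd (Nat.card (unitaryUnits τ) / orderOf g) := by
  classical
  have hneg : (-1 : Aˣ) ∈ unitaryUnits τ := by
    rw [mem_unitaryUnits]
    simp
  have hsq1 : ∀ u : unitaryUnits τ, u * u = 1 → u = 1 ∨ u = ⟨-1, hneg⟩ := by
    intro u hu
    have h1 : ((u : Aˣ) : A) * ((u : Aˣ) : A) = 1 := by
      have h := congrArg (fun z : unitaryUnits τ => ((z : Aˣ) : A)) hu
      simpa using h
    rcases unitary_sq_eq_one τ hmin _ u.2 h1 with h | h
    · left
      exact Subtype.ext (Units.ext h)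
    · right
      exact Subtype.ext (Units.ext (by simpa using h))
  have hnegne : (⟨-1, hneg⟩ : unitaryUnits τ) ≠ 1 := by
    intro h
    have h' := congrArg (fun z : unitaryUnits τ => ((z : Aˣ) : A)) h
    simp only [Units.val_neg, Units.val_one, OneMemClass.coe_one] at h'
    exact hne h'
  obtain ⟨g, hg⟩ : ∃ g : unitaryUnits τ, ∀ a : unitaryUnits τ, a * a ≠ g := by
    by_contra hcon
    push Not at hcon
    have hsurj : Function.Surjective (fun a : unitaryUnits τ => a * a) := hcon
    have hinj := Finite.injective_iff_surjective.mpr hsurj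
    have h1 : (⟨-1, hneg⟩ : unitaryUnits τ) = 1 := hinj (by
      show (⟨-1, hneg⟩ : unitaryUnits τ) * ⟨-1, hneg⟩ = 1 * 1
      apply Subtype.ext
      simp)
    exact hnegne h1
  have hg1 : g ≠ 1 := fun h => hg 1 (by rw [h, one_mul])
  have hk0 : 0 < orderOf g := orderOf_pos g
  have heven : Even (orderOf g) := by
    by_contra hodd
    rw [Nat.not_even_iff_odd] at hodd
    obtain ⟨i, hi⟩ := hodd
    apply hg (g ^ (i + 1))
    rw [← pow_add, show i + 1 + (i + 1) = orderOf g + 1 by omega, pow_succ, pow_orderOf_eq_one,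
      one_mul]
  refine ⟨g, hg1, heven, ?_⟩
  by_contra hnodd
  rw [Nat.not_odd_iff_even] at hnodd
  obtain ⟨j, hj⟩ := heven
  have hgj : g ^ j = ⟨-1, hneg⟩ := by
    have h1 : g ^ j * g ^ j = 1 := by rw [← pow_add, ← hj, pow_orderOf_eq_one]
    rcases hsq1 _ h1 with h | h
    · exfalso
      have h3 := Nat.le_of_dvd (by omega) (orderOf_dvd_of_pow_eq_one h)
      omega
    · exact h
  have hcard := Subgroup.card_eq_card_quotient_mul_card_subgroup (Subgroup.zpowers g)
  rw [Nat.card_zpowers] at hcard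
  have h2 : 2 ∣ Nat.card (unitaryUnits τ ⧸ Subgroup.zpowers g) := by
    rw [hcard, Nat.mul_div_cancel _ hk0] at hnodd
    exact even_iff_two_dvd.mp hnodd
  have : Fact (Nat.Prime 2) := ⟨Nat.prime_two⟩
  obtain ⟨xb, hxb⟩ := exists_prime_orderOf_dvd_card' 2 h2
  obtain ⟨h, rfl⟩ := QuotientGroup.mk_surjective xb
  have hh1 : h ∉ Subgroup.zpowers g := by
    intro hmem
    have h3 : ((h : unitaryUnits τ) : unitaryUnits τ ⧸ Subgroup.zpowers g) = 1 :=
      (QuotientGroup.eq_one_iff h).mpr hmem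
    rw [h3, orderOf_one] at hxb
    omega
  have hh2 : h * h ∈ Subgroup.zpowers g := by
    rw [← QuotientGroup.eq_one_iff, QuotientGroup.mk_mul, ← pow_two, ← hxb, pow_orderOf_eq_one]
  obtain ⟨n, hn⟩ := Subgroup.mem_zpowers_iff.mp hh2
  rcases Int.even_or_odd' n with ⟨i, hi | hi⟩
  · have h3 : (h * g ^ (-i)) * (h * g ^ (-i)) = 1 := by
      rw [mul_mul_mul_comm, ← hn, ← zpow_add, ← zpow_add, hi]
      have h4 : 2 * i + (-i + -i) = 0 := by ring
      rw [h4, zpow_zero]
    rcases hsq1 _ h3 with h4 | h4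
    · apply hh1
      have h5 : h = g ^ i := by
        have h6 := congrArg (fun z => z * g ^ i) h4
        simp only [mul_assoc, ← zpow_add, neg_add_cancel, zpow_zero, mul_one, one_mul] at h6
        exact h6
      rw [h5]
      exact Subgroup.zpow_mem_zpowers g i
    · apply hh1
      have h5 : h = g ^ j * g ^ i := by
        have h6 := congrArg (fun z => z * g ^ i) h4
        simp only [mul_assoc, ← zpow_add, neg_add_cancel, zpow_zero, mul_one] at h6
        rw [h6, hgj]
      rw [h5]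
      exact Subgroup.mul_mem _ (Subgroup.npow_mem_zpowers g j) (Subgroup.zpow_mem_zpowers g i)
  · apply hg (h * g ^ (-i))
    rw [mul_mul_mul_comm, ← hn, ← zpow_add, ← zpow_add, hi]
    have h4 : 2 * i + 1 + (-i + -i) = 1 := by ring
    rw [h4, zpow_one]

/-- the level set `lam (a τ(a)) = 1` is a union of an odd number of regular orbits of the unitary group -/
theorem card_level [Finite A] (τ : A →+* A) (hτ : ∀ x, τ (τ x) = x) (h2 : IsUnit (2 : A))
    (hmin : ∀ n : A, τ n = n → n = 0 ∨ IsUnit n) (θ : A) (hθ : IsUnit (θ - τ θ))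
    (lam : A →+ F) (n₁ : A) (hn₁ : τ n₁ = n₁) (hlam₁ : lam n₁ = 1) :
    ∃ m : ℕ, Odd m ∧ Nat.card {a : A // lam (a * τ a) = 1} = Nat.card (unitaryUnits τ) * m := by
  classical
  have hunit : ∀ n : A, τ n = n → lam n = 1 → IsUnit n := by
    intro n hn hl
    rcases hmin n hn with h | h
    · rw [h, map_zero] at hl
      exact absurd hl zero_ne_one
    · exact h
  have hnorm : ∀ n : A, τ n = n → lam n = 1 → ∃ y : A, y * τ y = n := fun n hn hl =>
    helper48.normSurj_of_finite A τ hτ θ hθ n (hunit n hn hl) hn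
  choose! y₀ hy₀ using hnorm
  have hbij : Nat.card {a : A // lam (a * τ a) = 1}
      = Nat.card ({n : A // τ n = n ∧ lam n = 1} × unitaryUnits τ) := by
    apply Nat.card_congr
    refine (Equiv.ofBijective (fun p : {n : A // τ n = n ∧ lam n = 1} × unitaryUnits τ =>
      (⟨((p.2 : Aˣ) : A) * y₀ p.1.1, by
        rw [unitary_level, hy₀ _ p.1.2.1 p.1.2.2]
        exact p.1.2.2⟩ : {a : A // lam (a * τ a) = 1})) ⟨?_, ?_⟩).symm
    · rintro ⟨⟨n, hn, hl⟩, u⟩ ⟨⟨n', hn', hl'⟩, u'⟩ h
      have h1 : ((u : Aˣ) : A) * y₀ n = ((u' : Aˣ) : A) * y₀ n' := congrArg Subtype.val h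
      have hnn : n = n' := by
        rw [← hy₀ n hn hl, ← hy₀ n' hn' hl', ← unitary_norm τ u (y₀ n), h1, unitary_norm]
      subst hnn
      have hyu : IsUnit (y₀ n) := by
        have h3 := hunit n hn hl
        rw [← hy₀ n hn hl] at h3
        exact isUnit_of_mul_isUnit_left h3
      have huu : ((u : Aˣ) : A) = ((u' : Aˣ) : A) := hyu.mul_left_injective h1
      have : u = u' := Subtype.ext (Units.ext huu)
      rw [this]
    · rintro ⟨a, ha⟩
      have hn : τ (a * τ a) = a * τ a := by rw [map_mul, hτ, mul_comm]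
      have hy := hy₀ _ hn ha
      have hau : IsUnit a := isUnit_of_level τ hτ hmin lam a (by rw [ha]; exact one_ne_zero)
      have hyu : IsUnit (y₀ (a * τ a)) := by
        have h3 := hunit _ hn ha
        rw [← hy] at h3
        exact isUnit_of_mul_isUnit_left h3
      obtain ⟨ua, hua⟩ := hau
      obtain ⟨uy, huy⟩ := hyu
      have hmem : ua * uy⁻¹ ∈ unitaryUnits τ := by
        rw [mem_unitaryUnits, Units.val_mul, hua]
        have h4 : τ (a * ((uy⁻¹ : Aˣ) : A)) = τ a * τ ((uy⁻¹ : Aˣ) : A) := map_mul τ _ _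
        have h5 : ((uy⁻¹ : Aˣ) : A) * y₀ (a * τ a) = 1 := by rw [← huy, Units.inv_mul]
        have h6 : τ ((uy⁻¹ : Aˣ) : A) * τ (y₀ (a * τ a)) = 1 := by rw [← map_mul, h5, map_one]
        rw [h4]
        calc a * ((uy⁻¹ : Aˣ) : A) * (τ a * τ ((uy⁻¹ : Aˣ) : A))
            = (a * τ a) * (((uy⁻¹ : Aˣ) : A) * τ ((uy⁻¹ : Aˣ) : A)) := by ring
          _ = (y₀ (a * τ a) * τ (y₀ (a * τ a))) * (((uy⁻¹ : Aˣ) : A) * τ ((uy⁻¹ : Aˣ) : A)) := by
              rw [hy]
          _ = (((uy⁻¹ : Aˣ) : A) * y₀ (a * τ a)) * (τ ((uy⁻¹ : Aˣ) : A) * τ (y₀ (a * τ a))) := by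
              ring
          _ = 1 := by rw [h5, h6, one_mul]
      refine ⟨(⟨⟨a * τ a, hn, ha⟩, ⟨ua * uy⁻¹, hmem⟩⟩ :
        {n : A // τ n = n ∧ lam n = 1} × unitaryUnits τ), ?_⟩
      apply Subtype.ext
      show ((ua * uy⁻¹ : Aˣ) : A) * y₀ (a * τ a) = a
      rw [Units.val_mul, mul_assoc, ← huy, Units.inv_mul, mul_one, hua]
  rw [hbij, Nat.card_prod, mul_comm]
  refine ⟨Nat.card {n : A // τ n = n ∧ lam n = 1}, ?_, rfl⟩
  obtain ⟨K, hK⟩ : ∃ K : AddSubgroup A, ∀ n, n ∈ K ↔ (τ n = n ∧ lam n = 0) :=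
    ⟨{ carrier := {n | τ n = n ∧ lam n = 0}
       add_mem' := fun {a b} ha hb => ⟨by rw [map_add, ha.1, hb.1], by rw [map_add, ha.2, hb.2, add_zero]⟩
       zero_mem' := ⟨map_zero τ, map_zero lam⟩
       neg_mem' := fun {a} ha => ⟨by rw [map_neg, ha.1], by rw [map_neg, ha.2, neg_zero]⟩ },
      fun n => Iff.rfl⟩
  have hYK : Nat.card {n : A // τ n = n ∧ lam n = 1} = Nat.card K :=
    Nat.card_congr
      { toFun := fun n => ⟨n.1 - n₁, (hK _).mpr ⟨by rw [map_sub, n.2.1, hn₁],
          by rw [map_sub, n.2.2, hlam₁, sub_self]⟩⟩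
        invFun := fun k => ⟨k.1 + n₁, by rw [map_add, ((hK _).mp k.2).1, hn₁],
          by rw [map_add, ((hK _).mp k.2).2, hlam₁, zero_add]⟩
        left_inv := fun n => Subtype.ext (by simp)
        right_inv := fun k => Subtype.ext (by simp) }
  rw [hYK]
  exact (odd_card_of_two_unit h2).of_dvd_nat (AddSubgroup.card_addSubgroup_dvd_card K)

/-- **Main abstract statement**: some unitary element acts as an odd permutation on the level set
`lam (a τ(a)) = 1`. -/
theorem exists_unitary_odd [Fintype A] [DecidableEq A] (τ : A →+* A) (hτ : ∀ x, τ (τ x) = x)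
    (h2 : IsUnit (2 : A)) (hmin : ∀ n : A, τ n = n → n = 0 ∨ IsUnit n) (θ : A)
    (hθ : IsUnit (θ - τ θ)) (lam : A →+ F) (n₁ : A) (hn₁ : τ n₁ = n₁) (hlam₁ : lam n₁ = 1) :
    ∃ g : unitaryUnits τ, g ≠ 1 ∧ Equiv.Perm.sign (mulLevelHom τ lam 1 g) = -1 := by
  classical
  have hne : (-1 : A) ≠ 1 := by
    intro h
    have h20 : (2 : A) = 0 := by linear_combination -h
    rw [h20] at h2
    have h3 : n₁ = 0 := by
      obtain ⟨u, hu⟩ := h2
      have h4 : n₁ = n₁ * ((u : A) * ((u⁻¹ : Aˣ) : A)) := by rw [Units.mul_inv, mul_one]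
      rw [h4, hu, zero_mul, mul_zero]
    rw [h3, map_zero] at hlam₁
    exact zero_ne_one hlam₁
  obtain ⟨g, hg1, heven, hodd⟩ := exists_nonsquare_unitary τ hmin hne
  obtain ⟨m, hm, hcard⟩ := card_level τ hτ h2 hmin θ hθ lam n₁ hn₁ hlam₁
  refine ⟨g, hg1, ?_⟩
  obtain ⟨σ, hσ⟩ : ∃ σ : Equiv.Perm A, σ = mulLevelHom τ lam 1 g := ⟨_, rfl⟩
  rw [← hσ]
  have hk0 : 0 < orderOf g := orderOf_pos g
  have hσk : σ ^ orderOf g = 1 := by rw [hσ, ← map_pow, pow_orderOf_eq_one, map_one]
  have hmoved : ∀ a, σ a ≠ a → lam (a * τ a) = 1 := by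
    intro a ha
    by_contra h
    apply ha
    rw [hσ]
    exact mulLevelHom_apply_of_ne τ lam 1 g a h
  have hunitOf : ∀ a, lam (a * τ a) = 1 → IsUnit a := fun a hl =>
    isUnit_of_level τ hτ hmin lam a (by rw [hl]; exact one_ne_zero)
  have hfix1 : ∀ (u : unitaryUnits τ) (a : A), lam (a * τ a) = 1 → ((u : Aˣ) : A) * a = a → u = 1 := by
    intro u a hl h
    have h1 : (((u : Aˣ) : A) - 1) * a = 0 := by rw [sub_mul, h, one_mul, sub_self]
    have h3 : ((u : Aˣ) : A) = 1 := sub_eq_zero.mp ((hunitOf a hl).mul_left_eq_zero.mp h1)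
    exact Subtype.ext (Units.ext h3)
  have hfree : ∀ x, σ x ≠ x → ∀ j : ℕ, (σ ^ j) x = x → orderOf g ∣ j := by
    intro a ha j hj
    have hl := hmoved a ha
    rw [hσ, ← map_pow, mulLevelHom_apply_of_eq τ lam 1 (g ^ j) a hl] at hj
    exact orderOf_dvd_of_pow_eq_one (hfix1 _ a hl hj)
  rw [sign_of_free σ (orderOf g) heven hk0 hσk hfree]
  have hsupp : σ.support = Finset.univ.filter (fun a => lam (a * τ a) = 1) := by
    ext a
    rw [Equiv.Perm.mem_support, Finset.mem_filter]
    constructor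
    · intro h
      exact ⟨Finset.mem_univ _, hmoved a h⟩
    · rintro ⟨-, hl⟩ h
      rw [hσ, mulLevelHom_apply_of_eq τ lam 1 g a hl] at h
      exact hg1 (hfix1 g a hl h)
  have hsc : σ.support.card = Nat.card (unitaryUnits τ) * m := by
    rw [hsupp, ← hcard, Nat.card_eq_fintype_card, Fintype.card_subtype]
  obtain ⟨t, ht⟩ := orderOf_dvd_natCard g
  rw [hsc, ht, mul_assoc, Nat.mul_div_cancel_left _ hk0]
  rw [ht, Nat.mul_div_cancel_left _ hk0] at hodd
  exact (hodd.mul hm).neg_one_pow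

end Core

end Cfsg.Agent.Lib.helper42
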