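import Mathlib
import Cfsg.Agent.Lib.helper42.UnitaryCore
import Cfsg.Agent.Lib.helper42.SkewExist

/-!
# Minimal non-degenerate invariant subspaces of an isometry of odd order

`MinPiece Q S r` packages a minimal non-zero non-degenerate `S`-invariant subspace `D` (without fixed
vectors) of an isometry `S` of odd order `r` prime to the characteristic, together with an anisotropic
vector `x ∈ D`.  The ring `M.A = F[X] / Ann(D)` acts on `D`; it is a finite commutative ring with the
adjoint involution, all of whose self-adjoint elements are `0` or units.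
-/

set_option autoImplicit false
set_option linter.unusedSectionVars false

open Polynomial Matrix

namespace Cfsg.Agent.Lib.helper42

section

variable {F : Type*} [Field F] {ι : Type} [Fintype ι] [DecidableEq ι]

/-- the polynomials `P` such that `P(S)` annihilates the subspace `D` -/
def annIdeal (S : Matrix ι ι F) (D : Submodule F (ι → F)) : Ideal F[X] where
  carrier := {P | ∀ d ∈ D, (aeval S P) *ᵥ d = 0}
  add_mem' := by
    intro a b ha hb d hd
    rw [map_add, Matrix.add_mulVec, ha d hd, hb d hd, add_zero]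
  zero_mem' := by
    intro d _
    rw [map_zero, Matrix.zero_mulVec]
  smul_mem' := by
    intro c a ha d hd
    rw [smul_eq_mul, map_mul, ← Matrix.mulVec_mulVec, ha d hd, Matrix.mulVec_zero]

theorem mem_annIdeal (S : Matrix ι ι F) (D : Submodule F (ι → F)) (P : F[X]) :
    P ∈ annIdeal S D ↔ ∀ d ∈ D, (aeval S P) *ᵥ d = 0 := Iff.rfl

/-- a minimal non-degenerate invariant subspace `D` of an isometry `S` of odd order `r`, with an
anisotropic vector -/
structure MinPiece (Q : QuadraticForm F (ι → F)) (S : Matrix ι ι F) (r : ℕ) where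
  two_ne : (2 : F) ≠ 0
  isom : ∀ v, Q (S *ᵥ v) = Q v
  pow : S ^ r = 1
  odd : Odd r
  rne : (r : F) ≠ 0
  D : Submodule F (ι → F)
  inv : ∀ d ∈ D, S *ᵥ d ∈ D
  phi : ∀ d ∈ D, (∑ i ∈ Finset.range r, S ^ i) *ᵥ d = 0
  nondeg : ∀ d ∈ D, (∀ d' ∈ D, QuadraticMap.polar ⇑Q d d' = 0) → d = 0
  minimal : ∀ E : Submodule F (ι → F), E ≤ D → E ≠ ⊥ → (∀ d ∈ E, S *ᵥ d ∈ E) →
      (∀ d ∈ E, (∀ d' ∈ E, QuadraticMap.polar ⇑Q d d' = 0) → d = 0) → E = D
  x : ι → F
  x_mem : x ∈ D
  x_ne : Q x ≠ 0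

namespace MinPiece

variable {Q : QuadraticForm F (ι → F)} {S : Matrix ι ι F} {r : ℕ}

theorem r_pos (M : MinPiece Q S r) : 0 < r := M.odd.pos

theorem S_mul_Si (M : MinPiece Q S r) : S * S ^ (r - 1) = 1 := by
  rw [← pow_succ', Nat.sub_add_cancel M.r_pos, M.pow]

theorem Si_mul_S (M : MinPiece Q S r) : S ^ (r - 1) * S = 1 := by
  rw [← pow_succ, Nat.sub_add_cancel M.r_pos, M.pow]

theorem Si_pow (M : MinPiece Q S r) : (S ^ (r - 1)) ^ (r - 1) = S := by
  have h1 : (S ^ (r - 1)) ^ (r - 1) * S ^ (r - 1) = 1 := by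
    rw [← pow_succ, Nat.sub_add_cancel M.r_pos, ← pow_mul, mul_comm, pow_mul, M.pow, one_pow]
  calc (S ^ (r - 1)) ^ (r - 1) = (S ^ (r - 1)) ^ (r - 1) * (S ^ (r - 1) * S) := by
        rw [M.Si_mul_S, mul_one]
    _ = S := by rw [← mul_assoc, h1, one_mul]

theorem polar_S (M : MinPiece Q S r) (u v : ι → F) :
    QuadraticMap.polar ⇑Q (S *ᵥ u) (S *ᵥ v) = QuadraticMap.polar ⇑Q u v := by
  unfold QuadraticMap.polar
  rw [← Matrix.mulVec_add, M.isom, M.isom, M.isom]

theorem adj_S (M : MinPiece Q S r) (u v : ι → F) :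
    QuadraticMap.polar ⇑Q (S *ᵥ u) v = QuadraticMap.polar ⇑Q u (S ^ (r - 1) *ᵥ v) := by
  have h := M.polar_S u (S ^ (r - 1) *ᵥ v)
  rw [Matrix.mulVec_mulVec, M.S_mul_Si, Matrix.one_mulVec] at h
  exact h

theorem adj_pow (M : MinPiece Q S r) (n : ℕ) (u v : ι → F) :
    QuadraticMap.polar ⇑Q (S ^ n *ᵥ u) v = QuadraticMap.polar ⇑Q u ((S ^ (r - 1)) ^ n *ᵥ v) := by
  induction n generalizing u v with
  | zero => simp
  | succ n ih =>
    rw [pow_succ, ← Matrix.mulVec_mulVec, ih, M.adj_S, Matrix.mulVec_mulVec, ← pow_succ']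

/-- the adjoint of `P(S)` is `P(S⁻¹)` -/
theorem adj_aeval (M : MinPiece Q S r) (P : F[X]) (u v : ι → F) :
    QuadraticMap.polar ⇑Q ((aeval S P) *ᵥ u) v
      = QuadraticMap.polar ⇑Q u ((aeval S (expand F (r - 1) P)) *ᵥ v) := by
  rw [expand_aeval]
  induction P using Polynomial.induction_on' with
  | add p q hp hq =>
    rw [map_add, map_add, Matrix.add_mulVec, Matrix.add_mulVec, QuadraticMap.polar_add_left,
      QuadraticMap.polar_add_right, hp, hq]
  | monomial n a =>
    rw [aeval_monomial, aeval_monomial, Algebra.algebraMap_eq_smul_one, Matrix.smul_mul, Matrix.one_mul,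
      Matrix.smul_mul, Matrix.one_mul, Matrix.smul_mulVec, Matrix.smul_mulVec,
      QuadraticMap.polar_smul_left, QuadraticMap.polar_smul_right, M.adj_pow]

theorem pow_mem (M : MinPiece Q S r) (n : ℕ) {d : ι → F} (hd : d ∈ M.D) : S ^ n *ᵥ d ∈ M.D := by
  induction n with
  | zero => simpa using hd
  | succ n ih =>
    rw [pow_succ', ← Matrix.mulVec_mulVec]
    exact M.inv _ ih

theorem aeval_mem (M : MinPiece Q S r) (P : F[X]) {d : ι → F} (hd : d ∈ M.D) : (aeval S P) *ᵥ d ∈ M.D := by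
  rw [aeval_eq_sum_range, Matrix.sum_mulVec]
  refine Submodule.sum_mem _ (fun i _ => ?_)
  rw [Matrix.smul_mulVec]
  exact Submodule.smul_mem _ _ (M.pow_mem i hd)

/-- the ring of operators on `D` induced by polynomials in `S` -/
abbrev A (M : MinPiece Q S r) : Type _ := F[X] ⧸ annIdeal S M.D

/-- the class of a polynomial -/
noncomputable abbrev cls (M : MinPiece Q S r) (P : F[X]) : M.A := Ideal.Quotient.mk (annIdeal S M.D) P

theorem cls_surj (M : MinPiece Q S r) (a : M.A) : ∃ P, M.cls P = a := Ideal.Quotient.mk_surjective a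

theorem cls_pow (M : MinPiece Q S r) (P : F[X]) (n : ℕ) : M.cls (P ^ n) = M.cls P ^ n := map_pow _ _ _

theorem cls_mul (M : MinPiece Q S r) (P P' : F[X]) : M.cls (P * P') = M.cls P * M.cls P' := map_mul _ _ _

theorem cls_add (M : MinPiece Q S r) (P P' : F[X]) : M.cls (P + P') = M.cls P + M.cls P' := map_add _ _ _

theorem cls_sub (M : MinPiece Q S r) (P P' : F[X]) : M.cls (P - P') = M.cls P - M.cls P' := map_sub _ _ _

theorem cls_one (M : MinPiece Q S r) : M.cls 1 = 1 := map_one _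

theorem cls_C (M : MinPiece Q S r) (c : F) : M.cls (C c) = algebraMap F M.A c := rfl

theorem cls_eq_zero (M : MinPiece Q S r) (P : F[X]) : M.cls P = 0 ↔ P ∈ annIdeal S M.D :=
  Ideal.Quotient.eq_zero_iff_mem

/-- the action of `M.A` (meaningful on `D`) -/
noncomputable def act (M : MinPiece Q S r) (a : M.A) (v : ι → F) : ι → F := (aeval S (Quotient.out a)) *ᵥ v

theorem act_mk (M : MinPiece Q S r) (P : F[X]) {d : ι → F} (hd : d ∈ M.D) : M.act (M.cls P) d = (aeval S P) *ᵥ d := by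
  have h : Quotient.out (M.cls P) - P ∈ annIdeal S M.D :=
    Ideal.Quotient.eq.mp (Ideal.Quotient.mk_out _)
  have h' := h d hd
  rw [map_sub, Matrix.sub_mulVec, sub_eq_zero] at h'
  exact h'

theorem act_mem (M : MinPiece Q S r) (a : M.A) {d : ι → F} (hd : d ∈ M.D) : M.act a d ∈ M.D :=
  M.aeval_mem _ hd

theorem act_add_vec (M : MinPiece Q S r) (a : M.A) (u v : ι → F) : M.act a (u + v) = M.act a u + M.act a v :=
  Matrix.mulVec_add _ _ _

theorem act_sub_vec (M : MinPiece Q S r) (a : M.A) (u v : ι → F) : M.act a (u - v) = M.act a u - M.act a v :=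
  Matrix.mulVec_sub _ _ _

theorem act_smul_vec (M : MinPiece Q S r) (a : M.A) (c : F) (v : ι → F) : M.act a (c • v) = c • M.act a v :=
  Matrix.mulVec_smul _ _ _

theorem act_zero_vec (M : MinPiece Q S r) (a : M.A) : M.act a 0 = 0 := Matrix.mulVec_zero _

theorem act_add (M : MinPiece Q S r) (a b : M.A) {d : ι → F} (hd : d ∈ M.D) : M.act (a + b) d = M.act a d + M.act b d := by
  obtain ⟨P, rfl⟩ := Ideal.Quotient.mk_surjective a
  obtain ⟨P', rfl⟩ := Ideal.Quotient.mk_surjective b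
  rw [← map_add, M.act_mk _ hd, M.act_mk _ hd, M.act_mk _ hd, map_add, Matrix.add_mulVec]

theorem act_mul (M : MinPiece Q S r) (a b : M.A) {d : ι → F} (hd : d ∈ M.D) : M.act (a * b) d = M.act a (M.act b d) := by
  obtain ⟨P, rfl⟩ := Ideal.Quotient.mk_surjective a
  obtain ⟨P', rfl⟩ := Ideal.Quotient.mk_surjective b
  rw [← map_mul, M.act_mk _ hd, M.act_mk _ hd, M.act_mk _ (M.aeval_mem _ hd), map_mul,
    Matrix.mulVec_mulVec]

theorem act_one (M : MinPiece Q S r) {d : ι → F} (hd : d ∈ M.D) : M.act 1 d = d := by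
  have h := M.act_mk 1 hd
  rw [map_one, Matrix.one_mulVec] at h
  exact h

theorem act_zero (M : MinPiece Q S r) {d : ι → F} (hd : d ∈ M.D) : M.act 0 d = 0 := by
  have h := M.act_mk 0 hd
  rw [map_zero, Matrix.zero_mulVec] at h
  exact h

theorem act_neg (M : MinPiece Q S r) (a : M.A) {d : ι → F} (hd : d ∈ M.D) : M.act (-a) d = -M.act a d := by
  have h := M.act_add a (-a) hd
  rw [add_neg_cancel, M.act_zero hd] at h
  exact (neg_eq_of_add_eq_zero_right h.symm).symm

theorem act_sub (M : MinPiece Q S r) (a b : M.A) {d : ι → F} (hd : d ∈ M.D) : M.act (a - b) d = M.act a d - M.act b d := by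
  rw [sub_eq_add_neg, M.act_add _ _ hd, M.act_neg _ hd, sub_eq_add_neg]

theorem act_algebraMap (M : MinPiece Q S r) (c : F) {d : ι → F} (hd : d ∈ M.D) :
    M.act (algebraMap F M.A c) d = c • d := by
  have h := M.act_mk (C c) hd
  rw [aeval_C, Algebra.algebraMap_eq_smul_one, Matrix.smul_mulVec, Matrix.one_mulVec] at h
  exact h

theorem act_ext (M : MinPiece Q S r) {a b : M.A} (h : ∀ d ∈ M.D, M.act a d = M.act b d) : a = b := by
  obtain ⟨P, rfl⟩ := Ideal.Quotient.mk_surjective a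
  obtain ⟨P', rfl⟩ := Ideal.Quotient.mk_surjective b
  apply Ideal.Quotient.eq.mpr
  intro d hd
  have h' := h d hd
  rw [M.act_mk _ hd, M.act_mk _ hd] at h'
  rw [map_sub, Matrix.sub_mulVec, h', sub_self]

theorem act_comm (M : MinPiece Q S r) (a b : M.A) {d : ι → F} (hd : d ∈ M.D) :
    M.act a (M.act b d) = M.act b (M.act a d) := by
  rw [← M.act_mul _ _ hd, ← M.act_mul _ _ hd, mul_comm]

/-- the generator: the class of `X`, acting as `S` -/
noncomputable def theta (M : MinPiece Q S r) : M.A := M.cls X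

theorem act_theta (M : MinPiece Q S r) {d : ι → F} (hd : d ∈ M.D) : M.act M.theta d = S *ᵥ d := by
  unfold theta
  rw [M.act_mk _ hd, aeval_X]

theorem adj_other (M : MinPiece Q S r) (P : F[X]) (u v : ι → F) :
    QuadraticMap.polar ⇑Q ((aeval S (expand F (r - 1) P)) *ᵥ u) v
      = QuadraticMap.polar ⇑Q u ((aeval S P) *ᵥ v) := by
  rw [QuadraticMap.polar_comm, ← M.adj_aeval, QuadraticMap.polar_comm]

theorem expand_mem (M : MinPiece Q S r) {P : F[X]} (hP : P ∈ annIdeal S M.D) : expand F (r - 1) P ∈ annIdeal S M.D := by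
  intro d hd
  apply M.nondeg _ (M.aeval_mem _ hd)
  intro d' hd'
  rw [M.adj_other, hP d' hd', QuadraticMap.polar_zero_right]

/-- the adjoint involution of `M.A` -/
noncomputable def tau (M : MinPiece Q S r) : M.A →+* M.A :=
  Ideal.quotientMap (annIdeal S M.D) ((expand F (r - 1) : F[X] →ₐ[F] F[X]) : F[X] →+* F[X])
    (fun _ hP => M.expand_mem hP)

theorem tau_mk (M : MinPiece Q S r) (P : F[X]) : M.tau (M.cls P) = M.cls (expand F (r - 1) P) := by
  rfl

theorem tau_tau (M : MinPiece Q S r) (a : M.A) : M.tau (M.tau a) = a := by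
  obtain ⟨P, rfl⟩ := Ideal.Quotient.mk_surjective a
  rw [tau_mk, tau_mk]
  apply Ideal.Quotient.eq.mpr
  intro d hd
  rw [map_sub, Matrix.sub_mulVec, expand_aeval, expand_aeval, M.Si_pow, sub_self]

theorem adj_act (M : MinPiece Q S r) (a : M.A) {d d' : ι → F} (hd : d ∈ M.D) (hd' : d' ∈ M.D) :
    QuadraticMap.polar ⇑Q (M.act a d) d' = QuadraticMap.polar ⇑Q d (M.act (M.tau a) d') := by
  obtain ⟨P, rfl⟩ := Ideal.Quotient.mk_surjective a
  rw [tau_mk, M.act_mk _ hd, M.act_mk _ hd', M.adj_aeval]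

theorem tau_algebraMap (M : MinPiece Q S r) (c : F) : M.tau (algebraMap F M.A c) = algebraMap F M.A c := by
  have h := M.tau_mk (C c)
  rw [expand_C] at h
  exact h

theorem tau_theta (M : MinPiece Q S r) : M.tau M.theta = M.theta ^ (r - 1) := by
  unfold theta
  rw [tau_mk, expand_X, cls_pow]

theorem theta_pow (M : MinPiece Q S r) : M.theta ^ r = 1 := by
  apply M.act_ext
  intro d hd
  unfold theta
  rw [← cls_pow, M.act_mk _ hd, M.act_one hd, map_pow, aeval_X, M.pow, Matrix.one_mulVec]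

theorem mk_phi (M : MinPiece Q S r) : M.cls (∑ i ∈ Finset.range r, X ^ i) = 0 := by
  rw [cls_eq_zero]
  intro d hd
  rw [map_sum]
  simp only [map_pow, aeval_X]
  exact M.phi d hd

end MinPiece

end

end Cfsg.Agent.Lib.helper42
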