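import Mathlib
import Cfsg.Agent.Lib.helper42.MinPieceA

/-!
# The ring of a minimal piece

The ring `M.A` of a `MinPiece` satisfies the hypotheses of the abstract statement of `UnitaryCore`, and
`a ↦ a • x` is a bijection from `M.A` onto `M.D`.
-/

set_option autoImplicit false
set_option linter.unusedSectionVars false

open Polynomial Matrix

namespace Cfsg.Agent.Lib.helper42

section

variable {F : Type*} [Field F] {ι : Type} [Fintype ι] [DecidableEq ι]

theorem half_polar_self (h2 : (2 : F) ≠ 0) (Q : QuadraticForm F (ι → F)) (v : ι → F) :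
    2⁻¹ * QuadraticMap.polar ⇑Q v v = Q v := by
  rw [QuadraticMap.polar_self, two_nsmul]
  field_simp
  ring

theorem sum_neg_one_pow_odd {r : ℕ} (hr : Odd r) : ∑ i ∈ Finset.range r, (-1 : F) ^ i = 1 := by
  obtain ⟨t, rfl⟩ := hr
  induction t with
  | zero => simp
  | succ t ih =>
    rw [show 2 * (t + 1) + 1 = (2 * t + 1) + 1 + 1 by ring, Finset.sum_range_succ,
      Finset.sum_range_succ, ih]
    ring

namespace MinPiece

variable {Q : QuadraticForm F (ι → F)} {S : Matrix ι ι F} {r : ℕ}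

/-- the trace-like functional `a ↦ ½ ⟨a x, x⟩` -/
noncomputable def lam (M : MinPiece Q S r) : M.A →+ F where
  toFun a := 2⁻¹ * QuadraticMap.polar ⇑Q (M.act a M.x) M.x
  map_zero' := by rw [M.act_zero M.x_mem, QuadraticMap.polar_zero_left, mul_zero]
  map_add' a b := by rw [M.act_add _ _ M.x_mem, QuadraticMap.polar_add_left, mul_add]

theorem lam_apply (M : MinPiece Q S r) (a : M.A) :
    M.lam a = 2⁻¹ * QuadraticMap.polar ⇑Q (M.act a M.x) M.x := rfl

theorem lam_tau (M : MinPiece Q S r) (a : M.A) : M.lam (M.tau a) = M.lam a := by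
  rw [lam_apply, lam_apply, M.adj_act _ M.x_mem M.x_mem, M.tau_tau, QuadraticMap.polar_comm]

theorem lam_norm (M : MinPiece Q S r) (a : M.A) : M.lam (a * M.tau a) = Q (M.act a M.x) := by
  rw [lam_apply, mul_comm a, M.act_mul _ _ M.x_mem, M.adj_act _ (M.act_mem _ M.x_mem) M.x_mem,
    M.tau_tau, half_polar_self M.two_ne]

theorem lam_one (M : MinPiece Q S r) : M.lam 1 = Q M.x := by
  rw [lam_apply, M.act_one M.x_mem, half_polar_self M.two_ne]

theorem theta_unit (M : MinPiece Q S r) : IsUnit (M.theta - M.tau M.theta) := by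
  obtain ⟨G₁, hG₁⟩ : (X - C (1 : F)) ∣ (∑ i ∈ Finset.range r, X ^ i)
      - C (eval 1 (∑ i ∈ Finset.range r, (X : F[X]) ^ i)) := X_sub_C_dvd_sub_C_eval
  obtain ⟨G₂, hG₂⟩ : (X - C (-1 : F)) ∣ (∑ i ∈ Finset.range r, X ^ i)
      - C (eval (-1) (∑ i ∈ Finset.range r, (X : F[X]) ^ i)) := X_sub_C_dvd_sub_C_eval
  rw [eval_geom_sum] at hG₁ hG₂
  have e1 : ∑ i ∈ Finset.range r, (1 : F) ^ i = r := by simp
  have e2 : ∑ i ∈ Finset.range r, (-1 : F) ^ i = 1 := sum_neg_one_pow_odd M.odd
  rw [e1] at hG₁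
  rw [e2] at hG₂
  have h1 : (M.theta - 1) * M.cls G₁ = -(algebraMap F M.A r) := by
    have h := congrArg M.cls hG₁
    rw [cls_sub, M.mk_phi, zero_sub, cls_C, cls_mul, cls_sub, cls_C, map_one] at h
    exact h.symm
  have h2 : (M.theta + 1) * M.cls G₂ = -1 := by
    have h := congrArg M.cls hG₂
    rw [cls_sub, M.mk_phi, zero_sub, cls_C, map_one, cls_mul, cls_sub, cls_C, map_neg, map_one,
      sub_neg_eq_add] at h
    exact h.symm
  have h3 : M.tau M.theta * M.theta = 1 := by
    rw [M.tau_theta, ← pow_succ, Nat.sub_add_cancel M.r_pos, M.theta_pow]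
  have h4 : (M.theta - M.tau M.theta) * (M.theta * M.cls G₁ * M.cls G₂) = algebraMap F M.A r := by
    have h5 : (M.theta - M.tau M.theta) * (M.theta * M.cls G₁ * M.cls G₂)
        = ((M.theta - 1) * M.cls G₁) * ((M.theta + 1) * M.cls G₂)
          + (1 - M.tau M.theta * M.theta) * (M.cls G₁ * M.cls G₂) := by ring
    rw [h5, h1, h2, h3, sub_self, zero_mul, add_zero]
    ring
  have h5 : IsUnit (algebraMap F M.A (r : F)) := (isUnit_iff_ne_zero.mpr M.rne).map (algebraMap F M.A)
  rw [← h4] at h5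
  exact isUnit_of_mul_isUnit_left h5

theorem two_unit (M : MinPiece Q S r) : IsUnit (2 : M.A) := by
  have h := (isUnit_iff_ne_zero.mpr M.two_ne).map (algebraMap F M.A)
  rwa [map_ofNat] at h

/-- `M.A` is von Neumann regular -/
theorem reg (M : MinPiece Q S r) (n : M.A) : ∃ y, n = n * n * y := by
  classical
  obtain ⟨N, rfl⟩ := M.cls_surj n
  have hsq : Squarefree (X ^ r - C (1 : F)) :=
    (separable_X_pow_sub_C (1 : F) M.rne one_ne_zero).squarefree
  have hT : M.cls (X ^ r - C 1) = 0 := by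
    have h := M.theta_pow
    unfold theta at h
    rw [cls_sub, cls_pow, cls_C, map_one, h, sub_self]
  obtain ⟨G, hG⟩ : ∃ G, G = EuclideanDomain.gcd (N * N) (X ^ r - C (1 : F)) := ⟨_, rfl⟩
  have hGT : G ∣ X ^ r - C 1 := by
    rw [hG]
    exact EuclideanDomain.gcd_dvd_right _ _
  have hGN2 : G ∣ N ^ 2 := by
    rw [hG, pow_two]
    exact EuclideanDomain.gcd_dvd_left _ _
  have hGN : G ∣ N := (Squarefree.dvd_pow_iff_dvd (hsq.squarefree_of_dvd hGT) two_ne_zero).mp hGN2
  obtain ⟨c, hc⟩ := hGN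
  have hbez := EuclideanDomain.gcd_eq_gcd_ab (N * N) (X ^ r - C (1 : F))
  rw [← hG] at hbez
  refine ⟨M.cls (EuclideanDomain.gcdA (N * N) (X ^ r - C (1 : F)) * c), ?_⟩
  calc M.cls N = M.cls (G * c) := congrArg M.cls hc
    _ = M.cls ((N * N * EuclideanDomain.gcdA (N * N) (X ^ r - C (1 : F))
          + (X ^ r - C (1 : F)) * EuclideanDomain.gcdB (N * N) (X ^ r - C (1 : F))) * c) := by
        rw [← hbez]
    _ = M.cls N * M.cls N * M.cls (EuclideanDomain.gcdA (N * N) (X ^ r - C (1 : F)) * c) := by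
        rw [cls_mul, cls_add, cls_mul, M.cls_mul (X ^ r - C (1 : F)), hT, zero_mul, add_zero, cls_mul,
          cls_mul]
        ring

/-- the self-adjoint elements of `M.A` are `0` or units -/
theorem hmin (M : MinPiece Q S r) (n : M.A) (hn : M.tau n = n) : n = 0 ∨ IsUnit n := by
  obtain ⟨y, hy⟩ := M.reg n
  obtain ⟨K, hK⟩ : ∃ K : Submodule F (ι → F), ∀ d, d ∈ K ↔ (d ∈ M.D ∧ M.act n d = 0) :=
    ⟨{ carrier := {d | d ∈ M.D ∧ M.act n d = 0}
       add_mem' := fun {a b} ha hb =>
         ⟨M.D.add_mem ha.1 hb.1, by rw [M.act_add_vec, ha.2, hb.2, add_zero]⟩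
       zero_mem' := ⟨M.D.zero_mem, M.act_zero_vec n⟩
       smul_mem' := fun c {a} ha =>
         ⟨M.D.smul_mem c ha.1, by rw [M.act_smul_vec, ha.2, smul_zero]⟩ }, fun d => Iff.rfl⟩
  have hKD : K ≤ M.D := fun d hd => ((hK d).mp hd).1
  have hproj : ∀ d' ∈ M.D, d' - M.act (n * y) d' ∈ K := by
    intro d' hd'
    rw [hK]
    refine ⟨M.D.sub_mem hd' (M.act_mem _ hd'), ?_⟩
    rw [M.act_sub_vec, ← M.act_mul _ _ hd', ← mul_assoc, ← hy, sub_self]
  by_cases hbot : K = ⊥
  · right
    have h1 : n * y = 1 := by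
      apply M.act_ext
      intro d hd
      have h := hproj d hd
      rw [hbot, Submodule.mem_bot, sub_eq_zero] at h
      rw [M.act_one hd, ← h]
    exact IsUnit.of_mul_eq_one _ h1
  · left
    have hKeq : K = M.D := by
      apply M.minimal K hKD hbot
      · intro d hd
        rw [hK] at hd ⊢
        refine ⟨M.inv d hd.1, ?_⟩
        rw [← M.act_theta hd.1, M.act_comm _ _ hd.1, hd.2, M.act_zero_vec]
      · intro k hk hperp
        rw [hK] at hk
        apply M.nondeg k hk.1
        intro d' hd'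
        have h1 : d' = (d' - M.act (n * y) d') + M.act (n * y) d' := by abel
        rw [h1, QuadraticMap.polar_add_right, hperp _ (hproj d' hd'), zero_add, M.act_mul _ _ hd',
          QuadraticMap.polar_comm, M.adj_act _ (M.act_mem _ hd') hk.1, hn, hk.2,
          QuadraticMap.polar_zero_right]
    apply M.act_ext
    intro d hd
    rw [M.act_zero hd]
    rw [← hKeq] at hd
    exact ((hK d).mp hd).2

theorem exists_n1 (M : MinPiece Q S r) : ∃ n₁ : M.A, M.tau n₁ = n₁ ∧ M.lam n₁ = 1 := by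
  refine ⟨algebraMap F M.A (Q M.x)⁻¹, M.tau_algebraMap _, ?_⟩
  rw [lam_apply, M.act_algebraMap _ M.x_mem, QuadraticMap.polar_smul_left, smul_eq_mul, mul_left_comm,
    half_polar_self M.two_ne, inv_mul_cancel₀ M.x_ne]

theorem finite_A [Finite F] (M : MinPiece Q S r) : Finite M.A := by
  have hinj : Function.Injective (fun (a : M.A) (d : M.D) => M.act a (d : ι → F)) := by
    intro a b h
    apply M.act_ext
    intro d hd
    exact congrFun h ⟨d, hd⟩
  exact Finite.of_injective _ hinj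

/-- the form `(a, b) ↦ lam (a b)` is non-degenerate -/
theorem lam_nondeg (M : MinPiece Q S r) (z : M.A) (h : ∀ y, M.lam (y * z) = 0) : z = 0 := by
  have hτ : ∀ w : M.A, (∀ y, M.lam (y * w) = 0) → ∀ y, M.lam (y * M.tau w) = 0 := by
    intro w hw y
    rw [← M.lam_tau, map_mul, M.tau_tau]
    exact hw _
  have key : ∀ w : M.A, (∀ y, M.lam (y * w) = 0) → M.tau w = w → w = 0 := by
    intro w hw hfix
    rcases M.hmin w hfix with h0 | h0
    · exact h0
    · exfalso
      obtain ⟨u, rfl⟩ := h0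
      have h1 := hw ((u⁻¹ : M.Aˣ) : M.A)
      rw [Units.inv_mul, M.lam_one] at h1
      exact M.x_ne h1
  have hskew : ∀ w : M.A, (∀ y, M.lam (y * w) = 0) → M.tau w = -w := by
    intro w hw
    have h1 : w + M.tau w = 0 := by
      apply key
      · intro y
        rw [mul_add, map_add, hw, hτ w hw, add_zero]
      · rw [map_add, M.tau_tau, add_comm]
    exact (neg_eq_of_add_eq_zero_right h1).symm
  have h1 := hskew z h
  have h2 := hskew (M.theta * z) (fun y => by
    rw [← mul_assoc]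
    exact h _)
  rw [map_mul, h1] at h2
  have h3 : (M.theta - M.tau M.theta) * z = 0 := by linear_combination h2
  exact M.theta_unit.mul_right_eq_zero.mp h3

theorem phi_inj (M : MinPiece Q S r) {a b : M.A} (h : M.act a M.x = M.act b M.x) : a = b := by
  have hz : M.act (a - b) M.x = 0 := by rw [M.act_sub _ _ M.x_mem, h, sub_self]
  have h1 : a - b = 0 := by
    apply M.lam_nondeg
    intro y
    rw [lam_apply, M.act_mul _ _ M.x_mem, hz, M.act_zero_vec, QuadraticMap.polar_zero_left, mul_zero]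
  exact sub_eq_zero.mp h1

theorem phi_surj (M : MinPiece Q S r) {d : ι → F} (hd : d ∈ M.D) : ∃ a : M.A, M.act a M.x = d := by
  obtain ⟨E, hE⟩ : ∃ E : Submodule F (ι → F), ∀ d, d ∈ E ↔ ∃ a : M.A, M.act a M.x = d :=
    ⟨{ carrier := {d | ∃ a : M.A, M.act a M.x = d}
       add_mem' := by
         rintro _ _ ⟨a, rfl⟩ ⟨b, rfl⟩
         exact ⟨a + b, M.act_add _ _ M.x_mem⟩
       zero_mem' := ⟨0, M.act_zero M.x_mem⟩
       smul_mem' := by
         rintro c _ ⟨a, rfl⟩
         exact ⟨algebraMap F M.A c * a, by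
           rw [M.act_mul _ _ M.x_mem, M.act_algebraMap _ (M.act_mem _ M.x_mem)]⟩ }, fun d => Iff.rfl⟩
  have hED : E ≤ M.D := by
    intro d hd
    obtain ⟨a, rfl⟩ := (hE d).mp hd
    exact M.act_mem _ M.x_mem
  have hx0 : M.x ≠ 0 := by
    intro h
    apply M.x_ne
    rw [h, map_zero]
  have hEbot : E ≠ ⊥ := by
    intro h
    have h1 : M.x ∈ E := (hE _).mpr ⟨1, M.act_one M.x_mem⟩
    rw [h, Submodule.mem_bot] at h1
    exact hx0 h1
  have hEeq : E = M.D := by
    apply M.minimal E hED hEbot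
    · intro d hd
      obtain ⟨a, rfl⟩ := (hE d).mp hd
      rw [hE]
      exact ⟨M.theta * a, by rw [M.act_mul _ _ M.x_mem, M.act_theta (M.act_mem _ M.x_mem)]⟩
    · intro e he hperp
      obtain ⟨a, rfl⟩ := (hE e).mp he
      have ha : a = 0 := by
        apply M.lam_nondeg
        intro y
        have h1 := hperp (M.act (M.tau y) M.x) ((hE _).mpr ⟨_, rfl⟩)
        rw [lam_apply, M.act_mul _ _ M.x_mem, M.adj_act _ (M.act_mem _ M.x_mem) M.x_mem, h1, mul_zero]
      rw [ha, M.act_zero M.x_mem]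
  rw [← hEeq] at hd
  exact (hE d).mp hd

end MinPiece

end

end Cfsg.Agent.Lib.helper42
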