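import Mathlib
import Cfsg.Agent.Lib.helper42.MinPieceB
import Cfsg.Agent.Lib.helper49.Spinor

/-!
# Gluing: unitary elements of the ring of a minimal piece as isometries of the whole space

A unitary element `u` of `M.A` acts on `D` as an isometry; extending by the identity on the orthogonal
complement of `D` gives an isometry `M.glueG u` of `Q` commuting with `S`.
-/

set_option autoImplicit false
set_option linter.unusedSectionVars false

open Polynomial Matrix

namespace Cfsg.Agent.Lib.helper42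

section

variable {F : Type*} [Field F] {ι : Type} [Fintype ι] [DecidableEq ι]

namespace MinPiece

variable {Q : QuadraticForm F (ι → F)} {S : Matrix ι ι F} {r : ℕ}

/-- the orthogonal complement of `D` -/
def Dp (M : MinPiece Q S r) : Submodule F (ι → F) :=
  LinearMap.BilinForm.orthogonal (QuadraticMap.polarBilin Q) M.D

theorem mem_Dp (M : MinPiece Q S r) (w : ι → F) :
    w ∈ M.Dp ↔ ∀ d ∈ M.D, QuadraticMap.polar ⇑Q d w = 0 := Iff.rfl

theorem isCompl (M : MinPiece Q S r) : IsCompl M.D M.Dp := by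
  apply LinearMap.BilinForm.isCompl_orthogonal_of_restrict_nondegenerate
  · intro x y h
    rw [QuadraticMap.polarBilin_apply_apply] at h ⊢
    rw [QuadraticMap.polar_comm]
    exact h
  · constructor
    · intro x hx
      apply Subtype.ext
      apply M.nondeg x.1 x.2
      intro d' hd'
      exact hx ⟨d', hd'⟩
    · intro y hy
      apply Subtype.ext
      apply M.nondeg y.1 y.2
      intro d' hd'
      have h := hy ⟨d', hd'⟩
      rw [QuadraticMap.polar_comm]
      exact h

/-- the projection onto `D` along its orthogonal complement -/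
noncomputable def proj (M : MinPiece Q S r) : (ι → F) →ₗ[F] (ι → F) :=
  M.D.projection M.Dp M.isCompl

theorem proj_mem (M : MinPiece Q S r) (v : ι → F) : M.proj v ∈ M.D :=
  Submodule.projection_apply_mem _ _

theorem proj_of_mem (M : MinPiece Q S r) {d : ι → F} (hd : d ∈ M.D) : M.proj d = d :=
  Submodule.projection_apply_of_mem_left _ hd

theorem proj_eq_zero_iff (M : MinPiece Q S r) (v : ι → F) : M.proj v = 0 ↔ v ∈ M.Dp :=
  Submodule.projection_apply_eq_zero_iff _

theorem sub_proj_mem (M : MinPiece Q S r) (v : ι → F) : v - M.proj v ∈ M.Dp :=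
  Submodule.sub_projection_mem _ _

theorem polar_mem_perp (M : MinPiece Q S r) {d w : ι → F} (hd : d ∈ M.D) (hw : w ∈ M.Dp) :
    QuadraticMap.polar ⇑Q d w = 0 := hw d hd

theorem Q_add_perp (M : MinPiece Q S r) {d w : ι → F} (hd : d ∈ M.D) (hw : w ∈ M.Dp) :
    Q (d + w) = Q d + Q w := by
  have h := M.polar_mem_perp hd hw
  unfold QuadraticMap.polar at h
  linear_combination h

theorem Q_split (M : MinPiece Q S r) (v : ι → F) : Q v = Q (M.proj v) + Q (v - M.proj v) := by
  rw [← M.Q_add_perp (M.proj_mem v) (M.sub_proj_mem v), add_sub_cancel]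

/-- a unitary element acts isometrically on `D` -/
theorem Q_act (M : MinPiece Q S r) (u : M.A) (hu : u * M.tau u = 1) {d : ι → F} (hd : d ∈ M.D) :
    Q (M.act u d) = Q d := by
  rw [← half_polar_self M.two_ne Q (M.act u d), M.adj_act _ hd (M.act_mem _ hd), ← M.act_mul _ _ hd,
    mul_comm (M.tau u) u, hu, M.act_one hd, half_polar_self M.two_ne]

/-- the matrix of the projection -/
noncomputable def P (M : MinPiece Q S r) : Matrix ι ι F := LinearMap.toMatrix' M.proj

theorem P_mulVec (M : MinPiece Q S r) (v : ι → F) : M.P *ᵥ v = M.proj v :=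
  LinearMap.toMatrix'_mulVec _ _

/-- `a` on `D`, the identity on the orthogonal complement -/
noncomputable def glue (M : MinPiece Q S r) (a : M.A) : Matrix ι ι F :=
  aeval S (Quotient.out a) * M.P + (1 - M.P)

theorem glue_mulVec (M : MinPiece Q S r) (a : M.A) (v : ι → F) :
    M.glue a *ᵥ v = M.act a (M.proj v) + (v - M.proj v) := by
  unfold glue act
  rw [Matrix.add_mulVec, ← Matrix.mulVec_mulVec, Matrix.sub_mulVec, Matrix.one_mulVec, M.P_mulVec]

theorem proj_glue (M : MinPiece Q S r) (a : M.A) (v : ι → F) :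
    M.proj (M.glue a *ᵥ v) = M.act a (M.proj v) := by
  rw [M.glue_mulVec, map_add, M.proj_of_mem (M.act_mem _ (M.proj_mem v)),
    (M.proj_eq_zero_iff _).mpr (M.sub_proj_mem v), add_zero]

theorem glue_sub_proj (M : MinPiece Q S r) (a : M.A) (v : ι → F) :
    M.glue a *ᵥ v - M.proj (M.glue a *ᵥ v) = v - M.proj v := by
  rw [M.proj_glue, M.glue_mulVec, add_sub_cancel_left]

theorem glue_mul (M : MinPiece Q S r) (a b : M.A) : M.glue a * M.glue b = M.glue (a * b) := by
  apply mat_eq_of_mulVec
  intro v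
  rw [← Matrix.mulVec_mulVec, M.glue_mulVec a, M.proj_glue, M.glue_mulVec b, add_sub_cancel_left,
    M.glue_mulVec (a * b), M.act_mul _ _ (M.proj_mem v)]

theorem glue_one (M : MinPiece Q S r) : M.glue 1 = 1 := by
  apply mat_eq_of_mulVec
  intro v
  rw [M.glue_mulVec, M.act_one (M.proj_mem v), add_sub_cancel, Matrix.one_mulVec]

theorem glue_isom (M : MinPiece Q S r) (u : M.A) (hu : u * M.tau u = 1) (v : ι → F) :
    Q (M.glue u *ᵥ v) = Q v := by
  rw [M.glue_mulVec, M.Q_add_perp (M.act_mem _ (M.proj_mem v)) (M.sub_proj_mem v),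
    M.Q_act u hu (M.proj_mem v), ← M.Q_split]

theorem S_mem_Dp (M : MinPiece Q S r) {w : ι → F} (hw : w ∈ M.Dp) : S *ᵥ w ∈ M.Dp := by
  intro d hd
  have h := M.polar_S (S ^ (r - 1) *ᵥ d) w
  rw [Matrix.mulVec_mulVec, M.S_mul_Si, Matrix.one_mulVec] at h
  rw [QuadraticMap.polarBilin_apply_apply, h]
  exact hw _ (M.pow_mem _ hd)

theorem proj_S (M : MinPiece Q S r) (v : ι → F) : M.proj (S *ᵥ v) = S *ᵥ M.proj v := by
  have h1 : S *ᵥ v = S *ᵥ M.proj v + S *ᵥ (v - M.proj v) := by
    rw [← Matrix.mulVec_add, add_sub_cancel]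
  rw [h1, map_add, M.proj_of_mem (M.inv _ (M.proj_mem v)),
    (M.proj_eq_zero_iff _).mpr (M.S_mem_Dp (M.sub_proj_mem v)), add_zero]

theorem glue_comm_S (M : MinPiece Q S r) (a : M.A) : M.glue a * S = S * M.glue a := by
  apply mat_eq_of_mulVec
  intro v
  rw [← Matrix.mulVec_mulVec, ← Matrix.mulVec_mulVec, M.glue_mulVec, M.glue_mulVec, M.proj_S,
    Matrix.mulVec_add, Matrix.mulVec_sub, ← M.act_theta (M.proj_mem v),
    ← M.act_theta (M.act_mem _ (M.proj_mem v)), M.act_comm _ _ (M.proj_mem v)]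

/-- the isometry of `Q` defined by a unitary element of `M.A` -/
noncomputable def glueG (M : MinPiece Q S r) (u : unitaryUnits M.tau) : ↥(Cfsg.isometryGroup F ⇑Q) :=
  ⟨⟨M.glue ((u : M.Aˣ) : M.A), M.glue (((u : M.Aˣ)⁻¹ : M.Aˣ) : M.A),
      by rw [M.glue_mul, Units.mul_inv, M.glue_one],
      by rw [M.glue_mul, Units.inv_mul, M.glue_one]⟩,
    (Cfsg.Agent.Lib.helper49.mem_isometryGroup_iff _ _).mpr (fun v => M.glue_isom _ u.2 v)⟩

theorem glueG_val (M : MinPiece Q S r) (u : unitaryUnits M.tau) :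
    (((M.glueG u : ↥(Cfsg.isometryGroup F ⇑Q)) : GL ι F) : Matrix ι ι F)
      = M.glue ((u : M.Aˣ) : M.A) := rfl

end MinPiece

end

end Cfsg.Agent.Lib.helper42
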