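import Mathlib
import Cfsg.Agent.Lib.helper42.MinPieceC

/-!
# The spinor sign of a glued unitary element

The sign of the permutation of the level set `{Q = 1}` induced by `M.glueG g` equals the sign of the
permutation of `M.A` induced by multiplication with `g` on the level set `lam (a τ(a)) = 1`.
-/

set_option autoImplicit false
set_option linter.unusedSectionVars false

open Polynomial Matrix

namespace Cfsg.Agent.Lib.helper42

section

variable {F : Type*} [Field F] {ι : Type} [Fintype ι] [DecidableEq ι]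

namespace MinPiece

variable {Q : QuadraticForm F (ι → F)} {S : Matrix ι ι F} {r : ℕ}

open Classical in
/-- coordinates on `D`: the element `a` of `M.A` with `a x = d` -/
noncomputable def coord (M : MinPiece Q S r) (d : ι → F) : M.A :=
  if h : d ∈ M.D then Classical.choose (M.phi_surj h) else 0

theorem act_coord (M : MinPiece Q S r) {d : ι → F} (hd : d ∈ M.D) : M.act (M.coord d) M.x = d := by
  unfold coord
  rw [dif_pos hd]
  exact Classical.choose_spec (M.phi_surj hd)

theorem coord_act (M : MinPiece Q S r) (a : M.A) : M.coord (M.act a M.x) = a :=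
  M.phi_inj (M.act_coord (M.act_mem a M.x_mem))

theorem neg_ne_self_Dp (M : MinPiece Q S r) (w : M.Dp) (hw : w ≠ 0) : -w ≠ w := by
  intro h
  apply hw
  have h1 : (2 : F) • w = 0 := by
    rw [two_smul]
    nth_rewrite 1 [← h]
    exact neg_add_cancel w
  exact (smul_eq_zero.mp h1).resolve_left M.two_ne

variable [Fintype F]

/-- the spinor sign of `M.glueG g` -/
theorem spinorSign_glueG (M : MinPiece Q S r) [Fintype M.A] [DecidableEq M.A]
    (g : unitaryUnits M.tau) :
    Cfsg.Agent.Lib.helper49.spinorSign ⇑Q (M.glueG g)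
      = Equiv.Perm.sign (mulLevelHom M.tau M.lam 1 g) := by
  classical
  obtain ⟨Sg, hSg⟩ : ∃ Sg : Equiv.Perm (M.Dp × M.A), Sg = Equiv.prodCongrRight
      (fun w : M.Dp => (mulLevelHom M.tau M.lam (1 - Q (w : ι → F)) g : Equiv.Perm M.A)) := ⟨_, rfl⟩
  have hSgapp : ∀ t : M.Dp × M.A, Sg t = (t.1, mulLevelHom M.tau M.lam (1 - Q (t.1 : ι → F)) g t.2) := by
    intro t
    rw [hSg]
    rfl
  have hSgp : ∀ t : M.Dp × M.A, M.lam ((Sg t).2 * M.tau (Sg t).2) = 1 - Q ((Sg t).1 : ι → F)
      ↔ M.lam (t.2 * M.tau t.2) = 1 - Q (t.1 : ι → F) := by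
    intro t
    rw [hSgapp, mulLevelHom_level]
  have hmove : ∀ t : M.Dp × M.A, Sg t ≠ t → M.lam (t.2 * M.tau t.2) = 1 - Q (t.1 : ι → F) := by
    intro t ht
    by_contra h
    apply ht
    rw [hSgapp, mulLevelHom_apply_of_ne _ _ _ _ _ h]
  let e : Cfsg.Agent.Lib.helper49.Level ⇑Q 1
      ≃ {t : M.Dp × M.A // M.lam (t.2 * M.tau t.2) = 1 - Q (t.1 : ι → F)} :=
    { toFun := fun v => ⟨(⟨v.1 - M.proj v.1, M.sub_proj_mem v.1⟩, M.coord (M.proj v.1)), by
          show M.lam (M.coord (M.proj v.1) * M.tau (M.coord (M.proj v.1))) = 1 - Q (v.1 - M.proj v.1)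
          rw [M.lam_norm, M.act_coord (M.proj_mem _)]
          have h1 := M.Q_split v.1
          rw [v.2] at h1
          linear_combination -h1⟩
      invFun := fun t => ⟨M.act t.1.2 M.x + (t.1.1 : ι → F), by
          show Q (M.act t.1.2 M.x + (t.1.1 : ι → F)) = 1
          rw [M.Q_add_perp (M.act_mem _ M.x_mem) t.1.1.2, ← M.lam_norm, t.2]
          ring⟩
      left_inv := fun v => by
          apply Subtype.ext
          show M.act (M.coord (M.proj v.1)) M.x + (v.1 - M.proj v.1) = v.1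
          rw [M.act_coord (M.proj_mem _), add_sub_cancel]
      right_inv := fun t => by
          have hp : M.proj (M.act t.1.2 M.x + (t.1.1 : ι → F)) = M.act t.1.2 M.x := by
            rw [map_add, M.proj_of_mem (M.act_mem _ M.x_mem), (M.proj_eq_zero_iff _).mpr t.1.1.2,
              add_zero]
          apply Subtype.ext
          apply Prod.ext
          · apply Subtype.ext
            show M.act t.1.2 M.x + (t.1.1 : ι → F) - M.proj (M.act t.1.2 M.x + (t.1.1 : ι → F))
              = (t.1.1 : ι → F)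
            rw [hp, add_sub_cancel_left]
          · show M.coord (M.proj (M.act t.1.2 M.x + (t.1.1 : ι → F))) = t.1.2
            rw [hp, M.coord_act] }
  have he : ∀ v : Cfsg.Agent.Lib.helper49.Level ⇑Q 1,
      e (Cfsg.Agent.Lib.helper49.permHom ⇑Q 1 (M.glueG g) v) = (Sg.subtypePerm hSgp) (e v) := by
    intro v
    apply Subtype.ext
    have hlev : M.lam (M.coord (M.proj v.1) * M.tau (M.coord (M.proj v.1)))
        = 1 - Q (v.1 - M.proj v.1) := (e v).2
    show ((⟨M.glue ((g : M.Aˣ) : M.A) *ᵥ v.1 - M.proj (M.glue ((g : M.Aˣ) : M.A) *ᵥ v.1),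
        M.sub_proj_mem _⟩ : M.Dp), M.coord (M.proj (M.glue ((g : M.Aˣ) : M.A) *ᵥ v.1)))
      = Sg ((⟨v.1 - M.proj v.1, M.sub_proj_mem v.1⟩ : M.Dp), M.coord (M.proj v.1))
    rw [hSgapp]
    apply Prod.ext
    · apply Subtype.ext
      exact M.glue_sub_proj _ _
    · show M.coord (M.proj (M.glue ((g : M.Aˣ) : M.A) *ᵥ v.1))
        = mulLevelHom M.tau M.lam (1 - Q (v.1 - M.proj v.1)) g (M.coord (M.proj v.1))
      rw [mulLevelHom_apply_of_eq _ _ _ _ _ hlev, M.proj_glue]
      have h1 : M.act ((g : M.Aˣ) : M.A) (M.proj v.1)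
          = M.act (((g : M.Aˣ) : M.A) * M.coord (M.proj v.1)) M.x := by
        rw [M.act_mul _ _ M.x_mem, M.act_coord (M.proj_mem _)]
      rw [h1, M.coord_act]
  have h1 : Cfsg.Agent.Lib.helper49.spinorSign ⇑Q (M.glueG g)
      = Equiv.Perm.sign (Sg.subtypePerm hSgp) :=
    Equiv.Perm.sign_eq_sign_of_equiv _ _ e he
  rw [h1, Equiv.Perm.sign_subtypePerm Sg hSgp hmove, hSg, Equiv.Perm.sign_prodCongrRight]
  rw [prod_neg_pairing (fun w : M.Dp => Equiv.Perm.sign
    (mulLevelHom M.tau M.lam (1 - Q (w : ι → F)) g : Equiv.Perm M.A))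
    (fun w => by
      show Equiv.Perm.sign (mulLevelHom M.tau M.lam (1 - Q ((-w : M.Dp) : ι → F)) g)
        = Equiv.Perm.sign (mulLevelHom M.tau M.lam (1 - Q (w : ι → F)) g)
      rw [Submodule.coe_neg, QuadraticMap.map_neg])
    (fun w hw => M.neg_ne_self_Dp w hw)]
  show Equiv.Perm.sign (mulLevelHom M.tau M.lam (1 - Q (((0 : M.Dp)) : ι → F)) g) = _
  rw [Submodule.coe_zero, map_zero, sub_zero]

end MinPiece

end

end Cfsg.Agent.Lib.helper42
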