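import Mathlib
import Cfsg.Agent.Lib.helper42.MinPieceD
import Cfsg.Agent.Lib.helper42.TwoClassesSim
import Cfsg.Agent.Lib.helper42.Dickson

/-!
# An isometry of non-trivial spinor norm commuting with an isometry of odd order

`exists_commuting_spinor`: over a finite field of odd characteristic, an isometry `S ≠ 1` of odd order
prime to the characteristic commutes with an isometry of determinant `1` and spinor sign `-1`.
-/

set_option autoImplicit false
set_option linter.unusedSectionVars false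

open Polynomial Matrix Module

namespace Cfsg.Agent.Lib.helper42

section

variable {F : Type*} [Field F] {ι : Type} [Fintype ι] [DecidableEq ι]

namespace MinPiece

variable {Q : QuadraticForm F (ι → F)} {S : Matrix ι ι F} {r : ℕ}

theorem fixSub_glue (M : MinPiece Q S r) (u : M.A) (hu : IsUnit (u - 1)) :
    fixSub (M.glue u) = M.Dp := by
  ext v
  rw [mem_fixSub, M.glue_mulVec, ← M.proj_eq_zero_iff]
  constructor
  · intro h
    have h1 : M.act u (M.proj v) = M.proj v := by
      have h' := eq_sub_of_add_eq h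
      rw [sub_sub_cancel] at h'
      exact h'
    have h2 : M.act (u - 1) (M.proj v) = 0 := by
      rw [M.act_sub _ _ (M.proj_mem v), h1, M.act_one (M.proj_mem v), sub_self]
    obtain ⟨w, hw⟩ := hu
    have h3 : M.proj v = M.act ((w⁻¹ : M.Aˣ) : M.A) (M.act (u - 1) (M.proj v)) := by
      rw [← M.act_mul _ _ (M.proj_mem v), ← hw, Units.inv_mul, M.act_one (M.proj_mem v)]
    rw [h3, h2, M.act_zero_vec]
  · intro h
    rw [h, M.act_zero_vec, zero_add, sub_zero]

/-- the generator as a unitary unit -/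
noncomputable def thetaU (M : MinPiece Q S r) : unitaryUnits M.tau :=
  ⟨⟨M.theta, M.theta ^ (r - 1),
      by rw [← pow_succ', Nat.sub_add_cancel M.r_pos, M.theta_pow],
      by rw [← pow_succ, Nat.sub_add_cancel M.r_pos, M.theta_pow]⟩,
    by
      show M.theta * M.tau M.theta = 1
      rw [M.tau_theta, ← pow_succ', Nat.sub_add_cancel M.r_pos, M.theta_pow]⟩

theorem theta_ne_one (M : MinPiece Q S r) : M.theta ≠ 1 := by
  intro h
  have hu := M.theta_unit
  rw [h, map_one, sub_self] at hu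
  have h10 : (1 : M.A) = 0 := by
    obtain ⟨w, hw⟩ := hu
    rw [← Units.mul_inv w, hw, zero_mul]
  have h1 := M.lam_one
  rw [h10, map_zero] at h1
  exact M.x_ne h1.symm

theorem glue_pow (M : MinPiece Q S r) (a : M.A) (n : ℕ) : M.glue a ^ n = M.glue (a ^ n) := by
  induction n with
  | zero => rw [pow_zero, pow_zero, M.glue_one]
  | succ n ih => rw [pow_succ, pow_succ, ih, M.glue_mul]

variable [Fintype F]

theorem det_glue (M : MinPiece Q S r) (hQ : (QuadraticMap.polarBilin Q).Nondegenerate)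
    (hgen : Cfsg.Agent.Lib.helper17.reflSubgroup Q = ⊤) (g : unitaryUnits M.tau) (hg : g ≠ 1) :
    (M.glue ((g : M.Aˣ) : M.A)).det = 1 := by
  have hgu : IsUnit (((g : M.Aˣ) : M.A) - 1) :=
    unitary_sub_one_isUnit M.tau M.tau_tau M.reg M.hmin _ g.2
      (fun h => hg (Subtype.ext (Units.ext h)))
  have hθu : IsUnit (M.theta - 1) :=
    unitary_sub_one_isUnit M.tau M.tau_tau M.reg M.hmin _ M.thetaU.2 M.theta_ne_one
  have hfix : fixSub (M.glue ((g : M.Aˣ) : M.A)) = fixSub (M.glue M.theta) := by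
    rw [M.fixSub_glue _ hgu, M.fixSub_glue _ hθu]
  have hrk1 := rank_sub_one_add_finrank_fixSub (M.glue ((g : M.Aˣ) : M.A))
  have hrk2 := rank_sub_one_add_finrank_fixSub (M.glue M.theta)
  rw [hfix] at hrk1
  have hrank : (M.glue ((g : M.Aˣ) : M.A) - 1).rank = (M.glue M.theta - 1).rank := by omega
  have hdθ : (M.glue M.theta).det = 1 := by
    have hpow : (M.glue M.theta) ^ r = 1 := by
      rw [M.glue_pow, M.theta_pow, M.glue_one]
    rcases Cfsg.Agent.Lib.helper17.det_eq_one_or_neg_one_of_isometry Q hQ (M.glue M.theta)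
      (M.glue_isom _ M.thetaU.2) with h | h
    · exact h
    · exfalso
      have h1 := congrArg Matrix.det hpow
      rw [Matrix.det_pow, h, M.odd.neg_one_pow, Matrix.det_one] at h1
      exact M.two_ne (by linear_combination -h1)
  have hev : Even (M.glue M.theta - 1).rank :=
    (even_rank_iff_det M.two_ne Q hQ hgen (M.glueG M.thetaU)).mpr hdθ
  rw [← hrank] at hev
  exact (even_rank_iff_det M.two_ne Q hQ hgen (M.glueG g)).mp hev

end MinPiece

/-- existence of a minimal piece for a non-trivial isometry of odd order -/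
theorem exists_minPiece (h2 : (2 : F) ≠ 0) (Q : QuadraticForm F (ι → F))
    (hQ : (QuadraticMap.polarBilin Q).Nondegenerate) (S : Matrix ι ι F)
    (hS : ∀ v, Q (S *ᵥ v) = Q v) {r : ℕ} (hr : Odd r) (hrF : (r : F) ≠ 0) (hSr : S ^ r = 1)
    (hS1 : S ≠ 1) : Nonempty (MinPiece Q S r) := by
  classical
  obtain ⟨Φ, hΦ⟩ : ∃ Φ : Matrix ι ι F, Φ = ∑ i ∈ Finset.range r, S ^ i := ⟨_, rfl⟩
  have hSΦ : S * Φ = Φ := by
    have h := mul_geom_sum S r
    rw [hSr, sub_self, ← hΦ, sub_mul, one_mul, sub_eq_zero] at h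
    exact h
  have hΦS : Φ * S = Φ := by
    have h := geom_sum_mul S r
    rw [hSr, sub_self, ← hΦ, mul_sub, mul_one, sub_eq_zero] at h
    exact h
  have hpowΦ : ∀ i : ℕ, S ^ i * Φ = Φ := by
    intro i
    induction i with
    | zero => rw [pow_zero, one_mul]
    | succ i ih => rw [pow_succ, mul_assoc, hSΦ, ih]
  have hΦΦ : Φ * Φ = (r : F) • Φ := by
    conv_lhs => rw [hΦ, Finset.sum_mul]
    rw [← hΦ]
    simp only [hpowΦ]
    rw [Finset.sum_const, Finset.card_range, Nat.cast_smul_eq_nsmul]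
  have hpS : ∀ u v, QuadraticMap.polar ⇑Q (S *ᵥ u) (S *ᵥ v) = QuadraticMap.polar ⇑Q u v := by
    intro u v
    unfold QuadraticMap.polar
    rw [← Matrix.mulVec_add, hS, hS, hS]
  have hpSi : ∀ (i : ℕ) (u v : ι → F),
      QuadraticMap.polar ⇑Q (S ^ i *ᵥ u) (S ^ i *ᵥ v) = QuadraticMap.polar ⇑Q u v := by
    intro i
    induction i with
    | zero =>
      intro u v
      rw [pow_zero, Matrix.one_mulVec, Matrix.one_mulVec]
    | succ i ih =>
      intro u v
      rw [pow_succ', ← Matrix.mulVec_mulVec, ← Matrix.mulVec_mulVec, hpS, ih]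
  -- vectors killed by `Φ` are orthogonal to fixed vectors
  have hperp : ∀ d k : ι → F, Φ *ᵥ d = 0 → S *ᵥ k = k → QuadraticMap.polar ⇑Q d k = 0 := by
    intro d k hd hk
    have hk' : ∀ i : ℕ, S ^ i *ᵥ k = k := by
      intro i
      induction i with
      | zero => rw [pow_zero, Matrix.one_mulVec]
      | succ i ih => rw [pow_succ, ← Matrix.mulVec_mulVec, hk, ih]
    have h1 : QuadraticMap.polar ⇑Q (Φ *ᵥ d) k = (r : F) * QuadraticMap.polar ⇑Q d k := by
      rw [hΦ, Matrix.sum_mulVec, ← QuadraticMap.polarBilin_apply_apply, map_sum,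
        LinearMap.sum_apply]
      have h3 : ∀ i ∈ Finset.range r, (QuadraticMap.polarBilin Q) (S ^ i *ᵥ d) k
          = QuadraticMap.polar ⇑Q d k := by
        intro i _
        rw [QuadraticMap.polarBilin_apply_apply]
        nth_rewrite 1 [← hk' i]
        exact hpSi i d k
      rw [Finset.sum_congr rfl h3, Finset.sum_const, Finset.card_range, nsmul_eq_mul]
    rw [hd, QuadraticMap.polar_zero_left] at h1
    exact (mul_eq_zero.mp h1.symm).resolve_left hrF
  -- the candidates
  have hex : ∃ n : ℕ, ∃ D : Submodule F (ι → F), (D ≠ ⊥ ∧ (∀ d ∈ D, S *ᵥ d ∈ D) ∧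
      (∀ d ∈ D, Φ *ᵥ d = 0) ∧ (∀ d ∈ D, (∀ d' ∈ D, QuadraticMap.polar ⇑Q d d' = 0) → d = 0))
      ∧ finrank F D = n := by
    refine ⟨_, LinearMap.ker Φ.mulVecLin, ⟨?_, ?_, ?_, ?_⟩, rfl⟩
    · -- non-zero
      obtain ⟨v, hv⟩ : ∃ v, S *ᵥ v ≠ v := by
        by_contra hcon
        push Not at hcon
        apply hS1
        apply mat_eq_of_mulVec
        intro v
        rw [hcon v, Matrix.one_mulVec]
      intro hbot
      have hmem : S *ᵥ v - v ∈ LinearMap.ker Φ.mulVecLin := by
        rw [LinearMap.mem_ker, Matrix.mulVecLin_apply, Matrix.mulVec_sub, Matrix.mulVec_mulVec, hΦS,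
          sub_self]
      rw [hbot, Submodule.mem_bot] at hmem
      exact hv (sub_eq_zero.mp hmem)
    · intro d hd
      rw [LinearMap.mem_ker, Matrix.mulVecLin_apply] at hd ⊢
      rw [Matrix.mulVec_mulVec, hΦS, hd]
    · intro d hd
      rw [LinearMap.mem_ker, Matrix.mulVecLin_apply] at hd
      exact hd
    · intro d hd hdperp
      rw [LinearMap.mem_ker, Matrix.mulVecLin_apply] at hd
      apply hQ.1 d
      intro y
      rw [QuadraticMap.polarBilin_apply_apply]
      have hk : S *ᵥ ((r : F)⁻¹ • Φ *ᵥ y) = (r : F)⁻¹ • Φ *ᵥ y := by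
        rw [Matrix.mulVec_smul, Matrix.mulVec_mulVec, hSΦ]
      have hw : y - (r : F)⁻¹ • Φ *ᵥ y ∈ LinearMap.ker Φ.mulVecLin := by
        rw [LinearMap.mem_ker, Matrix.mulVecLin_apply, Matrix.mulVec_sub, Matrix.mulVec_smul,
          Matrix.mulVec_mulVec, hΦΦ, Matrix.smul_mulVec, smul_smul, inv_mul_cancel₀ hrF, one_smul,
          sub_self]
      have h1 : y = (y - (r : F)⁻¹ • Φ *ᵥ y) + (r : F)⁻¹ • Φ *ᵥ y := by abel
      rw [h1, QuadraticMap.polar_add_right, hdperp _ hw, hperp d _ hd hk, add_zero]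
  obtain ⟨D, ⟨hD1, hD2, hD3, hD4⟩, hDn⟩ := Nat.find_spec hex
  have hmin : ∀ E : Submodule F (ι → F), E ≤ D → E ≠ ⊥ → (∀ d ∈ E, S *ᵥ d ∈ E) →
      (∀ d ∈ E, (∀ d' ∈ E, QuadraticMap.polar ⇑Q d d' = 0) → d = 0) → E = D := by
    intro E hED hE1 hE2 hE4
    have h1 : Nat.find hex ≤ finrank F E :=
      Nat.find_min' hex ⟨E, ⟨hE1, hE2, fun d hd => hD3 d (hED hd), hE4⟩, rfl⟩
    rw [← hDn] at h1
    exact Submodule.eq_of_le_of_finrank_le hED h1
  obtain ⟨x, hxD, hx⟩ : ∃ x ∈ D, Q x ≠ 0 := by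
    by_contra hcon
    push Not at hcon
    apply hD1
    rw [eq_bot_iff]
    intro d hd
    rw [Submodule.mem_bot]
    apply hD4 d hd
    intro d' hd'
    unfold QuadraticMap.polar
    rw [hcon _ (D.add_mem hd hd'), hcon _ hd, hcon _ hd', sub_zero, sub_zero]
  exact ⟨{ two_ne := h2, isom := hS, pow := hSr, odd := hr, rne := hrF, D := D, inv := hD2
           phi := fun d hd => by rw [← hΦ]; exact hD3 d hd
           nondeg := hD4, minimal := hmin, x := x, x_mem := hxD, x_ne := hx }⟩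

variable [Fintype F]

/-- **(K2)** a non-trivial isometry of odd order prime to the characteristic commutes with an isometry
of determinant `1` and spinor sign `-1` -/
theorem exists_commuting_spinor (h2 : (2 : F) ≠ 0) (Q : QuadraticForm F (ι → F))
    (hQ : (QuadraticMap.polarBilin Q).Nondegenerate)
    (hgen : Cfsg.Agent.Lib.helper17.reflSubgroup Q = ⊤) (S : Matrix ι ι F)
    (hS : ∀ v, Q (S *ᵥ v) = Q v) {r : ℕ} (hr : Odd r) (hrF : (r : F) ≠ 0) (hSr : S ^ r = 1)
    (hS1 : S ≠ 1) :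
    ∃ z : ↥(Cfsg.isometryGroup F ⇑Q),
      ((z : GL ι F) : Matrix ι ι F) * S = S * ((z : GL ι F) : Matrix ι ι F) ∧
      ((z : GL ι F) : Matrix ι ι F).det = 1 ∧ Cfsg.Agent.Lib.helper49.spinorSign ⇑Q z = -1 := by
  classical
  obtain ⟨M⟩ := exists_minPiece h2 Q hQ S hS hr hrF hSr hS1
  have hfin : Finite M.A := M.finite_A
  letI : Fintype M.A := Fintype.ofFinite _
  obtain ⟨n₁, hn₁, hl₁⟩ := M.exists_n1
  obtain ⟨g, hg1, hsign⟩ := exists_unitary_odd M.tau M.tau_tau M.two_unit M.hmin M.theta M.theta_unit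
    M.lam n₁ hn₁ hl₁
  refine ⟨M.glueG g, M.glue_comm_S _, M.det_glue hQ hgen g hg1, ?_⟩
  rw [M.spinorSign_glueG, hsign]

end

end Cfsg.Agent.Lib.helper42
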