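import Cfsg.Agent.Lib.helper42.GammaOddOut
import Cfsg.Agent.Lib.helper42.FormsNondeg

/-!
Semisimilarities of the minus-type form `Σ xᵢ yᵢ + z₁² + a z₁ z₂ + b z₂²` for every field automorphism:
the Frobenius map of the quadratic extension written in coordinates (a block `1 ⊕ [[1, c], [0, d]]`), and
generation of the automorphism group of a finite field by the Frobenius automorphism.
-/

set_option autoImplicit false
set_option linter.unusedSectionVars false

namespace Cfsg.Agent.Lib.helper42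

open Matrix Cfsg

section
variable {F : Type*} [Field F]

/-- the block matrix `1 ⊕ [[1, c], [0, d]]` -/
def minusBlockMat (m : ℕ) (c d : F) :
    Matrix ((Fin m ⊕ Fin m) ⊕ Fin 2) ((Fin m ⊕ Fin m) ⊕ Fin 2) F :=
  Matrix.fromBlocks (1 : Matrix (Fin m ⊕ Fin m) (Fin m ⊕ Fin m) F)
    (0 : Matrix (Fin m ⊕ Fin m) (Fin 2) F) (0 : Matrix (Fin 2) (Fin m ⊕ Fin m) F) !![1, c; 0, d]

theorem minusBlockMat_mulVec_inl (m : ℕ) (c d : F) (x : (Fin m ⊕ Fin m) ⊕ Fin 2 → F)
    (i : Fin m ⊕ Fin m) : (minusBlockMat m c d *ᵥ x) (Sum.inl i) = x (Sum.inl i) := by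
  rw [minusBlockMat, Matrix.fromBlocks_mulVec]
  simp

theorem minusBlockMat_mulVec_inr_zero (m : ℕ) (c d : F) (x : (Fin m ⊕ Fin m) ⊕ Fin 2 → F) :
    (minusBlockMat m c d *ᵥ x) (Sum.inr 0) = x (Sum.inr 0) + c * x (Sum.inr 1) := by
  rw [minusBlockMat, Matrix.fromBlocks_mulVec]
  simp [Matrix.mulVec, dotProduct, Fin.sum_univ_two]

theorem minusBlockMat_mulVec_inr_one (m : ℕ) (c d : F) (x : (Fin m ⊕ Fin m) ⊕ Fin 2 → F) :
    (minusBlockMat m c d *ᵥ x) (Sum.inr 1) = d * x (Sum.inr 1) := by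
  rw [minusBlockMat, Matrix.fromBlocks_mulVec]
  simp [Matrix.mulVec, dotProduct, Fin.sum_univ_two]

theorem minusBlockMat_form (m : ℕ) (a b a' b' c d : F) (h1 : 2 * c + a * d = a')
    (h2 : c ^ 2 + a * c * d + b * d ^ 2 = b') (x : (Fin m ⊕ Fin m) ⊕ Fin 2 → F) :
    quadFormMinus m F a b (minusBlockMat m c d *ᵥ x) = quadFormMinus m F a' b' x := by
  unfold quadFormMinus
  rw [minusBlockMat_mulVec_inr_zero, minusBlockMat_mulVec_inr_one]
  congr 1
  · refine Finset.sum_congr rfl (fun i _ => ?_)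
    rw [minusBlockMat_mulVec_inl, minusBlockMat_mulVec_inl]
  · rw [← h1, ← h2]
    ring

theorem minusBlockMat_det (m : ℕ) (c d : F) : (minusBlockMat m c d).det = d := by
  rw [minusBlockMat, Matrix.det_fromBlocks_zero₂₁, Matrix.det_one, Matrix.det_fin_two_of]
  ring

theorem quadFormMinus_map (σ : F ≃+* F) (m : ℕ) (a b : F) (v : (Fin m ⊕ Fin m) ⊕ Fin 2 → F) :
    quadFormMinus m F (σ a) (σ b) (fun i => σ (v i)) = σ (quadFormMinus m F a b v) := by
  simp only [quadFormMinus, map_add, map_sum, map_mul, map_pow]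

/-- `minusBlockMat` as an element of `GL` -/
noncomputable def minusBlockGL (m : ℕ) (c d : F) (hd : d ≠ 0) : GL ((Fin m ⊕ Fin m) ⊕ Fin 2) F :=
  Matrix.GeneralLinearGroup.mkOfDetNeZero (minusBlockMat m c d) (by rw [minusBlockMat_det]; exact hd)

theorem minusBlockGL_val (m : ℕ) (c d : F) (hd : d ≠ 0) :
    ((minusBlockGL m c d hd : GL ((Fin m ⊕ Fin m) ⊕ Fin 2) F) :
      Matrix ((Fin m ⊕ Fin m) ⊕ Fin 2) ((Fin m ⊕ Fin m) ⊕ Fin 2) F) = minusBlockMat m c d := rfl

/-- the semilinear map `v ↦ minusBlock σ(v)` multiplies the form by `1` after `σ` -/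
theorem minusBlock_semi (σ : F ≃+* F) (m : ℕ) (a b c d : F)
    (h1 : 2 * c + a * d = σ a) (h2 : c ^ 2 + a * c * d + b * d ^ 2 = σ b)
    (v : (Fin m ⊕ Fin m) ⊕ Fin 2 → F) :
    quadFormMinus m F a b (minusBlockMat m c d *ᵥ fun i => σ (v i)) = σ (quadFormMinus m F a b v) := by
  rw [minusBlockMat_form m a b (σ a) (σ b) c d h1 h2, quadFormMinus_map]

theorem minus_pair_of_block (σ : F ≃+* F) (m : ℕ) (a b c d : F) (hd : d ≠ 0)
    (h1 : 2 * c + a * d = σ a) (h2 : c ^ 2 + a * c * d + b * d ^ 2 = σ b) :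
    IsSemisimilarityPair (quadFormMinus m F a b) (minusBlockGL m c d hd) σ := by
  refine ⟨1, fun v => ?_⟩
  rw [Units.val_one, one_mul, minusBlockGL_val]
  exact minusBlock_semi σ m a b c d h1 h2 v

/-- the field automorphisms admitting a semisimilarity of `Q` form a subgroup -/
def pairSubgroup {ι : Type} [Fintype ι] [DecidableEq ι] (Q : (ι → F) → F) : Subgroup (RingAut F) where
  carrier := {σ | ∃ g : GL ι F, IsSemisimilarityPair Q g σ}
  mul_mem' := by
    rintro σ₁ σ₂ ⟨g₁, h₁⟩ ⟨g₂, h₂⟩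
    exact ⟨_, pair_mul Q g₁ g₂ σ₁ σ₂ h₁ h₂⟩
  one_mem' := ⟨1, pair_one Q⟩
  inv_mem' := by
    rintro σ ⟨g, h⟩
    exact ⟨_, pair_inv Q g σ h⟩

theorem mem_pairSubgroup {ι : Type} [Fintype ι] [DecidableEq ι] (Q : (ι → F) → F) (σ : RingAut F) :
    σ ∈ pairSubgroup Q ↔ ∃ g : GL ι F, IsSemisimilarityPair Q g σ := Iff.rfl

end

section
variable {F : Type*} [Field F] [Fintype F]

/-- the automorphism group of a finite field is generated by the Frobenius automorphism -/
theorem mem_zpowers_frobenius (p : ℕ) [Fact p.Prime] [CharP F p] (σ : RingAut F) :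
    σ ∈ Subgroup.zpowers (frobeniusEquiv F p : RingAut F) := by
  let _ : Algebra (ZMod p) F := ZMod.algebra F p
  let φ : (F ≃ₐ[ZMod p] F) →* RingAut F :=
    { toFun := fun a => a.toRingEquiv
      map_one' := rfl
      map_mul' := fun a b => rfl }
  obtain ⟨n, hn⟩ := (FiniteField.bijective_frobeniusAlgEquivOfAlgebraic_pow (ZMod p) F).2
    (AlgEquiv.ofRingEquiv (f := σ) (fun x =>
        RingHom.congr_fun (Subsingleton.elim ((σ : F →+* F).comp (algebraMap (ZMod p) F))
          (algebraMap (ZMod p) F)) x))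
  have h1 : φ (FiniteField.frobeniusAlgEquivOfAlgebraic (ZMod p) F) = (frobeniusEquiv F p : RingAut F) := by
    ext x
    show (FiniteField.frobeniusAlgEquivOfAlgebraic (ZMod p) F) x = frobenius F p x
    rw [FiniteField.coe_frobeniusAlgEquivOfAlgebraic, ZMod.card, frobenius_def]
  have h2 : φ (FiniteField.frobeniusAlgEquivOfAlgebraic (ZMod p) F ^ (n : ℕ)) = σ := by
    have h3 := congrArg φ hn
    refine h3.trans ?_
    ext x
    rfl
  rw [← h2, map_pow, h1]
  exact Subgroup.pow_mem _ (Subgroup.mem_zpowers _) _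

/-- anisotropy in characteristic two forces `a ≠ 0` -/
theorem a_ne_zero_of_aniso_char_two (h2 : (2 : F) = 0) (a b : F)
    (hab : ∀ z₁ z₂ : F, z₁ ^ 2 + a * z₁ * z₂ + b * z₂ ^ 2 = 0 → z₁ = 0 ∧ z₂ = 0) : a ≠ 0 := by
  intro ha
  have hchar : ringChar F = 2 :=
    CharP.ringChar_of_prime_eq_zero Nat.prime_two (by exact_mod_cast h2)
  obtain ⟨s, hs⟩ := FiniteField.isSquare_of_char_two hchar b
  have := hab s 1 (by rw [ha, hs]; linear_combination (s * s) * h2)
  exact one_ne_zero this.2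

/-- the Frobenius automorphism admits a semisimilarity of the minus-type form -/
theorem minus_pair_frobenius (p : ℕ) [Fact p.Prime] [CharP F p] (m : ℕ) (a b : F)
    (hab : ∀ z₁ z₂ : F, z₁ ^ 2 + a * z₁ * z₂ + b * z₂ ^ 2 = 0 → z₁ = 0 ∧ z₂ = 0) :
    ∃ g : GL ((Fin m ⊕ Fin m) ⊕ Fin 2) F,
      IsSemisimilarityPair (quadFormMinus m F a b) g (frobeniusEquiv F p) := by
  have hσa : ∀ x : F, frobeniusEquiv F p x = x ^ p := fun x => rfl
  by_cases h2 : (2 : F) = 0
  · -- characteristic two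
    have hp2 : p = 2 := by
      have h := (CharP.cast_eq_zero_iff F p 2).mp (by exact_mod_cast h2)
      exact ((Nat.prime_dvd_prime_iff_eq (Fact.out : p.Prime) Nat.prime_two).mp h)
    have ha := a_ne_zero_of_aniso_char_two h2 a b hab
    refine ⟨_, minus_pair_of_block (frobeniusEquiv F p) m a b b a ha ?_ ?_⟩
    · rw [hσa, hp2]
      linear_combination b * h2
    · rw [hσa, hp2]
      linear_combination (a ^ 2 * b) * h2
  · -- odd characteristic
    have hpodd : Odd p := by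
      apply (Fact.out : p.Prime).odd_of_ne_two
      rintro rfl
      exact h2 (by exact_mod_cast CharP.cast_eq_zero F 2)
    obtain ⟨j, hj⟩ := hpodd
    have hD : a ^ 2 - 4 * b ≠ 0 := by
      have := disc_ne_zero_of_aniso a b hab
      intro h
      apply this
      linear_combination -h
    obtain ⟨d, hd⟩ : ∃ d : F, d = (a ^ 2 - 4 * b) ^ j := ⟨_, rfl⟩
    have hd0 : d ≠ 0 := by rw [hd]; exact pow_ne_zero _ hD
    have h4 : (4 : F) ^ p = 4 := by
      have : ((4 : ℕ) : F) ^ p = ((4 : ℕ) : F) := by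
        rw [← frobenius_def]
        exact map_natCast (frobenius F p) 4
      exact_mod_cast this
    have hdD : d ^ 2 * (a ^ 2 - 4 * b) = (a ^ p) ^ 2 - 4 * b ^ p := by
      have e : d ^ 2 * (a ^ 2 - 4 * b) = (a ^ 2 - 4 * b) ^ p := by
        rw [hd, hj]
        ring
      rw [e, sub_pow_char, mul_pow, h4]
      ring
    refine ⟨_, minus_pair_of_block (frobeniusEquiv F p) m a b ((a ^ p - a * d) / 2) d hd0 ?_ ?_⟩
    · rw [hσa]
      field_simp
      ring
    · rw [hσa]
      field_simp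
      linear_combination (-1 : F) * hdD

/-- every field automorphism admits a semisimilarity of the minus-type form -/
theorem minus_all_pairs (m : ℕ) (a b : F)
    (hab : ∀ z₁ z₂ : F, z₁ ^ 2 + a * z₁ * z₂ + b * z₂ ^ 2 = 0 → z₁ = 0 ∧ z₂ = 0) (σ : F ≃+* F) :
    ∃ g : GL ((Fin m ⊕ Fin m) ⊕ Fin 2) F, IsSemisimilarityPair (quadFormMinus m F a b) g σ := by
  obtain ⟨p, hp⟩ := CharP.exists F
  have hprime : Fact p.Prime := ⟨CharP.char_is_prime F p⟩
  have h1 : (frobeniusEquiv F p : RingAut F) ∈ pairSubgroup (quadFormMinus m F a b) :=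
    minus_pair_frobenius p m a b hab
  exact (Subgroup.zpowers_le.mpr h1) (mem_zpowers_frobenius p σ)

end

end Cfsg.Agent.Lib.helper42
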