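import Cfsg.Agent.Lib.helper42.MinusSim

/-!
Base change of the minus-type form to a quadratic extension: over a quadratic extension `K` of the finite
field `F` (odd order) the form `Σ xᵢ yᵢ + z₁² + a z₁ z₂ + b z₂²` becomes of plus type, and a similarity `g`
(over `F`) with multiplier `μ` preserves the two classes of maximal totally singular subspaces over `K` iff
`det g = μ^(m+1)`.
-/

set_option autoImplicit false
set_option linter.unusedSectionVars false

namespace Cfsg.Agent.Lib.helper42

open Matrix Cfsg Cfsg.Agent.Lib.helper17 Module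
open Cfsg.Agent.Lib.helper49 (minusForm minusForm_coe plusForm plusForm_coe gramMinusL gramPlus
  polar_quadFormMinus)

section
variable {R : Type*} [Field R]

theorem minusForm_nondegenerate_of_disc (k : ℕ) (a c : R) (hD : 2 * (2 * c) - a * a ≠ 0) :
    (QuadraticMap.polarBilin (minusForm k R a c)).Nondegenerate := by
  rw [polarBilin_minusForm]
  apply (Matrix.nondegenerate_toBilin'_iff).mpr
  rw [Matrix.nondegenerate_iff_det_ne_zero, gramMinusL, Matrix.det_fromBlocks_zero₂₁]
  refine mul_ne_zero (det_gramPlus_ne_zero k) ?_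
  rw [Matrix.det_fin_two_of]
  exact hD

/-- a similarity satisfies `Mᵀ G M = μ G` for the Gram matrix `G` of the polar form -/
theorem gram_of_similarity {ι : Type*} [Fintype ι] [DecidableEq ι] (Q : QuadraticForm R (ι → R))
    (G : Matrix ι ι R) (hG : ∀ u v, QuadraticMap.polar Q u v = Matrix.toBilin' G u v)
    (M : Matrix ι ι R) (μ : R) (hM : ∀ x, Q (M *ᵥ x) = μ * Q x) : Mᵀ * G * M = μ • G := by
  apply Matrix.toBilin'.injective
  refine LinearMap.ext₂ (fun u v => ?_)
  have hpol : QuadraticMap.polar Q (M *ᵥ u) (M *ᵥ v) = μ * QuadraticMap.polar Q u v := by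
    unfold QuadraticMap.polar
    rw [← Matrix.mulVec_add, hM, hM, hM]
    ring
  rw [map_smul, LinearMap.smul_apply, LinearMap.smul_apply, smul_eq_mul, ← hG, ← hpol, hG]
  rw [Matrix.toBilin'_apply', Matrix.toBilin'_apply', ← Matrix.mulVec_mulVec,
    ← Matrix.mulVec_mulVec, Matrix.dotProduct_mulVec, Matrix.vecMul_transpose]

/-- conversely (characteristic not two) -/
theorem similarity_of_gram {ι : Type*} [Fintype ι] [DecidableEq ι] (h2 : (2 : R) ≠ 0)
    (Q : QuadraticForm R (ι → R)) (G : Matrix ι ι R)
    (hG : ∀ u v, QuadraticMap.polar Q u v = Matrix.toBilin' G u v)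
    (M : Matrix ι ι R) (μ : R) (hM : Mᵀ * G * M = μ • G) : ∀ x, Q (M *ᵥ x) = μ * Q x := by
  intro x
  have h1 : QuadraticMap.polar Q (M *ᵥ x) (M *ᵥ x) = μ * QuadraticMap.polar Q x x := by
    rw [hG, hG, Matrix.toBilin'_apply', Matrix.toBilin'_apply']
    have h : M *ᵥ x ⬝ᵥ G *ᵥ M *ᵥ x = x ⬝ᵥ (Mᵀ * G * M) *ᵥ x := by
      rw [← Matrix.mulVec_mulVec, ← Matrix.mulVec_mulVec, Matrix.dotProduct_mulVec x,
        Matrix.vecMul_transpose]
    rw [h, hM, Matrix.smul_mulVec, dotProduct_smul, smul_eq_mul]
  rw [QuadraticMap.polar_self, QuadraticMap.polar_self] at h1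
  have h3 : (2 : R) * Q (M *ᵥ x) = 2 * (μ * Q x) := by
    simp only [nsmul_eq_mul, Nat.cast_ofNat] at h1
    linear_combination h1
  exact mul_left_cancel₀ h2 h3

end

section
variable {F : Type*} [Field F] {K : Type*} [Field K]

theorem gramMinusL_map (m : ℕ) (a b : F) (f : F →+* K) :
    (gramMinusL m F a b).map f = gramMinusL m K (f a) (f b) := by
  unfold gramMinusL
  rw [Matrix.fromBlocks_map, Matrix.fromBlocks_map]
  congr 1
  · simp
  · simp
  · simp
  · have hf2 : f 2 = 2 := map_ofNat f 2
    ext i j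
    fin_cases i <;> fin_cases j <;> simp [hf2]

/-- similarities of the minus-type form remain similarities after a field extension -/
theorem similarity_map (h2K : (2 : K) ≠ 0) (m : ℕ) (a b : F) (f : F →+* K)
    (M : Matrix ((Fin m ⊕ Fin m) ⊕ Fin 2) ((Fin m ⊕ Fin m) ⊕ Fin 2) F) (μ : F)
    (hM : ∀ x, quadFormMinus m F a b (M *ᵥ x) = μ * quadFormMinus m F a b x) :
    ∀ y, quadFormMinus m K (f a) (f b) (M.map f *ᵥ y) = f μ * quadFormMinus m K (f a) (f b) y := by
  have h1 := gram_of_similarity (minusForm m F a b) (gramMinusL m F a b) (polar_quadFormMinus m a b)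
    M μ hM
  have h2 : (M.map f)ᵀ * gramMinusL m K (f a) (f b) * M.map f = f μ • gramMinusL m K (f a) (f b) := by
    rw [← gramMinusL_map, ← Matrix.transpose_map, ← Matrix.map_mul, ← Matrix.map_mul, h1]
    ext i j
    simp [Matrix.map_apply, Matrix.smul_apply]
  exact similarity_of_gram h2K (minusForm m K (f a) (f b)) _ (polar_quadFormMinus m _ _) _ _ h2

end

section
variable {F : Type*} [Field F] [Fintype F] {K : Type*} [Field K] [Algebra F K]

theorem two_ne_zero_of_algebra (hodd : Odd (Fintype.card F)) : (2 : K) ≠ 0 := by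
  have h2 := two_ne_zero_of_odd_card hodd
  have : (2 : K) = algebraMap F K 2 := (map_ofNat (algebraMap F K) 2).symm
  rw [this]
  exact (map_ne_zero (algebraMap F K)).mpr h2

/-- every element of a finite field of odd order is a square in a quadratic extension -/
theorem isSquare_algebraMap_of_finrank_two (hodd : Odd (Fintype.card F)) (hK : finrank F K = 2)
    (d : F) : IsSquare (algebraMap F K d) := by
  classical
  by_cases hd : d = 0
  · rw [hd, map_zero]
    exact ⟨0, by simp⟩
  haveI : Module.Finite F K := Module.finite_of_finrank_pos (by rw [hK]; norm_num)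
  haveI : Finite K := Module.finite_of_finite F
  haveI : Fintype K := Fintype.ofFinite K
  have hcard : Fintype.card K = Fintype.card F ^ 2 := by
    rw [Module.card_eq_pow_finrank (K := F) (V := K), hK]
  have h2K : (2 : K) ≠ 0 := two_ne_zero_of_algebra hodd
  have hchar : ringChar K ≠ 2 := by
    intro h
    apply h2K
    have := ringChar.Nat.cast_ringChar (R := K)
    rw [h] at this
    exact_mod_cast this
  rw [FiniteField.isSquare_iff hchar ((map_ne_zero (algebraMap F K)).mpr hd)]
  obtain ⟨k, hk⟩ := hodd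
  have hexp : Fintype.card K / 2 = (Fintype.card F - 1) * (k + 1) := by
    rw [hcard, hk]
    have h1 : 2 * k + 1 - 1 = 2 * k := by omega
    have h3 : (2 * k + 1) ^ 2 = 2 * (2 * k * (k + 1)) + 1 := by ring
    rw [h1, h3]
    omega
  rw [hexp, pow_mul, ← map_pow, FiniteField.pow_card_sub_one_eq_one d hd, map_one, one_pow]

/-- the binary form becomes isotropic over a quadratic extension -/
theorem exists_root_of_finrank_two (hodd : Odd (Fintype.card F)) (hK : finrank F K = 2) (a b : F) :
    ∃ ρ : K, ρ ^ 2 + algebraMap F K a * ρ + algebraMap F K b = 0 := by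
  obtain ⟨e, he⟩ := isSquare_algebraMap_of_finrank_two (K := K) hodd hK (a * a - 4 * b)
  have h2K : (2 : K) ≠ 0 := two_ne_zero_of_algebra hodd
  refine ⟨(-(algebraMap F K a) + e) / 2, ?_⟩
  rw [map_sub, map_mul, map_mul, map_ofNat] at he
  field_simp
  linear_combination -he

end

end Cfsg.Agent.Lib.helper42
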