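import Cfsg.Agent.Lib.helper42.InndiagPlus

/-!
Explicit similarities of the minus-type form `Σ xᵢ yᵢ + z₁² + a z₁ z₂ + b z₂²` (over any field):
`minusSimMat` (`diag(c, 1)` on the hyperbolic part, multiplication by `s + tθ` on the binary part, where
`s² + a s t + b t² = c`), `minusTMat` (a similarity with square `c`), the totally singular subspace
`minusU0 ρ` attached to a root `ρ` of `X² + aX + b`, and transfer of similarities through Gram matrices.
-/

set_option autoImplicit false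
set_option linter.unusedSectionVars false

namespace Cfsg.Agent.Lib.helper42

open Matrix Cfsg Cfsg.Agent.Lib.helper17 Module
open Cfsg.Agent.Lib.helper49 (minusForm minusForm_coe plusForm plusForm_coe gramMinusL gramPlus
  polar_quadFormMinus)

section
variable {R : Type*} [Field R]

/-- `diag(c, 1)` on the hyperbolic part and multiplication by `s + tθ` on the binary part -/
def minusSimMat (m : ℕ) (a b c s t : R) :
    Matrix ((Fin m ⊕ Fin m) ⊕ Fin 2) ((Fin m ⊕ Fin m) ⊕ Fin 2) R :=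
  Matrix.fromBlocks (Matrix.diagonal (Sum.elim (fun _ : Fin m => c) (fun _ : Fin m => 1)))
    (0 : Matrix (Fin m ⊕ Fin m) (Fin 2) R) (0 : Matrix (Fin 2) (Fin m ⊕ Fin m) R)
    !![s, -(b * t); t, s + a * t]

theorem minusSimMat_mulVec_inl_inl (m : ℕ) (a b c s t : R) (x : (Fin m ⊕ Fin m) ⊕ Fin 2 → R)
    (i : Fin m) :
    (minusSimMat m a b c s t *ᵥ x) (Sum.inl (Sum.inl i)) = c * x (Sum.inl (Sum.inl i)) := by
  rw [minusSimMat, Matrix.fromBlocks_mulVec]
  simp [Matrix.mulVec_diagonal]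

theorem minusSimMat_mulVec_inl_inr (m : ℕ) (a b c s t : R) (x : (Fin m ⊕ Fin m) ⊕ Fin 2 → R)
    (i : Fin m) :
    (minusSimMat m a b c s t *ᵥ x) (Sum.inl (Sum.inr i)) = x (Sum.inl (Sum.inr i)) := by
  rw [minusSimMat, Matrix.fromBlocks_mulVec]
  simp [Matrix.mulVec_diagonal]

theorem minusSimMat_mulVec_inr_zero (m : ℕ) (a b c s t : R) (x : (Fin m ⊕ Fin m) ⊕ Fin 2 → R) :
    (minusSimMat m a b c s t *ᵥ x) (Sum.inr 0) = s * x (Sum.inr 0) - b * t * x (Sum.inr 1) := by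
  rw [minusSimMat, Matrix.fromBlocks_mulVec]
  simp [Matrix.mulVec, dotProduct, Fin.sum_univ_two]
  ring

theorem minusSimMat_mulVec_inr_one (m : ℕ) (a b c s t : R) (x : (Fin m ⊕ Fin m) ⊕ Fin 2 → R) :
    (minusSimMat m a b c s t *ᵥ x) (Sum.inr 1) = t * x (Sum.inr 0) + (s + a * t) * x (Sum.inr 1) := by
  rw [minusSimMat, Matrix.fromBlocks_mulVec]
  simp [Matrix.mulVec, dotProduct, Fin.sum_univ_two]

theorem minusSimMat_sim (m : ℕ) (a b c s t : R) (hst : s ^ 2 + a * s * t + b * t ^ 2 = c)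
    (v : (Fin m ⊕ Fin m) ⊕ Fin 2 → R) :
    quadFormMinus m R a b (minusSimMat m a b c s t *ᵥ v) = c * quadFormMinus m R a b v := by
  unfold quadFormMinus
  rw [minusSimMat_mulVec_inr_zero, minusSimMat_mulVec_inr_one, mul_add c, Finset.mul_sum]
  congr 1
  · refine Finset.sum_congr rfl (fun i _ => ?_)
    rw [minusSimMat_mulVec_inl_inl, minusSimMat_mulVec_inl_inr]
    ring
  · rw [← hst]
    ring

theorem minusSimMat_det (m : ℕ) (a b c s t : R) (hst : s ^ 2 + a * s * t + b * t ^ 2 = c) :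
    (minusSimMat m a b c s t).det = c ^ m * c := by
  rw [minusSimMat, Matrix.det_fromBlocks_zero₂₁, Matrix.det_diagonal, Matrix.det_fin_two_of,
    Fintype.prod_sum_type]
  simp only [Sum.elim_inl, Sum.elim_inr, Finset.prod_const, Finset.card_univ, Fintype.card_fin,
    one_pow, mul_one]
  rw [← hst]
  ring

/-- a similarity with square `c`: `e_i ↦ f_i`, `f_i ↦ c e_i` on the hyperbolic part and `z ↦ (s + tθ) z̄` on
the binary part -/
def minusTMat (m : ℕ) (a b c s t : R) :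
    Matrix ((Fin m ⊕ Fin m) ⊕ Fin 2) ((Fin m ⊕ Fin m) ⊕ Fin 2) R :=
  Matrix.fromBlocks (Matrix.fromBlocks 0 (c • (1 : Matrix (Fin m) (Fin m) R)) 1 0)
    (0 : Matrix (Fin m ⊕ Fin m) (Fin 2) R) (0 : Matrix (Fin 2) (Fin m ⊕ Fin m) R)
    !![s, a * s + b * t; t, -s]

theorem minusTMat_mulVec_inl_inl (m : ℕ) (a b c s t : R) (x : (Fin m ⊕ Fin m) ⊕ Fin 2 → R)
    (i : Fin m) :
    (minusTMat m a b c s t *ᵥ x) (Sum.inl (Sum.inl i)) = c * x (Sum.inl (Sum.inr i)) := by
  rw [minusTMat, Matrix.fromBlocks_mulVec]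
  simp [Matrix.fromBlocks_mulVec, Matrix.smul_mulVec]

theorem minusTMat_mulVec_inl_inr (m : ℕ) (a b c s t : R) (x : (Fin m ⊕ Fin m) ⊕ Fin 2 → R)
    (i : Fin m) :
    (minusTMat m a b c s t *ᵥ x) (Sum.inl (Sum.inr i)) = x (Sum.inl (Sum.inl i)) := by
  rw [minusTMat, Matrix.fromBlocks_mulVec]
  simp [Matrix.fromBlocks_mulVec]

theorem minusTMat_mulVec_inr_zero (m : ℕ) (a b c s t : R) (x : (Fin m ⊕ Fin m) ⊕ Fin 2 → R) :
    (minusTMat m a b c s t *ᵥ x) (Sum.inr 0)
      = s * x (Sum.inr 0) + (a * s + b * t) * x (Sum.inr 1) := by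
  rw [minusTMat, Matrix.fromBlocks_mulVec]
  simp [Matrix.mulVec, dotProduct, Fin.sum_univ_two]

theorem minusTMat_mulVec_inr_one (m : ℕ) (a b c s t : R) (x : (Fin m ⊕ Fin m) ⊕ Fin 2 → R) :
    (minusTMat m a b c s t *ᵥ x) (Sum.inr 1) = t * x (Sum.inr 0) - s * x (Sum.inr 1) := by
  rw [minusTMat, Matrix.fromBlocks_mulVec]
  simp [Matrix.mulVec, dotProduct, Fin.sum_univ_two]
  ring

theorem minusTMat_sim (m : ℕ) (a b c s t : R) (hst : s ^ 2 + a * s * t + b * t ^ 2 = c)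
    (v : (Fin m ⊕ Fin m) ⊕ Fin 2 → R) :
    quadFormMinus m R a b (minusTMat m a b c s t *ᵥ v) = c * quadFormMinus m R a b v := by
  unfold quadFormMinus
  rw [minusTMat_mulVec_inr_zero, minusTMat_mulVec_inr_one, mul_add c, Finset.mul_sum]
  congr 1
  · refine Finset.sum_congr rfl (fun i _ => ?_)
    rw [minusTMat_mulVec_inl_inl, minusTMat_mulVec_inl_inr]
    ring
  · rw [← hst]
    ring

theorem minusTMat_sq (m : ℕ) (a b c s t : R) (hst : s ^ 2 + a * s * t + b * t ^ 2 = c) :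
    minusTMat m a b c s t * minusTMat m a b c s t
      = c • (1 : Matrix ((Fin m ⊕ Fin m) ⊕ Fin 2) ((Fin m ⊕ Fin m) ⊕ Fin 2) R) := by
  apply Cfsg.Agent.Lib.helper91.matrix_eq_of_mulVec
  intro x
  rw [← Matrix.mulVec_mulVec, Matrix.smul_mulVec, Matrix.one_mulVec]
  funext j
  rcases j with (j | j) | j
  · rw [minusTMat_mulVec_inl_inl, minusTMat_mulVec_inl_inr]
    rfl
  · rw [minusTMat_mulVec_inl_inr, minusTMat_mulVec_inl_inl]
    rfl
  · fin_cases j
    · show (minusTMat m a b c s t *ᵥ (minusTMat m a b c s t *ᵥ x)) (Sum.inr 0) = c * x (Sum.inr 0)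
      rw [minusTMat_mulVec_inr_zero, minusTMat_mulVec_inr_zero, minusTMat_mulVec_inr_one, ← hst]
      ring
    · show (minusTMat m a b c s t *ᵥ (minusTMat m a b c s t *ᵥ x)) (Sum.inr 1) = c * x (Sum.inr 1)
      rw [minusTMat_mulVec_inr_one, minusTMat_mulVec_inr_zero, minusTMat_mulVec_inr_one, ← hst]
      ring

theorem minusTMat_det (m : ℕ) (a b : R) (c : Rˣ) (s t : R)
    (hst : s ^ 2 + a * s * t + b * t ^ 2 = (c : R)) :
    (minusTMat m a b (c : R) s t).det
      = ((tSim m c : GL (Fin m ⊕ Fin m) R) : Matrix (Fin m ⊕ Fin m) (Fin m ⊕ Fin m) R).det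
        * (-(c : R)) := by
  rw [minusTMat, Matrix.det_fromBlocks_zero₂₁, Matrix.det_fin_two_of, tSim_val, ← hst]
  ring

/-- the totally singular subspace attached to a root `ρ` of `X² + aX + b` -/
def minusU0 (m : ℕ) (ρ : R) : Submodule R ((Fin m ⊕ Fin m) ⊕ Fin 2 → R) where
  carrier := {x | (∀ i, x (Sum.inl (Sum.inr i)) = 0) ∧ x (Sum.inr 0) = ρ * x (Sum.inr 1)}
  add_mem' := fun {x y} hx hy => ⟨fun i => by rw [Pi.add_apply, hx.1 i, hy.1 i, add_zero], by
    rw [Pi.add_apply, Pi.add_apply, hx.2, hy.2, mul_add]⟩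
  zero_mem' := ⟨fun i => rfl, by simp⟩
  smul_mem' := fun c x hx => ⟨fun i => by rw [Pi.smul_apply, hx.1 i, smul_zero], by
    rw [Pi.smul_apply, Pi.smul_apply, hx.2, smul_eq_mul, smul_eq_mul, mul_left_comm]⟩

theorem minusU0_ts (m : ℕ) (a b ρ : R) (hρ : ρ ^ 2 + a * ρ + b = 0) :
    ∀ u ∈ minusU0 m ρ, minusForm m R a b u = 0 := by
  intro u hu
  show quadFormMinus m R a b u = 0
  unfold quadFormMinus
  rw [Finset.sum_eq_zero (fun i _ => by rw [hu.1 i, mul_zero]), hu.2, zero_add]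
  linear_combination (u (Sum.inr 1)) ^ 2 * hρ

theorem finrank_minusU0 (m : ℕ) (ρ : R) : finrank R (minusU0 m ρ) = m + 1 := by
  let e : minusU0 m ρ ≃ₗ[R] ((Fin m → R) × R) :=
    { toFun := fun x => (fun i => x.1 (Sum.inl (Sum.inl i)), x.1 (Sum.inr 1))
      map_add' := fun x y => rfl
      map_smul' := fun c x => rfl
      invFun := fun y => ⟨Sum.elim (Sum.elim y.1 0) ![ρ * y.2, y.2], ⟨fun i => rfl, rfl⟩⟩
      left_inv := fun x => by
        apply Subtype.ext
        funext j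
        rcases j with (j | j) | j
        · rfl
        · exact (x.2.1 j).symm
        · fin_cases j
          · exact x.2.2.symm
          · rfl
      right_inv := fun y => rfl }
  rw [e.finrank_eq, Module.finrank_prod, Module.finrank_fintype_fun_eq_card, Fintype.card_fin,
    Module.finrank_self]

theorem minusSimMat_mem_U0 (m : ℕ) (a b c s t ρ : R) (hρ : ρ ^ 2 + a * ρ + b = 0) :
    ∀ u ∈ minusU0 m ρ, minusSimMat m a b c s t *ᵥ u ∈ minusU0 m ρ := by
  intro u hu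
  refine ⟨fun i => ?_, ?_⟩
  · rw [minusSimMat_mulVec_inl_inr]
    exact hu.1 i
  · rw [minusSimMat_mulVec_inr_zero, minusSimMat_mulVec_inr_one, hu.2]
    linear_combination (-(t * u (Sum.inr 1))) * hρ

end

end Cfsg.Agent.Lib.helper42
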