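import Cfsg.Agent.Lib.helper42.SkewExist
import Cfsg.Agent.Lib.helper42.InndiagGen

/-!
Automorphisms of odd order (prime to the characteristic) of `PΩ(Q)` induced by similarities: they are induced by
an isometry `s` of determinant one with `s ^ r = 1`, which commutes with a similarity of non-square multiplier
in the kernel of `deltaHom`; consequences for conjugacy under the various images in `Aut(PΩ(Q))`.
-/

set_option autoImplicit false
set_option linter.unusedSectionVars false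

namespace Cfsg.Agent.Lib.helper42

open Matrix Cfsg Cfsg.Agent.Lib.helper17 Module
open Cfsg.Agent.Lib.helper49 (detHom spinorSign)

section
variable {ι : Type} [Fintype ι] [DecidableEq ι] {F : Type*} [Field F] [Fintype F]

theorem int_units_prod_sq (u : ℤˣ × ℤˣ) : u * u = 1 := by
  rw [Prod.ext_iff]
  exact ⟨by rw [Prod.fst_mul, ← pow_two, Int.units_sq]; rfl, by rw [Prod.snd_mul, ← pow_two, Int.units_sq]; rfl⟩

theorem eq_one_of_odd_pow {G : Type*} [Group G] (u : G) (hu : u * u = 1) {r : ℕ} (hr : Odd r)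
    (hur : u ^ r = 1) : u = 1 := by
  obtain ⟨j, hj⟩ := hr
  rw [hj, pow_succ, pow_mul, pow_two, hu, one_pow, one_mul] at hur
  exact hur

/-- an automorphism of odd order in the image of the conformal orthogonal group is induced by a special
isometry `s` with `s ^ r = 1` -/
theorem exists_special_of_odd_order (h2 : (2 : F) ≠ 0) (Q : QuadraticForm F (ι → F))
    (hQ : (QuadraticMap.polarBilin Q).Nondegenerate) (fr : HypFrame3 Q) (h5 : 5 ≤ Fintype.card ι)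
    (heven : Even (Fintype.card ι)) (x : MulAut (POmega F ⇑Q)) (hx : x ∈ pgoAut F ⇑Q) {r : ℕ}
    (hr : Odd r) (hxr : x ^ r = 1) :
    ∃ s : ↥(Geo.quadSimilarityGroup (F := F) ⇑Q), (s : GL ι F) ∈ specialIsometryGL F ⇑Q ∧
      PsiAut ⇑Q s = x ∧ s ^ r = 1 := by
  rw [pgoAut_eq, mem_img] at hx
  obtain ⟨g, -, rfl⟩ := hx
  have h1 : chiPair h2 Q hQ heven _ fr.Q_x1_ne (g ^ r) = 1 :=
    chiPair_of_PsiAut_eq_one h2 Q hQ fr h5 heven (g ^ r) (by rw [map_pow, hxr])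
  rw [map_pow] at h1
  have hg1 : chiPair h2 Q hQ heven _ fr.Q_x1_ne g = 1 :=
    eq_one_of_odd_pow _ (int_units_prod_sq _) hr h1
  obtain ⟨h, hh, hhg⟩ := exists_special_of_chiPair h2 Q hQ heven _ fr.Q_x1_ne g hg1
  have hΨr : PsiAut ⇑Q (h ^ r) = 1 := by rw [map_pow, hhg, hxr]
  obtain ⟨a, ha⟩ := scalar_of_PsiAut_eq_one Q hQ fr h5 (h ^ r) hΨr
  have hmemr : ((h ^ r : ↥(Geo.quadSimilarityGroup (F := F) ⇑Q)) : GL ι F) ∈ specialIsometryGL F ⇑Q := by
    rw [Subgroup.coe_pow]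
    exact Subgroup.pow_mem _ hh r
  have haa : a * a = 1 := by
    have h3 := (Cfsg.Agent.Lib.helper17.mem_isometryGroup_iff _ _).mp hmemr.1 (fr.e 0 + (1 : F) • fr.f 0)
    rw [ha, Matrix.smul_mulVec, Matrix.one_mulVec, QuadraticMap.map_smul, smul_eq_mul] at h3
    have hne := fr.Q_x1_ne
    exact mul_right_cancel₀ hne (by rw [h3, one_mul])
  refine ⟨h ^ (r + 1), ?_, ?_, ?_⟩
  · rw [Subgroup.coe_pow]
    exact Subgroup.pow_mem _ hh _
  · rw [map_pow, hhg, pow_succ, hxr, one_mul]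
  · rw [← pow_mul, mul_comm, pow_mul]
    apply Subtype.ext
    apply Units.ext
    rw [Subgroup.coe_pow, Units.val_pow_eq_pow_val, ha, smul_pow, one_pow, Subgroup.coe_one, Units.val_one]
    obtain ⟨j, hj⟩ := hr
    rw [show r + 1 = 2 * (j + 1) by omega, pow_mul, pow_two, haa, one_pow, one_smul]

/-- a special isometry `s` with `s ^ r = 1` (`r` odd, prime to the characteristic) commutes with a similarity of
any given multiplier in the kernel of `deltaHom` -/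
theorem exists_commuting_sim (h2 : (2 : F) ≠ 0) (Q : QuadraticForm F (ι → F))
    (hQ : (QuadraticMap.polarBilin Q).Nondegenerate) (hgen : reflSubgroup Q = ⊤) (fr : HypFrame3 Q)
    (k : ℕ) (hk : Fintype.card ι = 2 * k)
    (s : ↥(Geo.quadSimilarityGroup (F := F) ⇑Q)) (hs : (s : GL ι F) ∈ specialIsometryGL F ⇑Q) {r : ℕ}
    (hr : Odd r) (hrF : (r : F) ≠ 0) (hsr : s ^ r = 1) (c : Fˣ) :
    ∃ H : ↥(Geo.quadSimilarityGroup (F := F) ⇑Q), H * s = s * H ∧ ((mult ⇑Q H : Fˣ) : F) = c ∧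
      deltaHom ⇑Q _ fr.Q_x1_ne H = 1 := by
  have hS : ∀ v, Q (((s : GL ι F) : Matrix ι ι F) *ᵥ v) = Q v :=
    (Cfsg.Agent.Lib.helper17.mem_isometryGroup_iff _ _).mp hs.1
  have hSr : ((s : GL ι F) : Matrix ι ι F) ^ r = 1 := by
    have h := congrArg (fun t : ↥(Geo.quadSimilarityGroup (F := F) ⇑Q) => ((t : GL ι F) : Matrix ι ι F)) hsr
    simpa using h
  have hdet : ((s : GL ι F) : Matrix ι ι F).det = 1 := by
    have h := detHom_of_mem_special Q _ hs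
    have h' := congrArg (fun u : Fˣ => (u : F)) h
    rw [detHom, MonoidHom.comp_apply, Matrix.GeneralLinearGroup.val_det_apply] at h'
    simpa using h'
  have hrank : Even ((((s : GL ι F) : Matrix ι ι F)) - 1).rank :=
    (even_rank_iff_det h2 Q hQ hgen ⟨(s : GL ι F), hs.1⟩).mpr hdet
  have hpar : Even (finrank F (fixSub ((s : GL ι F) : Matrix ι ι F))) := by
    have h := rank_sub_one_add_finrank_fixSub ((s : GL ι F) : Matrix ι ι F)
    have h' : Even ((((s : GL ι F) : Matrix ι ι F) - 1).rank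
        + finrank F (fixSub ((s : GL ι F) : Matrix ι ι F))) := by
      rw [h, hk]
      exact even_two_mul k
    exact (Nat.even_add.mp h').mp hrank
  obtain ⟨H, hHS, hHsim, hHdet⟩ := exists_commuting_similarity h2 Q hQ _ hS hr hrF hSr hpar k hk
    (c : F) (Units.ne_zero c)
  have hdetne : H.det ≠ 0 := by
    rw [hHdet]
    exact pow_ne_zero _ (Units.ne_zero c)
  have hmem : Matrix.GeneralLinearGroup.mkOfDetNeZero H hdetne ∈ Geo.quadSimilarityGroup (F := F) ⇑Q :=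
    ⟨c, hHsim⟩
  have hmult : ((mult ⇑Q ⟨_, hmem⟩ : Fˣ) : F) = c :=
    mult_unique ⇑Q _ fr.Q_x1_ne _ c (hHsim _)
  refine ⟨⟨_, hmem⟩, ?_, hmult, ?_⟩
  · apply Subtype.ext
    apply Units.ext
    exact hHS
  · rw [deltaHom_eq_one_iff, hmult, hk, Nat.mul_div_cancel_left k (by norm_num : 0 < 2)]
    exact hHdet

/-- a similarity with square multiplier induces the same automorphism as an isometry -/
theorem exists_isom_of_chiOne (Q : QuadraticForm F (ι → F)) (x₁ : ι → F) (hx₁ : Q x₁ ≠ 0)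
    (g : ↥(Geo.quadSimilarityGroup (F := F) ⇑Q)) (hg : chiOne ⇑Q x₁ hx₁ g = 1) :
    ∃ h : ↥(Geo.quadSimilarityGroup (F := F) ⇑Q), (h : GL ι F) ∈ isometryGroup F ⇑Q ∧
      PsiAut ⇑Q h = PsiAut ⇑Q g := by
  rw [chiOne_eq_one_iff] at hg
  obtain ⟨l, hl⟩ := hg
  have hl0 : l ≠ 0 := by
    rintro rfl
    rw [mul_zero] at hl
    exact Units.ne_zero _ hl
  have hzval : ((Matrix.GeneralLinearGroup.scalar ι (Units.mk0 l hl0)⁻¹ : GL ι F) : Matrix ι ι F)
      = l⁻¹ • (1 : Matrix ι ι F) := by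
    show Matrix.scalar ι ((((Units.mk0 l hl0)⁻¹ : Fˣ) : F)) = _
    rw [Matrix.scalar_apply, Matrix.smul_one_eq_diagonal, Units.val_inv_eq_inv_val, Units.val_mk0]
  have hzmem : (Matrix.GeneralLinearGroup.scalar ι (Units.mk0 l hl0)⁻¹ : GL ι F)
      ∈ Geo.quadSimilarityGroup (F := F) ⇑Q := by
    refine ⟨(Units.mk0 l hl0)⁻¹ * (Units.mk0 l hl0)⁻¹, fun v => ?_⟩
    rw [hzval, Matrix.smul_mulVec, Matrix.one_mulVec, QuadraticMap.map_smul, smul_eq_mul, Units.val_mul,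
      Units.val_inv_eq_inv_val, Units.val_mk0]
  refine ⟨⟨_, hzmem⟩ * g, ?_, ?_⟩
  · apply (Cfsg.Agent.Lib.helper17.mem_isometryGroup_iff _ _).mpr
    intro v
    rw [Subgroup.coe_mul, Units.val_mul, ← Matrix.mulVec_mulVec, hzval, Matrix.smul_mulVec,
      Matrix.one_mulVec, QuadraticMap.map_smul, mult_spec ⇑Q g, hl, smul_eq_mul]
    field_simp
  · rw [map_mul, PsiAut_scalar ⇑Q ⟨_, hzmem⟩ l⁻¹ hzval, one_mul]

theorem chiOne_eq_neg_one (Q : QuadraticForm F (ι → F)) (x₁ : ι → F) (hx₁ : Q x₁ ≠ 0)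
    (g : ↥(Geo.quadSimilarityGroup (F := F) ⇑Q)) (hg : ¬ IsSquare ((mult ⇑Q g : Fˣ) : F)) :
    chiOne ⇑Q x₁ hx₁ g = -1 :=
  (Int.units_eq_one_or _).resolve_left (fun h => hg ((chiOne_eq_one_iff _ _ _ _).mp h))

theorem conj_of_commute {G : Type*} [Group G] (a b x : G) (h : b * x = x * b) :
    (a * b) * x * (a * b)⁻¹ = a * x * a⁻¹ := by
  rw [_root_.mul_inv_rev]
  calc a * b * x * (b⁻¹ * a⁻¹) = a * (b * x) * b⁻¹ * a⁻¹ := by group
    _ = a * (x * b) * b⁻¹ * a⁻¹ := by rw [h]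
    _ = a * x * a⁻¹ := by group

/-- conjugation by an element of the inner-diagonal group reduces to conjugation by a special isometry -/
theorem conj_reduce_special (h2 : (2 : F) ≠ 0) (Q : QuadraticForm F (ι → F))
    (hQ : (QuadraticMap.polarBilin Q).Nondegenerate) (heven : Even (Fintype.card ι))
    (x₁ : ι → F) (hx₁ : Q x₁ ≠ 0) (x : MulAut (POmega F ⇑Q))
    (H : ↥(Geo.quadSimilarityGroup (F := F) ⇑Q)) (hHx : PsiAut ⇑Q H * x = x * PsiAut ⇑Q H)
    (hHδ : deltaHom ⇑Q x₁ hx₁ H = 1) (hHns : ¬ IsSquare ((mult ⇑Q H : Fˣ) : F))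
    (g : ↥(Geo.quadSimilarityGroup (F := F) ⇑Q)) (hg : deltaHom ⇑Q x₁ hx₁ g = 1) :
    ∃ o : ↥(Geo.quadSimilarityGroup (F := F) ⇑Q), (o : GL ι F) ∈ specialIsometryGL F ⇑Q ∧
      PsiAut ⇑Q g * x * (PsiAut ⇑Q g)⁻¹ = PsiAut ⇑Q o * x * (PsiAut ⇑Q o)⁻¹ := by
  by_cases hsq : IsSquare ((mult ⇑Q g : Fˣ) : F)
  · obtain ⟨o, ho, hog⟩ := exists_special_of_chiPair h2 Q hQ heven x₁ hx₁ g
      ((chiPair_eq_one_iff h2 Q hQ heven x₁ hx₁ g).mpr ⟨hsq, hg⟩)
    exact ⟨o, ho, by rw [hog]⟩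
  · have h1 : chiOne ⇑Q x₁ hx₁ (g * H⁻¹) = 1 := by
      rw [map_mul, map_inv, chiOne_eq_neg_one Q x₁ hx₁ g hsq, chiOne_eq_neg_one Q x₁ hx₁ H hHns]
      decide
    have h2' : deltaHom ⇑Q x₁ hx₁ (g * H⁻¹) = 1 := by
      rw [map_mul, map_inv, hg, hHδ, inv_one, mul_one]
    obtain ⟨o, ho, hog⟩ := exists_special_of_chiPair h2 Q hQ heven x₁ hx₁ (g * H⁻¹)
      ((chiPair_eq_one_iff h2 Q hQ heven x₁ hx₁ _).mpr ⟨(chiOne_eq_one_iff _ _ _ _).mp h1, h2'⟩)
    refine ⟨o, ho, ?_⟩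
    have hgo : PsiAut ⇑Q g = PsiAut ⇑Q o * PsiAut ⇑Q H := by
      rw [hog, map_mul, map_inv, inv_mul_cancel_right]
    rw [hgo, conj_of_commute _ _ _ hHx]

/-- conjugation by an element of the image of the conformal group reduces to conjugation by an isometry -/
theorem conj_reduce_isom (Q : QuadraticForm F (ι → F))
    (x₁ : ι → F) (hx₁ : Q x₁ ≠ 0) (x : MulAut (POmega F ⇑Q))
    (H : ↥(Geo.quadSimilarityGroup (F := F) ⇑Q)) (hHx : PsiAut ⇑Q H * x = x * PsiAut ⇑Q H)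
    (hHns : ¬ IsSquare ((mult ⇑Q H : Fˣ) : F))
    (g : ↥(Geo.quadSimilarityGroup (F := F) ⇑Q)) :
    ∃ o : ↥(Geo.quadSimilarityGroup (F := F) ⇑Q), (o : GL ι F) ∈ isometryGroup F ⇑Q ∧
      PsiAut ⇑Q g * x * (PsiAut ⇑Q g)⁻¹ = PsiAut ⇑Q o * x * (PsiAut ⇑Q o)⁻¹ := by
  by_cases hsq : IsSquare ((mult ⇑Q g : Fˣ) : F)
  · obtain ⟨o, ho, hog⟩ := exists_isom_of_chiOne Q x₁ hx₁ g ((chiOne_eq_one_iff _ _ _ _).mpr hsq)
    exact ⟨o, ho, by rw [hog]⟩
  · have h1 : chiOne ⇑Q x₁ hx₁ (g * H⁻¹) = 1 := by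
      rw [map_mul, map_inv, chiOne_eq_neg_one Q x₁ hx₁ g hsq, chiOne_eq_neg_one Q x₁ hx₁ H hHns]
      decide
    obtain ⟨o, ho, hog⟩ := exists_isom_of_chiOne Q x₁ hx₁ (g * H⁻¹) h1
    refine ⟨o, ho, ?_⟩
    have hgo : PsiAut ⇑Q g = PsiAut ⇑Q o * PsiAut ⇑Q H := by
      rw [hog, map_mul, map_inv, inv_mul_cancel_right]
    rw [hgo, conj_of_commute _ _ _ hHx]

/-- conjugation by the image of a special isometry reduces to conjugation by an inner automorphism, if `-1 ∉ Ω`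
or some element of the image of `SO` outside `Inn` centralises `x` -/
theorem conj_special_to_inn (h2 : (2 : F) ≠ 0) (Q : QuadraticForm F (ι → F))
    (hQ : (QuadraticMap.polarBilin Q).Nondegenerate) (fr : HypFrame3 Q) (h5 : 5 ≤ Fintype.card ι)
    (heven : Even (Fintype.card ι)) (x : MulAut (POmega F ⇑Q))
    (hwit : (¬ ∃ w : ↥(Omega F ⇑Q), (((w : ↥(isometryGroup F ⇑Q)) : GL ι F) : Matrix ι ι F) = -1) ∨
      ∃ z ∈ psoAut F ⇑Q, z ∉ Inn (POmega F ⇑Q) ∧ z * x = x * z)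
    (o : MulAut (POmega F ⇑Q)) (ho : o ∈ psoAut F ⇑Q) :
    ∃ t ∈ Inn (POmega F ⇑Q), o * x * o⁻¹ = t * x * t⁻¹ := by
  by_cases hoI : o ∈ Inn (POmega F ⇑Q)
  · exact ⟨o, hoI, rfl⟩
  by_cases hneg : ∃ w : ↥(Omega F ⇑Q), (((w : ↥(isometryGroup F ⇑Q)) : GL ι F) : Matrix ι ι F) = -1
  · rcases hwit with hw | ⟨z, hz, hzI, hzx⟩
    · exact absurd hneg hw
    · have hidx := relIndex_Inn_psoAut_two h2 Q hQ fr h5 hneg
      have hmem : (⟨o, ho⟩ * ⟨z⁻¹, inv_mem hz⟩ : ↥(psoAut F ⇑Q))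
          ∈ (Inn (POmega F ⇑Q)).subgroupOf (psoAut F ⇑Q) := by
        rw [Subgroup.mul_mem_iff_of_index_two hidx, Subgroup.mem_subgroupOf, Subgroup.mem_subgroupOf]
        constructor
        · intro h
          exact absurd h hoI
        · intro h
          exact absurd (inv_mem_iff.mp h) hzI
      rw [Subgroup.mem_subgroupOf] at hmem
      refine ⟨o * z⁻¹, hmem, ?_⟩
      have hzx' : z⁻¹ * x = x * z⁻¹ := by
        calc z⁻¹ * x = z⁻¹ * (x * z) * z⁻¹ := by group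
          _ = z⁻¹ * (z * x) * z⁻¹ := by rw [hzx]
          _ = x * z⁻¹ := by group
      rw [conj_of_commute _ _ _ hzx']
  · exfalso
    have h1 := relIndex_Inn_psoAut_one h2 Q hQ fr h5 heven hneg
    exact hoI (Subgroup.relIndex_eq_one.mp h1 ho)

theorem zmod_four_invol_cases : ∀ u v : Multiplicative (ZMod 4), v * v = 1 → v ≠ 1 → u * u = 1 →
    u = 1 ∨ u * v⁻¹ = 1 := by
  decide

/-- in the cyclic case, the square of an element of the inner-diagonal group with non-square multiplier lies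
in the image of `SO` but not in `Inn` -/
theorem sq_not_inn_of_cyclic (h2 : (2 : F) ≠ 0) (Q : QuadraticForm F (ι → F))
    (hQ : (QuadraticMap.polarBilin Q).Nondegenerate) (fr : HypFrame3 Q) (h5 : 5 ≤ Fintype.card ι)
    (heven : Even (Fintype.card ι))
    (hneg : ∃ w : ↥(Omega F ⇑Q), (((w : ↥(isometryGroup F ⇑Q)) : GL ι F) : Matrix ι ι F) = -1)
    (φ : ↥(inndiagGen ⇑Q _ fr.Q_x1_ne) →* Multiplicative (ZMod 4))
    (hφ : φ.ker = (Inn (POmega F ⇑Q)).subgroupOf (inndiagGen ⇑Q _ fr.Q_x1_ne))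
    (H : ↥(Geo.quadSimilarityGroup (F := F) ⇑Q)) (hHδ : deltaHom ⇑Q _ fr.Q_x1_ne H = 1)
    (hHns : ¬ IsSquare ((mult ⇑Q H : Fˣ) : F)) :
    PsiAut ⇑Q (H * H) ∈ psoAut F ⇑Q ∧ PsiAut ⇑Q (H * H) ∉ Inn (POmega F ⇑Q) := by
  have hx₁ := fr.Q_x1_ne
  constructor
  · have h1 : chiPair h2 Q hQ heven _ hx₁ (H * H) = 1 := by
      rw [map_mul]
      exact int_units_prod_sq _
    obtain ⟨o, ho, hog⟩ := exists_special_of_chiPair h2 Q hQ heven _ hx₁ (H * H) h1
    rw [psoAut_eq, mem_img]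
    exact ⟨o, ho, hog⟩
  · intro hin
    have hHmem : PsiAut ⇑Q H ∈ inndiagGen ⇑Q _ hx₁ :=
      Subgroup.mem_map_of_mem _ (MonoidHom.mem_ker.mpr hHδ)
    -- an element of the image of `SO` outside `Inn`
    have hidx := relIndex_Inn_psoAut_two h2 Q hQ fr h5 hneg
    obtain ⟨b, hb, hbI⟩ : ∃ b ∈ psoAut F ⇑Q, b ∉ Inn (POmega F ⇑Q) := by
      by_contra hcon
      push Not at hcon
      have : (Inn (POmega F ⇑Q)).relIndex (psoAut F ⇑Q) = 1 :=
        Subgroup.relIndex_eq_one.mpr (fun b hb => hcon b hb)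
      omega
    have hbb : b * b ∈ Inn (POmega F ⇑Q) := by
      have hmem : (⟨b, hb⟩ * ⟨b, hb⟩ : ↥(psoAut F ⇑Q))
          ∈ (Inn (POmega F ⇑Q)).subgroupOf (psoAut F ⇑Q) := by
        rw [Subgroup.mul_mem_iff_of_index_two hidx]
      exact Subgroup.mem_subgroupOf.mp hmem
    have hbD : b ∈ inndiagGen ⇑Q _ hx₁ := psoAut_le_inndiagGen h2 Q hQ heven _ hx₁ hb
    have hφb2 : φ ⟨b, hbD⟩ * φ ⟨b, hbD⟩ = 1 := by
      rw [← map_mul, ← MonoidHom.mem_ker, hφ, Subgroup.mem_subgroupOf]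
      exact hbb
    have hφb1 : φ ⟨b, hbD⟩ ≠ 1 := by
      intro h
      rw [← MonoidHom.mem_ker, hφ, Subgroup.mem_subgroupOf] at h
      exact hbI h
    have hφa2 : φ ⟨PsiAut ⇑Q H, hHmem⟩ * φ ⟨PsiAut ⇑Q H, hHmem⟩ = 1 := by
      rw [← map_mul, ← MonoidHom.mem_ker, hφ, Subgroup.mem_subgroupOf]
      show PsiAut ⇑Q H * PsiAut ⇑Q H ∈ _
      rw [← map_mul]
      exact hin
    -- hence `Ψ(H)` lies in the image of `SO`
    have hHpso : PsiAut ⇑Q H ∈ psoAut F ⇑Q := by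
      rcases zmod_four_invol_cases _ _ hφb2 hφb1 hφa2 with h | h
      · rw [← MonoidHom.mem_ker, hφ, Subgroup.mem_subgroupOf] at h
        exact Inn_le_psoAut _ h
      · rw [← map_inv, ← map_mul, ← MonoidHom.mem_ker, hφ, Subgroup.mem_subgroupOf] at h
        have h' : PsiAut ⇑Q H * b⁻¹ ∈ psoAut F ⇑Q := Inn_le_psoAut _ h
        have := mul_mem h' hb
        rwa [inv_mul_cancel_right] at this
    rw [psoAut_eq, mem_img] at hHpso
    obtain ⟨k, hk, hkH⟩ := hHpso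
    have h1 := chiPair_special h2 Q hQ heven _ hx₁ k hk
    have h2' := chiPair_of_PsiAut_eq_one h2 Q hQ fr h5 heven (k⁻¹ * H) (by
      rw [map_mul, map_inv, hkH, inv_mul_cancel])
    have h3 : chiPair h2 Q hQ heven _ hx₁ H = 1 := by
      have : H = k * (k⁻¹ * H) := by group
      rw [this, map_mul, h1, h2', one_mul]
    rw [chiPair_eq_one_iff] at h3
    exact hHns h3.1

end

end Cfsg.Agent.Lib.helper42
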