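import Cfsg.Agent.Lib.helper42.OddClass
import Cfsg.Agent.Lib.helper42.MinPieceE

/-!
The centralizer of an automorphism of odd order (prime to the characteristic) of `PΩ(Q)` induced by a special
isometry contains an element of the image of `SO(Q)` which is not inner (when `-1 ∈ Ω(Q)`).
-/

set_option autoImplicit false
set_option linter.unusedSectionVars false

namespace Cfsg.Agent.Lib.helper42

open Matrix Cfsg Cfsg.Agent.Lib.helper17 Module
open Cfsg.Agent.Lib.helper49 (detHom spinorSign)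

section
variable {ι : Type} [Fintype ι] [DecidableEq ι] {F : Type*} [Field F] [Fintype F]

/-- a non-inner element of the image of `SO(Q)` centralizing an automorphism of odd order -/
theorem exists_pso_witness (h2 : (2 : F) ≠ 0) (Q : QuadraticForm F (ι → F))
    (hQ : (QuadraticMap.polarBilin Q).Nondegenerate) (hgen : reflSubgroup Q = ⊤)
    (fr : HypFrame3 Q) (h5 : 5 ≤ Fintype.card ι)
    (hneg : ∃ w : ↥(Omega F ⇑Q), (((w : ↥(isometryGroup F ⇑Q)) : GL ι F) : Matrix ι ι F) = -1)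
    (s : ↥(Geo.quadSimilarityGroup (F := F) ⇑Q)) (hs : (s : GL ι F) ∈ specialIsometryGL F ⇑Q)
    {r : ℕ} (hr : Odd r) (hrF : (r : F) ≠ 0) (hsr : s ^ r = 1) (hs1 : s ≠ 1) :
    ∃ z ∈ psoAut F ⇑Q, z ∉ Inn (POmega F ⇑Q) ∧ z * PsiAut ⇑Q s = PsiAut ⇑Q s * z := by
  have hS : ∀ v, Q (((s : GL ι F) : Matrix ι ι F) *ᵥ v) = Q v :=
    (Cfsg.Agent.Lib.helper17.mem_isometryGroup_iff _ _).mp hs.1
  have hSr : ((s : GL ι F) : Matrix ι ι F) ^ r = 1 := by
    have h := congrArg (fun t : ↥(Geo.quadSimilarityGroup (F := F) ⇑Q) => ((t : GL ι F) : Matrix ι ι F)) hsr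
    simpa using h
  have hS1 : ((s : GL ι F) : Matrix ι ι F) ≠ 1 := by
    intro h
    apply hs1
    apply Subtype.ext
    apply Units.ext
    exact h
  obtain ⟨c, hccomm, hcdet, hcsp⟩ := exists_commuting_spinor h2 Q hQ hgen _ hS hr hrF hSr hS1
  have hcdet' : detHom (⇑Q) c = 1 := by
    apply Units.ext
    rw [detHom, MonoidHom.comp_apply, Matrix.GeneralLinearGroup.val_det_apply]
    simp only [Subgroup.coe_subtype, Units.val_one]
    exact hcdet
  have hcΩ : c ∉ Omega F ⇑Q := by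
    rw [mem_Omega_iff_Phi h2 Q hQ]
    intro h
    have h' := h.2
    rw [hcsp] at h'
    exact absurd h' (by decide)
  refine ⟨PsiO ⇑Q c, ?_, ?_, ?_⟩
  · rw [psoAut_eq, mem_img]
    exact ⟨Subgroup.inclusion (isometryGroup_le_similarity ⇑Q) c,
      ⟨c.2, MonoidHom.mem_ker.mpr hcdet'⟩, rfl⟩
  · rw [PsiO_mem_Inn_iff_mem_Omega Q hQ fr h5 hneg c]
    exact hcΩ
  · unfold PsiO
    rw [MonoidHom.comp_apply, ← map_mul, ← map_mul]
    congr 1
    apply Subtype.ext
    apply Units.ext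
    simp only [Subgroup.coe_mul, Units.val_mul]
    exact hccomm

end

end Cfsg.Agent.Lib.helper42
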