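import Cfsg.Agent.Lib.helper42.Dickson2
import Cfsg.Agent.Lib.helper49.Spinor

/-!
Orthogonal direct sums of quadratic forms on `F^ι₁` and `F^ι₂`; reflections of the first summand extended by the
identity; a uniform criterion (all characteristics) for a product of reflections to lie in `Ω`.
-/

set_option autoImplicit false
set_option linter.unusedSectionVars false

namespace Cfsg.Agent.Lib.helper42

open Matrix Cfsg Cfsg.Agent.Lib.helper17 Module

section
variable {ι₁ ι₂ : Type} [Fintype ι₁] [DecidableEq ι₁] [Fintype ι₂] [DecidableEq ι₂]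
  {F : Type*} [Field F]

/-- the orthogonal direct sum of two quadratic forms -/
noncomputable def sumForm (Q₁ : QuadraticForm F (ι₁ → F)) (Q₂ : QuadraticForm F (ι₂ → F)) :
    QuadraticForm F (ι₁ ⊕ ι₂ → F) :=
  Q₁.comp (LinearMap.funLeft F F Sum.inl) + Q₂.comp (LinearMap.funLeft F F Sum.inr)

theorem sumForm_apply (Q₁ : QuadraticForm F (ι₁ → F)) (Q₂ : QuadraticForm F (ι₂ → F))
    (v : ι₁ ⊕ ι₂ → F) : sumForm Q₁ Q₂ v = Q₁ (v ∘ Sum.inl) + Q₂ (v ∘ Sum.inr) := rfl

theorem polar_sumForm (Q₁ : QuadraticForm F (ι₁ → F)) (Q₂ : QuadraticForm F (ι₂ → F))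
    (u v : ι₁ ⊕ ι₂ → F) :
    QuadraticMap.polar ⇑(sumForm Q₁ Q₂) u v
      = QuadraticMap.polar ⇑Q₁ (u ∘ Sum.inl) (v ∘ Sum.inl)
        + QuadraticMap.polar ⇑Q₂ (u ∘ Sum.inr) (v ∘ Sum.inr) := by
  unfold QuadraticMap.polar
  simp only [sumForm_apply]
  have e1 : (u + v) ∘ Sum.inl = u ∘ Sum.inl + v ∘ Sum.inl := rfl
  have e2 : (u + v) ∘ Sum.inr = u ∘ Sum.inr + v ∘ Sum.inr := rfl
  rw [e1, e2]; ring

theorem sumForm_elim_zero (Q₁ : QuadraticForm F (ι₁ → F)) (Q₂ : QuadraticForm F (ι₂ → F))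
    (u : ι₁ → F) : sumForm Q₁ Q₂ (Sum.elim u 0) = Q₁ u := by
  rw [sumForm_apply]
  have e1 : (Sum.elim u (0 : ι₂ → F)) ∘ Sum.inl = u := rfl
  have e2 : (Sum.elim u (0 : ι₂ → F)) ∘ Sum.inr = 0 := rfl
  rw [e1, e2, map_zero, add_zero]

theorem sumForm_nondegenerate (Q₁ : QuadraticForm F (ι₁ → F)) (Q₂ : QuadraticForm F (ι₂ → F))
    (h₁ : (QuadraticMap.polarBilin Q₁).Nondegenerate)
    (h₂ : (QuadraticMap.polarBilin Q₂).Nondegenerate) :
    (QuadraticMap.polarBilin (sumForm Q₁ Q₂)).Nondegenerate := by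
  have key : ∀ x, (∀ y, QuadraticMap.polar ⇑(sumForm Q₁ Q₂) x y = 0) → x = 0 := by
    intro x hx
    have hl : x ∘ Sum.inl = 0 := by
      apply eq_zero_of_polar Q₁ h₁
      intro y
      have := hx (Sum.elim y 0)
      rw [polar_sumForm] at this
      have e1 : (Sum.elim y (0 : ι₂ → F)) ∘ Sum.inl = y := rfl
      have e2 : (Sum.elim y (0 : ι₂ → F)) ∘ Sum.inr = 0 := rfl
      rw [e1, e2, QuadraticMap.polar_zero_right, add_zero] at this
      exact this
    have hr : x ∘ Sum.inr = 0 := by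
      apply eq_zero_of_polar Q₂ h₂
      intro y
      have := hx (Sum.elim 0 y)
      rw [polar_sumForm] at this
      have e1 : (Sum.elim (0 : ι₁ → F) y) ∘ Sum.inl = 0 := rfl
      have e2 : (Sum.elim (0 : ι₁ → F) y) ∘ Sum.inr = y := rfl
      rw [e1, e2, QuadraticMap.polar_zero_right, zero_add] at this
      exact this
    funext i
    cases i with
    | inl i => exact congrFun hl i
    | inr j => exact congrFun hr j
  constructor
  · intro x hx
    exact key x (fun y => by
      have := hx y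
      rwa [QuadraticMap.polarBilin_apply_apply] at this)
  · intro y hy
    apply key y
    intro x
    have := hy x
    rw [QuadraticMap.polarBilin_apply_apply] at this
    rw [QuadraticMap.polar_comm]
    exact this

/-- the reflection in a vector of the first summand is the block sum of the reflection and the identity -/
theorem reflectionMatrix_sumForm_inl (Q₁ : QuadraticForm F (ι₁ → F)) (Q₂ : QuadraticForm F (ι₂ → F))
    (u : ι₁ → F) :
    reflectionMatrix ⇑(sumForm Q₁ Q₂) (Sum.elim u 0)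
      = Matrix.fromBlocks (reflectionMatrix ⇑Q₁ u) 0 0 1 := by
  apply Cfsg.Agent.Lib.helper91.matrix_eq_of_mulVec
  intro x
  rw [reflectionMatrix_mulVec, Matrix.fromBlocks_mulVec, sumForm_elim_zero, polar_sumForm]
  have e1 : (Sum.elim u (0 : ι₂ → F)) ∘ Sum.inl = u := rfl
  have e2 : (Sum.elim u (0 : ι₂ → F)) ∘ Sum.inr = 0 := rfl
  rw [e1, e2, QuadraticMap.polar_zero_left, add_zero, reflectionMatrix_mulVec]
  funext i
  cases i with
  | inl i => simp
  | inr j => simp

theorem prod_refl_sumForm (Q₁ : QuadraticForm F (ι₁ → F)) (Q₂ : QuadraticForm F (ι₂ → F))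
    (vs : List (ι₁ → F)) :
    ((vs.map (fun v => Sum.elim v (0 : ι₂ → F))).map
        (fun v => reflectionMatrix ⇑(sumForm Q₁ Q₂) v)).prod
      = Matrix.fromBlocks (vs.map (fun v => reflectionMatrix ⇑Q₁ v)).prod 0 0 1 := by
  induction vs with
  | nil => simp [Matrix.fromBlocks_one]
  | cons a l ih =>
    simp only [List.map_cons, List.prod_cons] at ih ⊢
    rw [ih, reflectionMatrix_sumForm_inl, Matrix.fromBlocks_multiply]
    simp

end

section
variable {ι : Type} [Fintype ι] [DecidableEq ι] {F : Type*} [Field F] [Fintype F]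

/-- **Uniform criterion** (finite field, any characteristic): a product of reflections lies in `Ω` iff the
number of factors is even and, in odd characteristic, the product of the values of `Q` is a square. -/
theorem mem_Omega_iff_list (Q : QuadraticForm F (ι → F))
    (hQ : (QuadraticMap.polarBilin Q).Nondegenerate) (hgen : reflSubgroup Q = ⊤)
    (g : ↥(Cfsg.isometryGroup F ⇑Q)) (vs : List (ι → F)) (hvs : ∀ v ∈ vs, Q v ≠ 0)
    (hg : ((g : Matrix.GeneralLinearGroup ι F) : Matrix ι ι F)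
      = (vs.map (fun v => Cfsg.reflectionMatrix ⇑Q v)).prod) :
    g ∈ Cfsg.Omega F ⇑Q
      ↔ Even vs.length ∧ ((2 : F) ≠ 0 → IsSquare (vs.map (fun v => Q v)).prod) := by
  by_cases h2 : (2 : F) = 0
  · rw [mem_Omega_iff_even_rank h2 Q hQ hgen, hg]
    have := rank_refl_list Q hQ vs hvs
    constructor
    · intro h
      refine ⟨?_, fun h' => absurd h2 h'⟩
      rw [Nat.even_iff] at h ⊢
      omega
    · rintro ⟨h, -⟩
      rw [Nat.even_iff] at h ⊢
      omega
  · rw [Cfsg.Agent.Lib.helper49.spinor_criterion h2 Q g vs hvs hg]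
    constructor
    · rintro ⟨h, h'⟩
      exact ⟨h, fun _ => h'⟩
    · rintro ⟨h, h'⟩
      exact ⟨h, h' h2⟩

end

end Cfsg.Agent.Lib.helper42
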