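import Mathlib
import Cfsg.Prelude.Def_LocalEven

set_option autoImplicit false

namespace Cfsg.Agent.Lib.helper42

open scoped Pointwise

/-- Every `p`-subgroup of `G` is commutative (for a finite group: the Sylow `p`-subgroups are abelian). -/
def PComm (p : ℕ) (G : Type*) [Group G] : Prop :=
  ∀ P : Subgroup G, IsPGroup p P → ∀ x ∈ P, ∀ y ∈ P, x * y = y * x

theorem PComm.subgroup {p : ℕ} {G : Type*} [Group G] (h : PComm p G) (H : Subgroup G) : PComm p H := by
  intro P hP x hx y hy
  have h1 : IsPGroup p (P.map H.subtype) := hP.map H.subtype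
  have h2 := h (P.map H.subtype) h1 (H.subtype x) (Subgroup.mem_map_of_mem _ hx) (H.subtype y)
    (Subgroup.mem_map_of_mem _ hy)
  exact Subtype.ext h2

theorem PComm.of_surjective {p : ℕ} [Fact p.Prime] {G H : Type*} [Group G] [Group H] [Finite G]
    (h : PComm p G) (f : G →* H) (hf : Function.Surjective f) : PComm p H := by
  intro Q hQ x hx y hy
  have : Finite H := Finite.of_surjective f hf
  obtain ⟨Q', hQ'⟩ := hQ.exists_le_sylow
  let P₀ : Sylow p G := Classical.arbitrary (Sylow p G)
  obtain ⟨g, hg⟩ := MulAction.exists_smul_eq H (P₀.mapSurjective hf) Q'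
  have hx' : x ∈ (MulAut.conj g • ((P₀.mapSurjective hf : Sylow p H) : Subgroup H)) := by
    rw [← Sylow.coe_subgroup_smul, hg]; exact hQ' hx
  have hy' : y ∈ (MulAut.conj g • ((P₀.mapSurjective hf : Sylow p H) : Subgroup H)) := by
    rw [← Sylow.coe_subgroup_smul, hg]; exact hQ' hy
  rw [Subgroup.mem_pointwise_smul_iff_inv_smul_mem, Sylow.coe_mapSurjective] at hx' hy'
  obtain ⟨a, ha, hax⟩ := Subgroup.mem_map.mp hx'
  obtain ⟨b, hb, hby⟩ := Subgroup.mem_map.mp hy'
  have hab := h (P₀ : Subgroup G) P₀.isPGroup' a ha b hb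
  have hx2 : x = g * f a * g⁻¹ := by
    rw [hax]; simp only [MulAut.smul_def, ← map_inv, MulAut.conj_apply, inv_inv]; group
  have hy2 : y = g * f b * g⁻¹ := by
    rw [hby]; simp only [MulAut.smul_def, ← map_inv, MulAut.conj_apply, inv_inv]; group
  have hfab : f a * f b = f b * f a := by rw [← map_mul, ← map_mul, hab]
  rw [hx2, hy2]
  calc g * f a * g⁻¹ * (g * f b * g⁻¹) = g * (f a * f b) * g⁻¹ := by group
    _ = g * (f b * f a) * g⁻¹ := by rw [hfab]
    _ = g * f b * g⁻¹ * (g * f a * g⁻¹) := by group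

/-- If `H` is involved in the finite group `G` and the `p`-subgroups of `G` are commutative, so are those of `H`. -/
theorem PComm.of_involves {p : ℕ} [Fact p.Prime] {G : Type*} {H : Type*} [Group G] [Group H] [Finite G]
    (h : PComm p G) (hI : Cfsg.Involves H G) : PComm p H := by
  obtain ⟨K, R, hN, ⟨e⟩⟩ := hI
  have h1 : PComm p K := h.subgroup K
  have h2 : PComm p (K ⧸ R.subgroupOf K) := h1.of_surjective (QuotientGroup.mk' _) (QuotientGroup.mk'_surjective _)
  exact h2.of_surjective e.toMonoidHom e.surjective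

end Cfsg.Agent.Lib.helper42
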