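import Mathlib

namespace Cfsg.Agent.Lib.helper45.PearlC

theorem h42_comm_central {G : Type*} [Group G] [Finite G] (p : ℕ) [Fact p.Prime]
    (E : Subgroup G) (hE : Nat.card ↥E = p ^ 3)
    (hC : Subgroup.centralizer (E : Set G) ≤ E)
    (hCp : Nat.card ↥(Subgroup.centralizer (E : Set G)) = p) (a b : G) (ha : a ∈ E)
    (hb : b ∈ E) : a * b * a⁻¹ * b⁻¹ ∈ Subgroup.centralizer (E : Set G) := by
  have hp : p.Prime := Fact.out
  -- Z = center of E
  set Z : Subgroup ↥E := Subgroup.center ↥E with hZdef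
  have hZmap : Z.map E.subtype = Subgroup.centralizer (E : Set G) := by
    ext x
    constructor
    · rintro ⟨y, hy, rfl⟩
      rw [Subgroup.mem_centralizer_iff]
      intro h hh
      have := Subgroup.mem_center_iff.mp hy ⟨h, hh⟩
      exact congrArg Subtype.val this
    · intro hx
      refine ⟨⟨x, hC hx⟩, ?_, rfl⟩
      rw [SetLike.mem_coe, Subgroup.mem_center_iff]
      intro g
      apply Subtype.ext
      exact (Subgroup.mem_centralizer_iff.mp hx) g.1 g.2
  have hZcard : Nat.card Z = p := by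
    rw [← hCp, ← hZmap]
    exact (Subgroup.card_map_of_injective (Subgroup.subtype_injective E)).symm
  have hq : Nat.card (↥E ⧸ Z) = p ^ 2 := by
    have h1 := Subgroup.card_eq_card_quotient_mul_card_subgroup Z
    rw [hE, hZcard] at h1
    have hp0 : 0 < p := hp.pos
    have : p ^ 3 = p ^ 2 * p := by ring
    rw [this] at h1
    exact (Nat.eq_of_mul_eq_mul_right hp0 h1).symm
  have hcomm := IsPGroup.commutative_of_card_eq_prime_sq (p := p) (G := ↥E ⧸ Z) hq
  have hmem : (⟨a, ha⟩ : ↥E) * ⟨b, hb⟩ * (⟨a, ha⟩ : ↥E)⁻¹ * (⟨b, hb⟩ : ↥E)⁻¹ ∈ Z := by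
    rw [← QuotientGroup.eq_one_iff]
    simp only [QuotientGroup.mk_mul, QuotientGroup.mk_inv]
    rw [hcomm (QuotientGroup.mk ⟨a, ha⟩) (QuotientGroup.mk ⟨b, hb⟩)]
    group
  have : a * b * a⁻¹ * b⁻¹ ∈ Z.map E.subtype := ⟨_, hmem, rfl⟩
  rwa [hZmap] at this

end Cfsg.Agent.Lib.helper45.PearlC
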