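import Mathlib

namespace Cfsg.Agent.Lib.helper45.PearlC

private theorem h42_conj_pow {G : Type*} [Group G] (d e c : G)
    (hc : ∀ g : G, c * g = g * c) (hde : d * e * d⁻¹ * e⁻¹ = c) (k : ℕ) :
    d ^ k * e * (d ^ k)⁻¹ = c ^ k * e := by
  have h1 : d * e * d⁻¹ = c * e := by
    rw [← hde]; group
  induction k with
  | zero => simp
  | succ k ih =>
    have : d ^ (k + 1) * e * (d ^ (k + 1))⁻¹ = d * (d ^ k * e * (d ^ k)⁻¹) * d⁻¹ := by
      rw [pow_succ']; group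
    rw [this, ih]
    have h2 : d * (c ^ k * e) * d⁻¹ = c ^ k * (d * e * d⁻¹) := by
      have hck : ∀ g : G, c ^ k * g = g * c ^ k := by
        intro g
        exact ((Commute.pow_left (show Commute c g from hc g) k)).eq
      calc d * (c ^ k * e) * d⁻¹ = (d * c ^ k) * e * d⁻¹ := by group
        _ = (c ^ k * d) * e * d⁻¹ := by rw [hck d]
        _ = c ^ k * (d * e * d⁻¹) := by group
    rw [h2, h1, pow_succ]
    group

theorem h42_comm_adjust {G : Type*} [Group G] (d e w c : G) (k : ℕ)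
    (hc : ∀ g : G, c * g = g * c) (hde : d * e * d⁻¹ * e⁻¹ = c)
    (hwe : w * e * w⁻¹ * e⁻¹ = c ^ k) (hdw : d * w = w * d) :
    e * (w * (d ^ k)⁻¹) = (w * (d ^ k)⁻¹) * e := by
  have h1 := h42_conj_pow d e c hc hde k
  have h2 : w * e * w⁻¹ = c ^ k * e := by
    rw [← hwe]; group
  have h3 : d ^ k * e * (d ^ k)⁻¹ = w * e * w⁻¹ := by rw [h1, h2]
  have hdkw : d ^ k * w = w * d ^ k := ((Commute.pow_left (show Commute d w from hdw) k)).eq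
  -- e = (d^k)⁻¹ * w * e * w⁻¹ * d^k
  have h4 : e = (d ^ k)⁻¹ * (w * e * w⁻¹) * d ^ k := by
    rw [← h3]; group
  have h5 : (d ^ k)⁻¹ * w = w * (d ^ k)⁻¹ := by
    have : w = d ^ k * w * (d ^ k)⁻¹ := by rw [hdkw]; group
    calc (d ^ k)⁻¹ * w = (d ^ k)⁻¹ * (d ^ k * w * (d ^ k)⁻¹) := by rw [← this]
      _ = w * (d ^ k)⁻¹ := by group
  -- e * (w * (d^k)⁻¹) = (w (d^k)⁻¹) e
  calc e * (w * (d ^ k)⁻¹) = ((d ^ k)⁻¹ * (w * e * w⁻¹) * d ^ k) * (w * (d ^ k)⁻¹) := by rw [← h4]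
    _ = (d ^ k)⁻¹ * w * e * w⁻¹ * (d ^ k * w) * (d ^ k)⁻¹ := by group
    _ = (d ^ k)⁻¹ * w * e * w⁻¹ * (w * d ^ k) * (d ^ k)⁻¹ := by rw [hdkw]
    _ = ((d ^ k)⁻¹ * w) * e := by group
    _ = (w * (d ^ k)⁻¹) * e := by rw [h5]

end Cfsg.Agent.Lib.helper45.PearlC
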