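import Mathlib
import Cfsg.Agent.Lib.helper51.S2113Defs
import Cfsg.Agent.Lib.helper69.StemSylow

set_option autoImplicit false

namespace Cfsg.Agent.Lib.helper42.S2113

open scoped commutatorElement
open Cfsg.Agent.Lib.helper69

/-- PIECE TWOC (racer copy of helper42): the preimage of such a `2³` in a central extension is abelian. -/
theorem helper42_two_comm {G Γ : Type*} [Group G] [Group Γ] (σ : Γ →* G) (hsurj : Function.Surjective σ)
    (hc : σ.ker ≤ Subgroup.center Γ) (S : Subgroup G) (hcard : Nat.card S = 8)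
    (hexp : ∀ x ∈ S, x * x = 1) (g : G) (hg : ∀ x ∈ S, g * x * g⁻¹ ∈ S) (hg7 : g ^ 7 = 1)
    (hfix : ∀ x ∈ S, g * x * g⁻¹ = x → x = 1)
    (hF : ∀ (f : ZMod 7 → Γ) (j : ZMod 7), (∀ a b, f a * f b = f b * f a) → f 0 = 1 →
      (∀ k, f k * f k = 1) → (∀ k, f (-k) = f k) → j ≠ 0 → j ≠ 1 →
      (∀ i, f (i + j) = f i * f (i + 1)) → ∀ k, f k = 1)
    (x y : Γ) (hx : σ x ∈ S) (hy : σ y ∈ S) : x * y = y * x := by
  classical
  have hinv : ∀ a ∈ S, a⁻¹ = a := fun a ha => inv_eq_of_mul_eq_one_left (hexp a ha)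
  have hScomm : ∀ a ∈ S, ∀ b ∈ S, a * b = b * a := by
    intro a ha b hb
    have h1 := hinv (a * b) (S.mul_mem ha hb)
    rw [mul_inv_rev, hinv a ha, hinv b hb] at h1
    exact h1.symm
  obtain ⟨ℓ, hℓ⟩ : ∃ ℓ : G → Γ, ∀ s, σ (ℓ s) = s :=
    ⟨Function.surjInv hsurj, Function.surjInv_eq hsurj⟩
  obtain ⟨c, hcdef⟩ : ∃ c : G → G → Γ, ∀ s t, c s t = ⁅ℓ s, ℓ t⁆ :=
    ⟨fun s t => ⁅ℓ s, ℓ t⁆, fun _ _ => rfl⟩
  have c_cent : ∀ s ∈ S, ∀ t ∈ S, c s t ∈ Subgroup.center Γ := by
    intro s hs t ht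
    rw [hcdef]
    apply commutatorElement_mem_center_of_central σ hc
    rw [hℓ, hℓ]; exact hScomm s hs t ht
  have c_eq : ∀ a b : Γ, ⁅a, b⁆ = c (σ a) (σ b) := by
    intro a b
    rw [hcdef]
    exact commutatorElement_congr_of_central σ hc a (ℓ (σ a)) b (ℓ (σ b)) (hℓ _).symm (hℓ _).symm
  have c_mul_left : ∀ s ∈ S, ∀ s' ∈ S, ∀ t ∈ S, c (s * s') t = c s t * c s' t := by
    intro s hs s' hs' t ht
    have h1 : c (s * s') t = ⁅ℓ s * ℓ s', ℓ t⁆ := by
      rw [hcdef]
      exact commutatorElement_congr_of_central σ hc _ _ _ _ (by rw [hℓ, map_mul, hℓ, hℓ]) rfl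
    have h2 := c_cent s' hs' t ht
    rw [hcdef] at h2
    rw [h1, hcdef, hcdef]
    exact stem_commutatorElement_mul_left _ _ _ h2
  have c_mul_right : ∀ s ∈ S, ∀ t ∈ S, ∀ t' ∈ S, c s (t * t') = c s t * c s t' := by
    intro s hs t ht t' ht'
    have h1 : c s (t * t') = ⁅ℓ s, ℓ t * ℓ t'⁆ := by
      rw [hcdef]
      exact commutatorElement_congr_of_central σ hc _ _ _ _ rfl (by rw [hℓ, map_mul, hℓ, hℓ])
    have h2 := c_cent s hs t' ht'
    rw [hcdef] at h2
    rw [h1, hcdef, hcdef]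
    exact stem_commutatorElement_mul_right _ _ _ h2
  have c_one_left : ∀ t, c 1 t = 1 := by
    intro t
    have h1 : c 1 t = ⁅(1 : Γ), ℓ t⁆ := by
      rw [hcdef]
      exact commutatorElement_congr_of_central σ hc _ _ _ _ (by rw [hℓ, map_one]) rfl
    rw [h1, commutatorElement_one_left]
  have c_one_right : ∀ s, c s 1 = 1 := by
    intro s
    have h1 : c s 1 = ⁅ℓ s, (1 : Γ)⁆ := by
      rw [hcdef]
      exact commutatorElement_congr_of_central σ hc _ _ _ _ rfl (by rw [hℓ, map_one])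
    rw [h1, commutatorElement_one_right]
  have c_self : ∀ s, c s s = 1 := fun s => by rw [hcdef]; exact commutatorElement_self _
  have c_sq : ∀ s ∈ S, ∀ t ∈ S, c s t * c s t = 1 := by
    intro s hs t ht
    rw [← c_mul_left s hs s hs t ht, hexp s hs, c_one_left]
  have c_symm : ∀ s ∈ S, ∀ t ∈ S, c t s = c s t := by
    intro s hs t ht
    have h1 : c t s = (c s t)⁻¹ := by
      rw [hcdef, hcdef]; exact (commutatorElement_inv _ _).symm
    rw [h1]
    exact inv_eq_of_mul_eq_one_left (c_sq s hs t ht)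
  have c_conj : ∀ h : G, ∀ s ∈ S, ∀ t ∈ S, c (h * s * h⁻¹) (h * t * h⁻¹) = c s t := by
    intro h s hs t ht
    have h1 : c (h * s * h⁻¹) (h * t * h⁻¹) = ⁅ℓ h * ℓ s * (ℓ h)⁻¹, ℓ h * ℓ t * (ℓ h)⁻¹⁆ := by
      rw [hcdef]
      exact commutatorElement_congr_of_central σ hc _ _ _ _ (by simp [hℓ]) (by simp [hℓ])
    have h2 := c_cent s hs t ht
    rw [hcdef] at h2
    rw [h1, hcdef]
    exact commutatorElement_conj_of_central _ _ _ h2
  have main : ∀ s ∈ S, ∀ t ∈ S, c s t = 1 := by
    intro s hs t ht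
    by_cases hs1 : s = 1
    · rw [hs1]; exact c_one_left t
    by_cases ht1 : t = 1
    · rw [ht1]; exact c_one_right s
    have hpow : ∀ n : ℕ, ∀ u ∈ S, g ^ n * u * (g ^ n)⁻¹ ∈ S := by
      intro n
      induction n with
      | zero => intro u hu; simpa using hu
      | succ n ih =>
        intro u hu
        have h3 := ih (g * u * g⁻¹) (hg u hu)
        have e : g ^ (n + 1) * u * (g ^ (n + 1))⁻¹ = g ^ n * (g * u * g⁻¹) * (g ^ n)⁻¹ := by
          rw [pow_succ]; group
        rw [e]; exact h3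
    have hgadd : ∀ a b : ZMod 7, g ^ (a + b).val = g ^ a.val * g ^ b.val := by
      intro a b
      rw [ZMod.val_add, ← pow_eq_pow_mod _ hg7, pow_add]
    obtain ⟨P, hP⟩ : ∃ P : ZMod 7 → G, ∀ k, P k = g ^ k.val * s * (g ^ k.val)⁻¹ :=
      ⟨fun k => g ^ k.val * s * (g ^ k.val)⁻¹, fun _ => rfl⟩
    have P_mem : ∀ k, P k ∈ S := fun k => by rw [hP]; exact hpow _ s hs
    have P_zero : P 0 = s := by rw [hP]; simp
    have P_add : ∀ a b : ZMod 7, P (a + b) = g ^ a.val * P b * (g ^ a.val)⁻¹ := by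
      intro a b
      rw [hP, hP, hgadd]; group
    have P_ne_one : ∀ k, P k ≠ 1 := by
      intro k hk
      apply hs1
      rw [hP] at hk
      have e : s = (g ^ k.val)⁻¹ * (g ^ k.val * s * (g ^ k.val)⁻¹) * g ^ k.val := by group
      rw [e, hk]; group
    have hval1 : (1 : ZMod 7).val = 1 := rfl
    have P_one : P 1 = g * s * g⁻¹ := by
      rw [hP, hval1, pow_one]
    have : Fact (Nat.Prime 7) := ⟨by norm_num⟩
    have P_fix : ∀ d : ZMod 7, P d = s → d = 0 := by
      intro d hd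
      by_contra hd0
      rw [hP] at hd
      have hiter : ∀ n : ℕ, (g ^ d.val) ^ n * s * ((g ^ d.val) ^ n)⁻¹ = s := by
        intro n
        induction n with
        | zero => simp
        | succ n ih =>
          have e : (g ^ d.val) ^ (n + 1) * s * ((g ^ d.val) ^ (n + 1))⁻¹
              = (g ^ d.val) ^ n * (g ^ d.val * s * (g ^ d.val)⁻¹) * ((g ^ d.val) ^ n)⁻¹ := by
            rw [pow_succ]; group
          rw [e, hd, ih]
      have h1 := hiter (d⁻¹).val
      have h2 : (g ^ d.val) ^ (d⁻¹).val = g := by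
        rw [← pow_mul, pow_eq_pow_mod _ hg7, ← ZMod.val_mul, mul_inv_cancel₀ hd0, hval1, pow_one]
      rw [h2] at h1
      exact hs1 (hfix s hs h1)
    have P_inj : Function.Injective P := by
      intro a b hab
      have h1 : P (a + (b - a)) = P (a + 0) := by
        rw [add_zero, add_sub_cancel]; exact hab.symm
      rw [P_add, P_add a 0, P_zero] at h1
      have h2 : P (b - a) = s := by
        have e1 : P (b - a) = (g ^ a.val)⁻¹ * (g ^ a.val * P (b - a) * (g ^ a.val)⁻¹) * g ^ a.val := by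
          group
        rw [e1, h1]; group
      have h3 := P_fix _ h2
      exact (sub_eq_zero.mp h3).symm
    have hfin : (S : Set G).Finite := by
      apply Set.finite_of_ncard_ne_zero
      rw [← Nat.card_coe_set_eq]
      show Nat.card S ≠ 0
      rw [hcard]; norm_num
    have hrange : Set.range P = (S : Set G) \ {1} := by
      apply Set.eq_of_subset_of_ncard_le
      · rintro _ ⟨k, rfl⟩
        exact ⟨P_mem k, P_ne_one k⟩
      · have h1 : ((S : Set G) \ {1}).ncard = 7 := by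
          rw [Set.ncard_sdiff_singleton_of_mem (S.one_mem), ← Nat.card_coe_set_eq]
          show Nat.card S - 1 = 7
          rw [hcard]
        have h2 : (Set.range P).ncard = 7 := by
          rw [← Set.image_univ, Set.ncard_image_of_injective _ P_inj, Set.ncard_univ]
          simp
        rw [h1, h2]
      · exact hfin.subset Set.sdiff_subset
    have hsurjP : ∀ u ∈ S, u ≠ 1 → ∃ k, P k = u := by
      intro u hu hu1
      have h3 : u ∈ Set.range P := by rw [hrange]; exact ⟨hu, hu1⟩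
      exact h3
    have hsP1 : s * P 1 ∈ S := S.mul_mem hs (P_mem 1)
    have hsP1ne : s * P 1 ≠ 1 := by
      intro h
      have h3 : P 1 = s := by
        have h4 : P 1 = s⁻¹ := (inv_eq_of_mul_eq_one_right h).symm
        rw [h4, hinv s hs]
      rw [P_one] at h3
      exact hs1 (hfix s hs h3)
    obtain ⟨j, hj⟩ := hsurjP _ hsP1 hsP1ne
    have hj0 : j ≠ 0 := by
      rintro rfl
      rw [P_zero] at hj
      exact P_ne_one 1 (by simpa using hj.symm)
    have hj1 : j ≠ 1 := by
      rintro rfl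
      exact hs1 (by simpa using hj.symm)
    have hPrel : ∀ i : ZMod 7, P (i + j) = P i * P (i + 1) := by
      intro i
      rw [P_add, P_add i 1, hj, hP i]
      group
    have hfall : ∀ k, c s (P k) = 1 := by
      refine hF (fun k => c s (P k)) j ?_ ?_ ?_ ?_ hj0 hj1 ?_
      · intro a b
        exact (Subgroup.mem_center_iff.mp (c_cent s hs _ (P_mem b))) (c s (P a))
      · show c s (P 0) = 1
        rw [P_zero]; exact c_self s
      · intro k; exact c_sq s hs _ (P_mem k)
      · intro k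
        show c s (P (-k)) = c s (P k)
        have h1 := c_conj (g ^ k.val) s hs (P (-k)) (P_mem _)
        rw [← P_add, add_neg_cancel, P_zero, ← hP] at h1
        rw [← h1]
        exact c_symm s hs (P k) (P_mem k)
      · intro i
        show c s (P (i + j)) = c s (P i) * c s (P (i + 1))
        rw [hPrel, c_mul_right s hs _ (P_mem i) _ (P_mem _)]
    obtain ⟨k, hk⟩ := hsurjP t ht ht1
    rw [← hk]; exact hfall k
  rw [← commutatorElement_eq_one_iff_mul_comm, c_eq]
  exact main _ hx _ hy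

end Cfsg.Agent.Lib.helper42.S2113
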