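import Mathlib
import Cfsg.Agent.Lib.helper44.SL3Defs
import Cfsg.Agent.Lib.helper79.PresHC

/-! S2287 piece MOD1: merging the torus relation. -/

set_option autoImplicit false

namespace Cfsg.Agent.Lib.helper44.SL3

open Polynomial

theorem mod_merge {G : Type*} [Group G] (u h c : G) (p j : ℕ)
    (hE : Commute u (h * u * h⁻¹)) (hF : h ^ j * u * (h ^ j)⁻¹ = u * (h * u * h⁻¹))
    (hup : u ^ p = h * (c * h * c⁻¹) * (c * c * h * (c * c)⁻¹)) (c3 : c * c * c = 1)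
    (hk : Commute h (c * h * c⁻¹)) :
    u ^ p = 1 ∧ h * (c * h * c⁻¹) * (c * c * h * (c * c)⁻¹) = 1 ∧
      (∀ n : ℕ, Commute u (h ^ n * u * (h ^ n)⁻¹)) ∧ Commute (c * c * h * (c * c)⁻¹) h := by
  have hcinv : c⁻¹ = c * c := by
    rw [inv_eq_iff_mul_eq_one, ← mul_assoc]; exact c3
  -- k and k' commute (conjugate `hk` by `c`)
  have hkk' : Commute (c * h * c⁻¹) (c * c * h * (c * c)⁻¹) := by
    have h1 : c * (h * (c * h * c⁻¹)) * c⁻¹ = c * ((c * h * c⁻¹) * h) * c⁻¹ := by rw [hk.eq]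
    have e1 : c * (h * (c * h * c⁻¹)) * c⁻¹ = (c * h * c⁻¹) * (c * c * h * (c * c)⁻¹) := by group
    have e2 : c * ((c * h * c⁻¹) * h) * c⁻¹ = (c * c * h * (c * c)⁻¹) * (c * h * c⁻¹) := by group
    rw [e1, e2] at h1
    exact h1
  -- k' and h commute (conjugate `hkk'` by `c`, using `c³ = 1`)
  have hc3' : c * c * c * h * (c * c * c)⁻¹ = h := by rw [c3]; group
  have hk'h : Commute (c * c * h * (c * c)⁻¹) h := by
    have h1 : c * ((c * h * c⁻¹) * (c * c * h * (c * c)⁻¹)) * c⁻¹ =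
        c * ((c * c * h * (c * c)⁻¹) * (c * h * c⁻¹)) * c⁻¹ := by rw [hkk'.eq]
    have e1 : c * ((c * h * c⁻¹) * (c * c * h * (c * c)⁻¹)) * c⁻¹ =
        (c * c * h * (c * c)⁻¹) * (c * c * c * h * (c * c * c)⁻¹) := by group
    have e2 : c * ((c * c * h * (c * c)⁻¹) * (c * h * c⁻¹)) * c⁻¹ =
        (c * c * c * h * (c * c * c)⁻¹) * (c * c * h * (c * c)⁻¹) := by group
    rw [e1, e2, hc3'] at h1
    exact h1
  -- t = h k k' commutes with h
  have ht_h : Commute (h * (c * h * c⁻¹) * (c * c * h * (c * c)⁻¹)) h :=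
    ((Commute.refl h).mul_left hk.symm).mul_left hk'h
  have ht_hj : Commute (h * (c * h * c⁻¹) * (c * c * h * (c * c)⁻¹)) (h ^ j) := ht_h.pow_right j
  have ht1 : h * (c * h * c⁻¹) * (c * c * h * (c * c)⁻¹) = 1 :=
    Cfsg.Agent.Lib.helper44.Pres.eq_one_of_merge u h (h ^ j) _ p hup hE hF ht_h ht_hj
  refine ⟨by rw [hup, ht1], ht1, ?_, hk'h⟩
  exact Cfsg.Agent.Lib.helper44.Pres.comm_trick u h (h ^ j) ((Commute.refl h).pow_right j) hE hF

end Cfsg.Agent.Lib.helper44.SL3
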