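import Mathlib
import Cfsg.Agent.Lib.helper44.SL3Defs
import Cfsg.Agent.Lib.helper92.PresPW

/-! S2287 piece NAT: naturality of the relator lists. -/

set_option autoImplicit false

namespace Cfsg.Agent.Lib.helper44.SL3

open Polynomial

theorem relsGen_map {G H : Type*} [Group G] [Group H] (f : G →* H) (p j : ℕ)
    (m : (ZMod p)[X]) (u h c g : G) :
    (relsGen p j m u h c g).map f = relsGen p j m (f u) (f h) (f c) (f g) := by
  simp [relsGen, cm, wk, wk', wy, wz, w12, w21, wZω, Pres.polyWord_map]

theorem relsFour_map {G H : Type*} [Group G] [Group H] (f : G →* H) (u h c g : G) :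
    (relsFour u h c g).map f = relsFour (f u) (f h) (f c) (f g) := by
  simp [relsFour, cm, wk, wk', wy, wz, w12, w21, wZω]

theorem relsPrime_map {G H : Type*} [Group G] [Group H] (f : G →* H) (p : ℕ) (u h c g : G) :
    (relsPrime p u h c g).map f = relsPrime p (f u) (f h) (f c) (f g) := by
  simp [relsPrime, cm, wk, wk', wy, wz, w12, w21, wZω]

end Cfsg.Agent.Lib.helper44.SL3
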