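import Mathlib
import Cfsg.Agent.Lib.helper44.SL3Defs
import Cfsg.Agent.Lib.helper44.StNC

/-! S2287 piece ST: Steinberg data of type `A₂` from an `IsA2Conf`. -/

set_option autoImplicit false

namespace Cfsg.Agent.Lib.helper44.SL3

open Polynomial

private lemma h42_fin3 (i : Fin 3) : i = 0 ∨ i = 1 ∨ i = 2 := by
  revert i; decide

private lemma h42_rootX_conj {G : Type*} [Group G] {F : Type*} [Field F] (x : F → G) (c : G)
    (c3 : c * c * c = 1) (i j : Fin 3) (a : F) :
    c * rootX x c i j a * c⁻¹ = rootX x c (i + 1) (j + 1) a := by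
  have hc3' : ∀ w : G, c * (c ^ 2 * w * (c ^ 2)⁻¹) * c⁻¹ = w := by
    intro w
    have : c * (c ^ 2 * w * (c ^ 2)⁻¹) * c⁻¹ = (c * c * c) * w * (c * c * c)⁻¹ := by
      rw [pow_two]; simp only [mul_inv_rev, mul_assoc]
    rw [this, c3]; simp
  rcases h42_fin3 i with rfl | rfl | rfl <;> rcases h42_fin3 j with rfl | rfl | rfl
  · -- (0,0)
    have h1 : rootX x c 0 0 a = 1 := by
      unfold rootX; rw [if_neg (by decide), if_neg (by decide)]
    have h2 : rootX x c (0 + 1) (0 + 1) a = 1 := by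
      unfold rootX; rw [if_neg (by decide), if_neg (by decide)]
    rw [h1, h2]; group
  · -- (0,1) -> (1,2)
    have h1 : rootX x c 0 1 a = x a := by
      unfold rootX; rw [if_pos (by decide)]; simp
    have h2 : rootX x c (0 + 1) (1 + 1) a = c * x a * c⁻¹ := by
      unfold rootX; rw [if_pos (by decide)]; simp
    rw [h1, h2]
  · -- (0,2) -> (1,0)
    have h1 : rootX x c 0 2 a = ZZ x c a := by
      unfold rootX; rw [if_neg (by decide), if_pos (by decide)]; simp
    have h2 : rootX x c (0 + 1) (2 + 1) a = c * ZZ x c a * c⁻¹ := by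
      unfold rootX; rw [if_neg (by decide), if_pos (by decide)]; simp
    rw [h1, h2]
  · -- (1,0) -> (2,1)
    have h1 : rootX x c 1 0 a = c * ZZ x c a * c⁻¹ := by
      unfold rootX; rw [if_neg (by decide), if_pos (by decide)]; simp
    have h2 : rootX x c (1 + 1) (0 + 1) a = c ^ 2 * ZZ x c a * (c ^ 2)⁻¹ := by
      unfold rootX; rw [if_neg (by decide), if_pos (by decide)]; rfl
    rw [h1, h2, pow_two]; simp only [mul_inv_rev, mul_assoc]
  · -- (1,1)
    have h1 : rootX x c 1 1 a = 1 := by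
      unfold rootX; rw [if_neg (by decide), if_neg (by decide)]
    have h2 : rootX x c (1 + 1) (1 + 1) a = 1 := by
      unfold rootX; rw [if_neg (by decide), if_neg (by decide)]
    rw [h1, h2]; group
  · -- (1,2) -> (2,0)
    have h1 : rootX x c 1 2 a = c * x a * c⁻¹ := by
      unfold rootX; rw [if_pos (by decide)]; simp
    have h2 : rootX x c (1 + 1) (2 + 1) a = c ^ 2 * x a * (c ^ 2)⁻¹ := by
      unfold rootX; rw [if_pos (by decide)]; rfl
    rw [h1, h2, pow_two]; simp only [mul_inv_rev, mul_assoc]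
  · -- (2,0) -> (0,1)
    have h1 : rootX x c 2 0 a = c ^ 2 * x a * (c ^ 2)⁻¹ := by
      unfold rootX; rw [if_pos (by decide)]; rfl
    have h2 : rootX x c (2 + 1) (0 + 1) a = x a := by
      unfold rootX; rw [if_pos (by decide)]
      have : (((2 : Fin 3) + 1 : Fin 3) : ℕ) = 0 := by decide
      rw [this]; simp
    rw [h1, h2]; exact hc3' _
  · -- (2,1) -> (0,2)
    have h1 : rootX x c 2 1 a = c ^ 2 * ZZ x c a * (c ^ 2)⁻¹ := by
      unfold rootX; rw [if_neg (by decide), if_pos (by decide)]; rfl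
    have h2 : rootX x c (2 + 1) (1 + 1) a = ZZ x c a := by
      unfold rootX; rw [if_neg (by decide), if_pos (by decide)]
      have : (((2 : Fin 3) + 1 : Fin 3) : ℕ) = 0 := by decide
      rw [this]; simp
    rw [h1, h2]; exact hc3' _
  · -- (2,2)
    have h1 : rootX x c 2 2 a = 1 := by
      unfold rootX; rw [if_neg (by decide), if_neg (by decide)]
    have h2 : rootX x c (2 + 1) (2 + 1) a = 1 := by
      unfold rootX; rw [if_neg (by decide), if_neg (by decide)]
    rw [h1, h2]; group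

-- ST
theorem stdata_of_conf {G : Type*} [Group G] {F : Type*} [Field F] (x : F → G) (c : G)
    (hc : IsA2Conf x c) : ∃ D : StData (Fin 3) F G, D.X = rootX x c := by
  have c3 := hc.c3
  have hconj := h42_rootX_conj x c c3
  -- explicit values
  have X01 : ∀ a, rootX x c 0 1 a = x a := by
    intro a; unfold rootX; rw [if_pos (by decide)]; simp
  have X12 : ∀ a, rootX x c 1 2 a = yy x c a := by
    intro a; unfold rootX; rw [if_pos (by decide)]; simp [yy]
  have X02 : ∀ a, rootX x c 0 2 a = ZZ x c a := by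
    intro a; unfold rootX; rw [if_neg (by decide), if_pos (by decide)]; simp
  have X21 : ∀ a, rootX x c 2 1 a = WW x c a := by
    intro a; unfold rootX; rw [if_neg (by decide), if_pos (by decide)]
    show c ^ 2 * ZZ x c a * (c ^ 2)⁻¹ = c * c * ZZ x c a * (c * c)⁻¹
    rw [pow_two]
  -- shifts
  have shiftA : ∀ i j : Fin 3,
      (∀ t u, rootX x c i j t * rootX x c i j u = rootX x c i j (t + u)) →
      (∀ t u, rootX x c (i + 1) (j + 1) t * rootX x c (i + 1) (j + 1) u =
        rootX x c (i + 1) (j + 1) (t + u)) := by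
    intro i j h t u
    rw [← hconj, ← hconj, ← hconj, ← h t u]; group
  have shiftR : ∀ i j k l : Fin 3,
      (∀ t u, rootX x c i j t * rootX x c k l u = rootX x c k l u * rootX x c i j t) →
      (∀ t u, rootX x c (i + 1) (j + 1) t * rootX x c (k + 1) (l + 1) u =
        rootX x c (k + 1) (l + 1) u * rootX x c (i + 1) (j + 1) t) := by
    intro i j k l h t u
    rw [← hconj, ← hconj]
    have h1 : c * rootX x c i j t * c⁻¹ * (c * rootX x c k l u * c⁻¹) =
        c * (rootX x c i j t * rootX x c k l u) * c⁻¹ := by group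
    rw [h1, h t u]; group
  have shiftT : ∀ i j l : Fin 3,
      (∀ t u, rootX x c i j t * rootX x c j l u * (rootX x c i j t)⁻¹ * (rootX x c j l u)⁻¹ =
        rootX x c i l (t * u)) →
      (∀ t u, rootX x c (i + 1) (j + 1) t * rootX x c (j + 1) (l + 1) u *
          (rootX x c (i + 1) (j + 1) t)⁻¹ * (rootX x c (j + 1) (l + 1) u)⁻¹ =
        rootX x c (i + 1) (l + 1) (t * u)) := by
    intro i j l h t u
    rw [← hconj, ← hconj, ← hconj, ← h t u]; group
  -- additivity of Z
  have Zadd' : ∀ a b, ZZ x c (a + b) = ZZ x c b * ZZ x c a := by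
    intro a b
    have hrow := (hc.row a b).eq
    unfold ZZ zz cm at hrow ⊢
    rw [hc.x_add a b]
    have e : x a * x b * yy x c 1 * (x a * x b)⁻¹ * (yy x c 1)⁻¹ =
        (x a * (x b * yy x c 1 * (x b)⁻¹ * (yy x c 1)⁻¹)) * (x a)⁻¹ *
          (x a * yy x c 1 * (x a)⁻¹ * (yy x c 1)⁻¹) := by group
    rw [e, hrow]; group
  -- add
  have A01 : ∀ t u, rootX x c 0 1 t * rootX x c 0 1 u = rootX x c 0 1 (t + u) := by
    intro t u; rw [X01, X01, X01, hc.x_add]
  have A02 : ∀ t u, rootX x c 0 2 t * rootX x c 0 2 u = rootX x c 0 2 (t + u) := by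
    intro t u; rw [X02, X02, X02, add_comm, Zadd']
  have A12 : ∀ t u, rootX x c 1 2 t * rootX x c 1 2 u = rootX x c 1 2 (t + u) := shiftA 0 1 A01
  have A20 : ∀ t u, rootX x c 2 0 t * rootX x c 2 0 u = rootX x c 2 0 (t + u) := shiftA 1 2 A12
  have A10 : ∀ t u, rootX x c 1 0 t * rootX x c 1 0 u = rootX x c 1 0 (t + u) := shiftA 0 2 A02
  have A21 : ∀ t u, rootX x c 2 1 t * rootX x c 2 1 u = rootX x c 2 1 (t + u) := shiftA 1 0 A10
  have self_of_add : ∀ i j : Fin 3,
      (∀ t u, rootX x c i j t * rootX x c i j u = rootX x c i j (t + u)) →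
      (∀ t u, rootX x c i j t * rootX x c i j u = rootX x c i j u * rootX x c i j t) := by
    intro i j h t u; rw [h, h, add_comm]
  -- comm
  have R0102 : ∀ t u, rootX x c 0 1 t * rootX x c 0 2 u = rootX x c 0 2 u * rootX x c 0 1 t := by
    intro t u; rw [X01, X02]; exact (hc.row t u).eq
  have R0201 : ∀ t u, rootX x c 0 2 t * rootX x c 0 1 u = rootX x c 0 1 u * rootX x c 0 2 t :=
    fun t u => (R0102 u t).symm
  have R1210 : ∀ t u, rootX x c 1 2 t * rootX x c 1 0 u = rootX x c 1 0 u * rootX x c 1 2 t :=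
    shiftR 0 1 0 2 R0102
  have R1012 : ∀ t u, rootX x c 1 0 t * rootX x c 1 2 u = rootX x c 1 2 u * rootX x c 1 0 t :=
    shiftR 0 2 0 1 R0201
  have R2021 : ∀ t u, rootX x c 2 0 t * rootX x c 2 1 u = rootX x c 2 1 u * rootX x c 2 0 t :=
    shiftR 1 2 1 0 R1210
  have R2120 : ∀ t u, rootX x c 2 1 t * rootX x c 2 0 u = rootX x c 2 0 u * rootX x c 2 1 t :=
    shiftR 1 0 1 2 R1012
  have R1202 : ∀ t u, rootX x c 1 2 t * rootX x c 0 2 u = rootX x c 0 2 u * rootX x c 1 2 t := by
    intro t u; rw [X12, X02]; exact (hc.col t u).eq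
  have R0212 : ∀ t u, rootX x c 0 2 t * rootX x c 1 2 u = rootX x c 1 2 u * rootX x c 0 2 t :=
    fun t u => (R1202 u t).symm
  have R2010 : ∀ t u, rootX x c 2 0 t * rootX x c 1 0 u = rootX x c 1 0 u * rootX x c 2 0 t :=
    shiftR 1 2 0 2 R1202
  have R1020 : ∀ t u, rootX x c 1 0 t * rootX x c 2 0 u = rootX x c 2 0 u * rootX x c 1 0 t :=
    shiftR 0 2 1 2 R0212
  have R0121 : ∀ t u, rootX x c 0 1 t * rootX x c 2 1 u = rootX x c 2 1 u * rootX x c 0 1 t :=
    shiftR 2 0 1 0 R2010
  have R2101 : ∀ t u, rootX x c 2 1 t * rootX x c 0 1 u = rootX x c 0 1 u * rootX x c 2 1 t :=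
    shiftR 1 0 2 0 R1020
  -- rel
  have T012 : ∀ t u, rootX x c 0 1 t * rootX x c 1 2 u * (rootX x c 0 1 t)⁻¹ *
      (rootX x c 1 2 u)⁻¹ = rootX x c 0 2 (t * u) := by
    intro t u; rw [X01, X12, X02, ← hc.bp t u]; rfl
  have T021 : ∀ t u, rootX x c 0 2 t * rootX x c 2 1 u * (rootX x c 0 2 t)⁻¹ *
      (rootX x c 2 1 u)⁻¹ = rootX x c 0 1 (t * u) := by
    intro t u; rw [X02, X21, X01, ← hc.bm t u]; rfl
  have T120 : ∀ t u, rootX x c 1 2 t * rootX x c 2 0 u * (rootX x c 1 2 t)⁻¹ *
      (rootX x c 2 0 u)⁻¹ = rootX x c 1 0 (t * u) := shiftT 0 1 2 T012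
  have T201 : ∀ t u, rootX x c 2 0 t * rootX x c 0 1 u * (rootX x c 2 0 t)⁻¹ *
      (rootX x c 0 1 u)⁻¹ = rootX x c 2 1 (t * u) := shiftT 1 2 0 T120
  have T102 : ∀ t u, rootX x c 1 0 t * rootX x c 0 2 u * (rootX x c 1 0 t)⁻¹ *
      (rootX x c 0 2 u)⁻¹ = rootX x c 1 2 (t * u) := shiftT 0 2 1 T021
  have T210 : ∀ t u, rootX x c 2 1 t * rootX x c 1 0 u * (rootX x c 2 1 t)⁻¹ *
      (rootX x c 1 0 u)⁻¹ = rootX x c 2 0 (t * u) := shiftT 1 0 2 T102
  refine ⟨{ X := rootX x c, add := ?_, comm := ?_, rel := ?_, third := ?_ }, rfl⟩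
  · intro i j hij t u
    rcases h42_fin3 i with rfl | rfl | rfl <;> rcases h42_fin3 j with rfl | rfl | rfl <;>
      first
        | exact absurd rfl hij
        | exact A01 t u | exact A02 t u | exact A12 t u | exact A20 t u | exact A10 t u
        | exact A21 t u
  · intro i j k l hij hkl hil hjk t u
    rcases h42_fin3 i with rfl | rfl | rfl <;> rcases h42_fin3 j with rfl | rfl | rfl <;>
      rcases h42_fin3 k with rfl | rfl | rfl <;> rcases h42_fin3 l with rfl | rfl | rfl <;>
      first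
        | exact absurd rfl hij | exact absurd rfl hkl | exact absurd rfl hil
        | exact absurd rfl hjk
        | exact self_of_add _ _ A01 t u | exact self_of_add _ _ A02 t u
        | exact self_of_add _ _ A12 t u | exact self_of_add _ _ A20 t u
        | exact self_of_add _ _ A10 t u | exact self_of_add _ _ A21 t u
        | exact R0102 t u | exact R0201 t u | exact R1210 t u | exact R1012 t u
        | exact R2021 t u | exact R2120 t u | exact R1202 t u | exact R0212 t u
        | exact R2010 t u | exact R1020 t u | exact R0121 t u | exact R2101 t u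
  · intro i j l hij hjl hil t u
    rcases h42_fin3 i with rfl | rfl | rfl <;> rcases h42_fin3 j with rfl | rfl | rfl <;>
      rcases h42_fin3 l with rfl | rfl | rfl <;>
      first
        | exact absurd rfl hij | exact absurd rfl hjl | exact absurd rfl hil
        | exact T012 t u | exact T021 t u | exact T120 t u | exact T201 t u
        | exact T102 t u | exact T210 t u
  · decide

end Cfsg.Agent.Lib.helper44.SL3
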