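import Cfsg.Agent.S0788
import Cfsg.Agent.S0786
import Cfsg.Agent.Lib.helper42.Dickson2

/-!
Every subgroup of index two of the special isometry group `SO(Q)` contains `Ω(Q)`; consequently `SO(Q)` has a
unique subgroup of index two (finite fields, non-degenerate polar form, dimension at least two, not
`O_4(2)`).
-/

set_option autoImplicit false
set_option linter.unusedSectionVars false

namespace Cfsg.Agent.Lib.helper42

open Matrix Cfsg Cfsg.Agent.Lib.helper17 Module

section
variable {ι : Type} [Fintype ι] [DecidableEq ι] {F : Type*} [Field F]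

theorem mem_special_iff (Q : QuadraticForm F (ι → F)) (g : ↥(Cfsg.isometryGroup F ⇑Q)) :
    g ∈ Cfsg.specialIsometryGroup F ⇑Q
      ↔ (((g : Matrix.GeneralLinearGroup ι F) : Matrix ι ι F)).det = 1 := by
  rw [Cfsg.specialIsometryGroup, MonoidHom.mem_ker, MonoidHom.comp_apply, Units.ext_iff,
    Matrix.GeneralLinearGroup.val_det_apply]
  rfl

theorem reflectionIsom_mul_mem_special (Q : QuadraticForm F (ι → F)) (u v : ι → F) (hu : Q u ≠ 0)
    (hv : Q v ≠ 0) :
    reflectionIsom Q u hu * reflectionIsom Q v hv ∈ Cfsg.specialIsometryGroup F ⇑Q := by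
  rw [mem_special_iff, Subgroup.coe_mul, Units.val_mul, reflectionIsom_coe, reflectionIsom_coe,
    Matrix.det_mul, reflectionMatrix_det Q u hu, reflectionMatrix_det Q v hv]
  ring

/-- in odd characteristic, the product of the reflections in two vectors with the same value of `Q` is the
square of an element of `SO(Q)` -/
theorem refl_mul_refl_eq_sq (h2 : (2 : F) ≠ 0) (Q : QuadraticForm F (ι → F)) (u v : ι → F)
    (hu : Q u ≠ 0) (hv : Q v ≠ 0) (huv : Q u = Q v) :
    ∃ s ∈ Cfsg.specialIsometryGroup F ⇑Q,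
      reflectionIsom Q v hv * reflectionIsom Q u hu = s * s := by
  have key : ∀ w (hw : Q w ≠ 0), reflectionMatrix ⇑Q w *ᵥ u = v ∨ reflectionMatrix ⇑Q w *ᵥ u = -v →
      ∃ s ∈ Cfsg.specialIsometryGroup F ⇑Q,
        reflectionIsom Q v hv * reflectionIsom Q u hu = s * s := by
    intro w hw hwu
    refine ⟨reflectionIsom Q w hw * reflectionIsom Q u hu,
      reflectionIsom_mul_mem_special Q w u hw hu, ?_⟩
    apply Subtype.ext
    apply Units.ext
    simp only [Subgroup.coe_mul, Units.val_mul, reflectionIsom_coe]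
    have h1 := Cfsg.Agent.Lib.helper91.refl_mul_refl_mul_refl Q w u hw
    have h3 : reflectionMatrix ⇑Q (reflectionMatrix ⇑Q w *ᵥ u) = reflectionMatrix ⇑Q v := by
      rcases hwu with h | h
      · rw [h]
      · rw [h]
        have := Cfsg.Agent.Lib.helper91.refl_smul Q v (-1) (neg_ne_zero.mpr one_ne_zero)
        rwa [neg_one_smul] at this
    rw [h3] at h1
    rw [← h1]
    simp only [mul_assoc]
  rcases quad_sub_ne_zero_or_add_ne_zero h2 Q v u huv hv with h | h
  · exact key (u - v) h (Or.inl (reflectionMatrix_sub_mulVec Q v u huv h))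
  · exact key (u + v) h (Or.inr (reflectionMatrix_add_mulVec Q v u huv h))

open Classical in
/-- **Odd characteristic**: a subgroup of index two of `SO(Q)` contains `Ω(Q)`. -/
theorem omega_le_of_index_two_odd [Fintype F] (h2 : (2 : F) ≠ 0) (Q : QuadraticForm F (ι → F))
    (hQ : (QuadraticMap.polarBilin Q).Nondegenerate)
    (H : Subgroup ↥(Cfsg.specialIsometryGroup F ⇑Q)) (hH : H.index = 2)
    (g : ↥(Cfsg.isometryGroup F ⇑Q)) (hg : g ∈ Cfsg.Omega F ⇑Q) :
    g ∈ H.map (Cfsg.specialIsometryGroup F ⇑Q).subtype := by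
  have hSn : (Cfsg.specialIsometryGroup F ⇑Q).Normal := by
    rw [Cfsg.specialIsometryGroup]; infer_instance
  obtain ⟨T, hTdef⟩ : ∃ T : Subgroup ↥(Cfsg.isometryGroup F ⇑Q),
      T = Subgroup.normalClosure {x | ∃ s ∈ Cfsg.specialIsometryGroup F ⇑Q, x = s * s} := ⟨_, rfl⟩
  have hTn : T.Normal := by rw [hTdef]; infer_instance
  have hT_le : T ≤ H.map (Cfsg.specialIsometryGroup F ⇑Q).subtype := by
    rw [hTdef]
    change Subgroup.closure (Group.conjugatesOfSet _) ≤ _
    rw [Subgroup.closure_le]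
    intro x hx
    obtain ⟨b, ⟨s, hs, rfl⟩, hconj⟩ := Group.mem_conjugatesOfSet_iff.mp hx
    obtain ⟨c, rfl⟩ := isConj_iff.mp hconj
    have hs' : c * s * c⁻¹ ∈ Cfsg.specialIsometryGroup F ⇑Q := hSn.conj_mem s hs c
    refine Subgroup.mem_map.mpr ⟨⟨c * s * c⁻¹, hs'⟩ * ⟨c * s * c⁻¹, hs'⟩,
      Subgroup.mul_self_mem_of_index_two hH _, ?_⟩
    simp only [Subgroup.coe_subtype, Subgroup.coe_mul]
    group
  have hmemT : ∀ s ∈ Cfsg.specialIsometryGroup F ⇑Q, s * s ∈ T := by
    intro s hs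
    rw [hTdef]
    exact Subgroup.subset_normalClosure ⟨s, hs, rfl⟩
  obtain ⟨π, hπ⟩ : ∃ π : ↥(Cfsg.isometryGroup F ⇑Q) →* ↥(Cfsg.isometryGroup F ⇑Q) ⧸ T,
      π = QuotientGroup.mk' T := ⟨_, rfl⟩
  have hπT : ∀ x, x ∈ T → π x = 1 := by
    intro x hx
    rw [hπ]
    exact (QuotientGroup.eq_one_iff x).mpr hx
  have hπT' : ∀ x, π x = 1 → x ∈ T := by
    intro x hx
    rw [hπ] at hx
    exact (QuotientGroup.eq_one_iff x).mp hx
  -- reflections are involutions in the quotient
  have hsq : ∀ v, π (reflT Q v) * π (reflT Q v) = 1 := by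
    intro v
    rw [← map_mul]
    by_cases hv : Q v ≠ 0
    · rw [reflT_eq Q v hv, reflectionIsom_mul_self, map_one]
    · unfold reflT
      rw [dif_neg hv, mul_one, map_one]
  have hinv : ∀ v, (π (reflT Q v))⁻¹ = π (reflT Q v) := fun v => inv_eq_of_mul_eq_one_left (hsq v)
  -- the images of two reflections commute
  have hcomm : ∀ u v, Q u ≠ 0 → Q v ≠ 0 → Commute (π (reflT Q u)) (π (reflT Q v)) := by
    intro u v hu hv
    have h1 : π (reflT Q u) * π (reflT Q v) * (π (reflT Q u) * π (reflT Q v)) = 1 := by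
      rw [← map_mul, ← map_mul, reflT_eq Q u hu, reflT_eq Q v hv]
      exact hπT _ (hmemT _ (reflectionIsom_mul_mem_special Q u v hu hv))
    have h3 : π (reflT Q u) * π (reflT Q v) = (π (reflT Q u) * π (reflT Q v))⁻¹ :=
      eq_inv_of_mul_eq_one_left h1
    rw [_root_.mul_inv_rev, hinv, hinv] at h3
    exact h3
  -- same value of `Q`: same image
  have heq : ∀ u v, Q u ≠ 0 → Q u = Q v → π (reflT Q u) = π (reflT Q v) := by
    intro u v hu huv
    have hv : Q v ≠ 0 := huv ▸ hu
    obtain ⟨s, hs, hss⟩ := refl_mul_refl_eq_sq h2 Q u v hu hv huv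
    have h1 : π (reflT Q v) * π (reflT Q u) = 1 := by
      rw [← map_mul, reflT_eq Q u hu, reflT_eq Q v hv, hss]
      exact hπT _ (hmemT s hs)
    have h3 := eq_inv_of_mul_eq_one_right h1
    rw [hinv] at h3
    exact h3
  -- same square class: same image
  have heq' : ∀ u v, Q u ≠ 0 → Q v ≠ 0 → IsSquare (Q u * Q v) → π (reflT Q u) = π (reflT Q v) := by
    intro u v hu hv hsq'
    obtain ⟨s, hs⟩ := hsq'
    have hs0 : s ≠ 0 := by
      rintro rfl
      rw [mul_zero] at hs
      exact mul_ne_zero hu hv hs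
    have hc : s / Q v ≠ 0 := div_ne_zero hs0 hv
    have hQ' : Q u = Q ((s / Q v) • v) := by
      rw [QuadraticMap.map_smul, smul_eq_mul]
      field_simp
      linear_combination hs
    rw [heq u ((s / Q v) • v) hu hQ']
    congr 1
    rw [reflT_eq Q _ (hQ' ▸ hu), reflT_eq Q v hv]
    apply Subtype.ext
    apply Units.ext
    rw [reflectionIsom_coe, reflectionIsom_coe, Cfsg.Agent.Lib.helper91.refl_smul Q v _ hc]
  -- representatives of the two classes
  obtain ⟨ρp, hρp, hρp', hρpc⟩ : ∃ ρ : ↥(Cfsg.isometryGroup F ⇑Q) ⧸ T, ρ * ρ = 1 ∧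
      (∀ v, Q v ≠ 0 → IsSquare (Q v) → π (reflT Q v) = ρ) ∧
      (∀ w, Q w ≠ 0 → Commute (π (reflT Q w)) ρ) := by
    by_cases hex : ∃ u, Q u ≠ 0 ∧ IsSquare (Q u)
    · obtain ⟨u, hu, husq⟩ := hex
      refine ⟨π (reflT Q u), hsq u, fun v hv hvsq => ?_, fun w hw => hcomm w u hw hu⟩
      exact heq' v u hv hu ((Cfsg.Agent.Lib.helper49.isSquare_mul_iff h2 hv hu).mpr (by simp [hvsq, husq]))
    · exact ⟨1, one_mul 1, fun v hv hvsq => absurd ⟨v, hv, hvsq⟩ hex, fun w _ => Commute.one_right _⟩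
  obtain ⟨ρm, hρm, hρm', hρmc⟩ : ∃ ρ : ↥(Cfsg.isometryGroup F ⇑Q) ⧸ T, ρ * ρ = 1 ∧
      (∀ v, Q v ≠ 0 → ¬ IsSquare (Q v) → π (reflT Q v) = ρ) ∧ Commute ρ ρp := by
    by_cases hex : ∃ u, Q u ≠ 0 ∧ ¬ IsSquare (Q u)
    · obtain ⟨u, hu, husq⟩ := hex
      refine ⟨π (reflT Q u), hsq u, fun v hv hvsq => ?_, hρpc u hu⟩
      exact heq' v u hv hu ((Cfsg.Agent.Lib.helper49.isSquare_mul_iff h2 hv hu).mpr (by simp [hvsq, husq]))
    · exact ⟨1, one_mul 1, fun v hv hvsq => absurd ⟨v, hv, hvsq⟩ hex, Commute.one_left _⟩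
  have hlist : ∀ (l : List (ι → F)), (∀ v ∈ l, Q v ≠ 0) →
      π (l.map (reflT Q)).prod
        = ρp ^ (l.countP (fun v => IsSquare (Q v))) * ρm ^ (l.countP (fun v => ¬ IsSquare (Q v))) := by
    intro l
    induction l with
    | nil => intro _; simp
    | cons a l ih =>
      intro hl
      have ha := hl a List.mem_cons_self
      rw [List.map_cons, List.prod_cons, map_mul, ih (fun v hv => hl v (List.mem_cons_of_mem _ hv)),
        List.countP_cons, List.countP_cons]
      by_cases hsq' : IsSquare (Q a)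
      · rw [hρp' a ha hsq']
        simp only [hsq', decide_true, if_true, not_true_eq_false, decide_false, Bool.false_eq_true,
          if_false, add_zero]
        rw [pow_succ', mul_assoc]
      · rw [hρm' a ha hsq']
        simp only [hsq', decide_false, Bool.false_eq_true, if_false, add_zero, not_false_eq_true,
          decide_true, if_true]
        rw [pow_succ', ← mul_assoc, ← mul_assoc, (hρmc.pow_right _).eq]
  -- conclusion
  obtain ⟨vs, hvs, hgm⟩ := exists_refl_list Q g (cartan_dieudonne h2 Q hQ g)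
  obtain ⟨hev, hsqp⟩ := (Cfsg.Agent.Lib.helper49.spinor_criterion h2 Q g vs hvs hgm).mp hg
  have hcount : vs.length = vs.countP (fun v => IsSquare (Q v))
      + vs.countP (fun v => ¬ IsSquare (Q v)) := by
    have := List.length_eq_countP_add_countP (fun v => decide (IsSquare (Q v))) (l := vs)
    simpa using this
  obtain ⟨-, hprod⟩ := Cfsg.Agent.Lib.helper49.isSquare_prod_iff h2 Q vs hvs
  have hb := hprod.mp hsqp
  have ha : Even (vs.countP (fun v => IsSquare (Q v))) := by
    rw [hcount] at hev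
    exact (Nat.even_add.mp hev).mpr hb
  apply hT_le
  apply hπT'
  rw [eq_prod_reflT Q g vs hvs hgm, hlist vs hvs]
  obtain ⟨a, ha⟩ := ha
  obtain ⟨b, hb⟩ := hb
  rw [ha, hb, ← two_mul, ← two_mul, pow_mul, pow_mul, pow_two, pow_two, hρp, hρm]
  simp

end

end Cfsg.Agent.Lib.helper42
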