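import Cfsg.Agent.Lib.helper42.SemiFaithful
import Cfsg.Agent.Lib.helper17.SymmForm

/-!
A quadratic form over a finite field of odd order whose Gram determinant is not a square (even dimension)
has no semisimilarity `v ↦ g σ(v)` with `σ` of order two whose square is a scalar.
-/

set_option autoImplicit false
set_option linter.unusedSectionVars false

namespace Cfsg.Agent.Lib.helper42

open Matrix Cfsg Cfsg.Agent.Lib.helper17

section
variable {F : Type*} [Field F]

/-- the fixed field of a field automorphism -/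
def fixedSubfield (σ : F ≃+* F) : Subfield F where
  carrier := {x | σ x = x}
  mul_mem' {a b} ha hb := by
    show σ (a * b) = a * b
    rw [map_mul, (ha : σ a = a), (hb : σ b = b)]
  one_mem' := map_one σ
  add_mem' {a b} ha hb := by
    show σ (a + b) = a + b
    rw [map_add, (ha : σ a = a), (hb : σ b = b)]
  zero_mem' := map_zero σ
  neg_mem' {a} ha := by
    show σ (-a) = -a
    rw [map_neg, (ha : σ a = a)]
  inv_mem' a ha := by
    show σ a⁻¹ = a⁻¹
    rw [map_inv₀, (ha : σ a = a)]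

theorem mem_fixedSubfield (σ : F ≃+* F) (x : F) : x ∈ fixedSubfield σ ↔ σ x = x := Iff.rfl

/-- an element fixed by an involutory automorphism of a finite field of odd order is a square -/
theorem isSquare_of_fixed [Finite F] (h2 : (2 : F) ≠ 0) (σ : F ≃+* F)
    (hσ2 : ∀ x, σ (σ x) = x) (θ : F) (hθ : σ θ ≠ θ) (w : F) (hw : σ w = w) : IsSquare w := by
  obtain ⟨δ, hδdef⟩ : ∃ δ : F, δ = θ - σ θ := ⟨_, rfl⟩
  have hδ0 : δ ≠ 0 := by
    rw [hδdef]
    exact sub_ne_zero.mpr (Ne.symm hθ)
  have hσδ : σ δ = -δ := by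
    rw [hδdef, map_sub, hσ2]
    ring
  have hη : σ (δ * δ) = δ * δ := by
    rw [map_mul, hσδ]
    ring
  by_contra hns
  have h1 : ¬ IsSquare (⟨w, hw⟩ : ↥(fixedSubfield σ)) := by
    rintro ⟨z, hz⟩
    exact hns ⟨(z : F), congrArg Subtype.val hz⟩
  have h2' : ¬ IsSquare (⟨δ * δ, hη⟩ : ↥(fixedSubfield σ)) := by
    rintro ⟨z, hz⟩
    have hz' : δ * δ = (z : F) * (z : F) := congrArg Subtype.val hz
    have hzfix : σ (z : F) = (z : F) := z.2
    have hprod : (δ - (z : F)) * (δ + (z : F)) = 0 := by linear_combination hz'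
    have hfix : σ δ = δ := by
      rcases mul_eq_zero.mp hprod with h | h
      · rw [sub_eq_zero.mp h]
        exact hzfix
      · rw [eq_neg_of_add_eq_zero_left h, map_neg, hzfix]
    rw [hσδ] at hfix
    have : (2 : F) * δ = 0 := by linear_combination -hfix
    exact hδ0 ((mul_eq_zero.mp this).resolve_left h2)
  have h20 : (2 : ↥(fixedSubfield σ)) ≠ 0 := by
    intro h
    apply h2
    have h' : ((2 : ↥(fixedSubfield σ)) : F) = ((0 : ↥(fixedSubfield σ)) : F) :=
      congrArg Subtype.val h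
    rw [ZeroMemClass.coe_zero] at h'
    rw [← h']
    norm_cast
  obtain ⟨c, -, hc⟩ := exists_eq_mul_sq_of_not_isSquare h20 _ _ h2' h1
  have hc' : w = δ * δ * ((c : F) * (c : F)) := congrArg Subtype.val hc
  exact hns ⟨δ * (c : F), by rw [hc']; ring⟩

/-- Hilbert 90 for an involutory automorphism -/
theorem hilbert90_aux (σ : F ≃+* F) (hσ2 : ∀ x, σ (σ x) = x) (θ : F)
    (hθ : σ θ ≠ θ) (d : F) (hd : d * σ d = 1) : ∃ e : F, e ≠ 0 ∧ d * σ e = e := by
  by_cases h : 1 + d = 0
  · refine ⟨θ - σ θ, sub_ne_zero.mpr (Ne.symm hθ), ?_⟩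
    have hd' : d = -1 := by linear_combination h
    rw [hd', map_sub, hσ2]
    ring
  · refine ⟨1 + d, h, ?_⟩
    rw [map_add, map_one]
    linear_combination hd

end

section
variable {ι : Type} [Fintype ι] [DecidableEq ι] {F : Type*} [Field F]

/-- a semisimilarity satisfies `Mᵀ B M = c σ(B)` for the Gram matrix `B` of the polar form -/
theorem gram_of_semisimilarity (Q : QuadraticForm F (ι → F)) (B : Matrix ι ι F)
    (hB : ∀ u v, QuadraticMap.polar Q u v = Matrix.toBilin' B u v)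
    (M : Matrix ι ι F) (σ : F ≃+* F) (c : F)
    (hM : ∀ v, Q (M *ᵥ (fun i => σ (v i))) = c * σ (Q v)) : Mᵀ * B * M = c • B.map σ := by
  have hpol : ∀ u v : ι → F, QuadraticMap.polar Q (M *ᵥ (fun i => σ (u i))) (M *ᵥ (fun i => σ (v i)))
      = c * σ (QuadraticMap.polar Q u v) := by
    intro u v
    have hadd : (fun i => σ ((u + v) i)) = (fun i => σ (u i)) + (fun i => σ (v i)) := by
      funext i
      simp
    unfold QuadraticMap.polar
    rw [← Matrix.mulVec_add, ← hadd, hM, hM, hM, map_sub, map_sub]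
    ring
  have hsingle : ∀ i : ι, (fun k => σ ((Pi.single i (1 : F) : ι → F) k)) = Pi.single i 1 := by
    intro i
    funext k
    by_cases hk : k = i
    · rw [hk]
      simp
    · simp [hk]
  have e1 : ∀ u v : ι → F, Matrix.toBilin' (Mᵀ * B * M) u v = Matrix.toBilin' B (M *ᵥ u) (M *ᵥ v) := by
    intro u v
    rw [Matrix.toBilin'_apply', Matrix.toBilin'_apply', ← Matrix.mulVec_mulVec,
      ← Matrix.mulVec_mulVec, Matrix.dotProduct_mulVec, Matrix.vecMul_transpose]
  ext i j
  have h1 := e1 (Pi.single i 1) (Pi.single j 1)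
  rw [Matrix.toBilin'_single, ← hB] at h1
  have h3 := hpol (Pi.single i 1) (Pi.single j 1)
  rw [hsingle, hsingle, hB (Pi.single i 1) (Pi.single j 1), Matrix.toBilin'_single] at h3
  rw [h1, h3]
  rfl

theorem semisim_invol_false [Finite F] (h2 : (2 : F) ≠ 0) (Q : QuadraticForm F (ι → F))
    (B : Matrix ι ι F) (hB : ∀ u v, QuadraticMap.polar Q u v = Matrix.toBilin' B u v)
    (hD : ¬ IsSquare B.det) (n : ℕ) (hcard : Fintype.card ι = 2 * n) (x₁ : ι → F) (hx₁ : Q x₁ ≠ 0)
    (g : GL ι F) (σ : F ≃+* F) (hpair : IsSemisimilarityPair ⇑Q g σ) (hσ2 : ∀ x, σ (σ x) = x)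
    (θ : F) (hθ : σ θ ≠ θ) (lam : F)
    (hN : ((g : GL ι F) : Matrix ι ι F) * ((g : GL ι F) : Matrix ι ι F).map σ
      = lam • (1 : Matrix ι ι F)) : False := by
  obtain ⟨c, hc⟩ := hpair
  obtain ⟨G, hGdef⟩ : ∃ G : Matrix ι ι F, G = ((g : GL ι F) : Matrix ι ι F) := ⟨_, rfl⟩
  rw [← hGdef] at hc hN
  have hgram := gram_of_semisimilarity Q B hB G σ c hc
  have hmapdet : ∀ A : Matrix ι ι F, (A.map σ).det = σ A.det := fun A =>
    ((σ : F →+* F).map_det A).symm
  have hdet1 : G.det * G.det * B.det = (c : F) ^ (2 * n) * σ B.det := by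
    have := congrArg Matrix.det hgram
    rw [Matrix.det_mul, Matrix.det_mul, Matrix.det_transpose, Matrix.det_smul, hcard, hmapdet] at this
    linear_combination this
  have hdet2 : G.det * σ G.det = lam ^ (2 * n) := by
    have := congrArg Matrix.det hN
    rw [Matrix.det_mul, Matrix.det_smul, Matrix.det_one, mul_one, hcard, hmapdet] at this
    exact this
  have hmult : lam * lam = c * σ c := by
    have e1 : Q ((G * G.map σ) *ᵥ x₁) = lam * lam * Q x₁ := by
      rw [hN, Matrix.smul_mulVec, Matrix.one_mulVec, QuadraticMap.map_smul, smul_eq_mul]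
    have e2 : Q ((G * G.map σ) *ᵥ x₁) = c * σ c * Q x₁ := by
      have hx : G.map σ *ᵥ x₁ = fun i => σ ((G *ᵥ (fun i => σ (x₁ i))) i) := by
        rw [← map_mulVec_sigma σ G (fun i => σ (x₁ i))]
        congr 1
        funext i
        rw [hσ2]
      rw [← Matrix.mulVec_mulVec, hx, hc, hc, map_mul, hσ2]
      ring
    exact mul_right_cancel₀ hx₁ (e1.symm.trans e2)
  have hc0 : (c : F) ≠ 0 := Units.ne_zero c
  have hσc0 : σ (c : F) ≠ 0 := (map_ne_zero σ).mpr hc0
  have hD0 : B.det ≠ 0 := fun h => hD (by rw [h]; exact ⟨0, by simp⟩)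
  obtain ⟨d, hddef⟩ : ∃ d : F, d = G.det / (c : F) ^ n := ⟨_, rfl⟩
  have hd1 : d * σ d = 1 := by
    have h3 : G.det * σ G.det = ((c : F) * σ c) ^ n := by
      rw [hdet2, ← hmult, ← pow_two, ← pow_mul]
    rw [hddef, map_div₀, map_pow]
    field_simp
    rw [h3, mul_pow]
  have hd2 : d * d * B.det = σ B.det := by
    rw [hddef]
    field_simp
    linear_combination hdet1
  obtain ⟨e, he0, he⟩ := hilbert90_aux σ hσ2 θ hθ d hd1
  have hfix : σ (e * e * B.det) = e * e * B.det := by
    rw [map_mul, map_mul, ← hd2]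
    have : σ e * σ e * (d * d * B.det) = (d * σ e) * (d * σ e) * B.det := by ring
    rw [this, he]
  obtain ⟨z, hz⟩ := isSquare_of_fixed h2 σ hσ2 θ hθ _ hfix
  apply hD
  refine ⟨z / e, ?_⟩
  field_simp
  linear_combination hz

end

end Cfsg.Agent.Lib.helper42
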