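import Mathlib
import Cfsg.Agent.Lib.helper48.NormInv
import Cfsg.Agent.Lib.helper17.SympBasis

/-!
Similarities of a quadratic form commuting with a given invertible skew-adjoint operator `J`
(odd characteristic, finite field): existence for every multiplier (a norm equation in `F[J]`), and the
determinant of such a similarity (it is a similitude of the alternating form `⟨Jx, y⟩`).
-/

set_option autoImplicit false
set_option linter.unusedSectionVars false

namespace Cfsg.Agent.Lib.helper42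

open Matrix Polynomial

section
variable {ι : Type} [Fintype ι] [DecidableEq ι] {F : Type*} [Field F]

/-- `J` is skew-adjoint for the polar form of `Q` -/
def IsSkewMat (Q : QuadraticForm F (ι → F)) (J : Matrix ι ι F) : Prop :=
  ∀ u v, QuadraticMap.polar ⇑Q (J *ᵥ u) v = - QuadraticMap.polar ⇑Q u (J *ᵥ v)

theorem polar_pow_skew (Q : QuadraticForm F (ι → F)) (J : Matrix ι ι F) (hJ : IsSkewMat Q J) (n : ℕ)
    (u v : ι → F) :
    QuadraticMap.polar ⇑Q ((J ^ n) *ᵥ u) v = QuadraticMap.polar ⇑Q u (((-J) ^ n) *ᵥ v) := by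
  induction n generalizing u v with
  | zero => simp
  | succ n ih =>
    rw [pow_succ, ← Matrix.mulVec_mulVec, ih, hJ, pow_succ', ← Matrix.mulVec_mulVec, Matrix.neg_mulVec,
      QuadraticMap.polar_neg_right]

/-- the adjoint of a polynomial in a skew-adjoint operator -/
theorem polar_aeval_skew (Q : QuadraticForm F (ι → F)) (J : Matrix ι ι F) (hJ : IsSkewMat Q J)
    (P : F[X]) (u v : ι → F) :
    QuadraticMap.polar ⇑Q ((aeval J P) *ᵥ u) v = QuadraticMap.polar ⇑Q u ((aeval (-J) P) *ᵥ v) := by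
  induction P using Polynomial.induction_on' with
  | add p q hp hq =>
    rw [map_add, map_add, Matrix.add_mulVec, Matrix.add_mulVec, QuadraticMap.polar_add_left,
      QuadraticMap.polar_add_right, hp, hq]
  | monomial n a =>
    rw [aeval_monomial, aeval_monomial, Algebra.algebraMap_eq_smul_one, Matrix.smul_mul, Matrix.one_mul,
      Matrix.smul_mul, Matrix.one_mul, Matrix.smul_mulVec, Matrix.smul_mulVec,
      QuadraticMap.polar_smul_left, QuadraticMap.polar_smul_right, polar_pow_skew Q J hJ]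

/-- the norm equation `P(-J) P(J) = c` in `F[J]`, `J` invertible, over a finite field of odd characteristic -/
theorem exists_poly_norm [Fintype F] (h2 : (2 : F) ≠ 0) (J : Matrix ι ι F) (hJ : IsUnit J) (c : F)
    (hc : c ≠ 0) : ∃ P : F[X], aeval (-J) P * aeval J P = c • (1 : Matrix ι ι F) := by
  classical
  obtain ⟨g, hg⟩ := hJ
  obtain ⟨N, hNdef⟩ : ∃ N : ℕ, N = 2 * Nat.card (Matrix ι ι F)ˣ := ⟨_, rfl⟩
  have hN0 : N ≠ 0 := by
    rw [hNdef]
    have : 0 < Nat.card (Matrix ι ι F)ˣ := Nat.card_pos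
    omega
  have hNeven : Even N := ⟨Nat.card (Matrix ι ι F)ˣ, by rw [hNdef, two_mul]⟩
  have hJN : J ^ N = 1 := by
    rw [← hg, ← Units.val_pow_eq_pow_val, hNdef, mul_comm, pow_mul, pow_card_eq_one', one_pow,
      Units.val_one]
  obtain ⟨f, hfdef⟩ : ∃ f : F[X], f = X ^ N - C (1 : F) := ⟨_, rfl⟩
  have hfm : f.Monic := by
    rw [hfdef]
    exact monic_X_pow_sub_C 1 hN0
  have : Module.Finite F (AdjoinRoot f) := hfm.finite_adjoinRoot
  have : Finite (AdjoinRoot f) := Module.finite_of_finite F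
  have hroot : AdjoinRoot.root f ^ N = 1 := by
    have h := AdjoinRoot.eval₂_root f
    rw [hfdef] at h
    rw [eval₂_sub, eval₂_X_pow, eval₂_C, map_one, sub_eq_zero] at h
    rw [hfdef]
    exact h
  have hτ0 : eval₂ (AdjoinRoot.of f) (-AdjoinRoot.root f) f = 0 := by
    have h : eval₂ (AdjoinRoot.of f) (-AdjoinRoot.root f) (X ^ N - C (1 : F)) = 0 := by
      rw [eval₂_sub, eval₂_X_pow, eval₂_C, map_one, hNeven.neg_pow, hroot, sub_self]
    rw [hfdef]
    rw [hfdef] at h
    exact h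
  obtain ⟨τ, hτdef⟩ : ∃ τ : AdjoinRoot f →+* AdjoinRoot f,
      τ = AdjoinRoot.lift (AdjoinRoot.of f) (-AdjoinRoot.root f) hτ0 := ⟨_, rfl⟩
  have hτmk : ∀ P : F[X], τ (AdjoinRoot.mk f P) = AdjoinRoot.mk f (P.comp (-X)) := by
    intro P
    rw [hτdef, AdjoinRoot.lift_mk, Polynomial.comp, Polynomial.hom_eval₂, map_neg, AdjoinRoot.mk_X]
    rfl
  have hττ : ∀ y, τ (τ y) = y := by
    intro y
    obtain ⟨P, rfl⟩ := AdjoinRoot.mk_surjective y
    rw [hτmk, hτmk, Polynomial.comp_assoc, Polynomial.neg_comp, Polynomial.X_comp, neg_neg,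
      Polynomial.comp_X]
  have hτroot : τ (AdjoinRoot.root f) = -AdjoinRoot.root f := by
    rw [← AdjoinRoot.mk_X, hτmk, Polynomial.X_comp, map_neg]
  have hθ : IsUnit (AdjoinRoot.root f - τ (AdjoinRoot.root f)) := by
    rw [hτroot, sub_neg_eq_add, ← two_mul]
    apply IsUnit.mul
    · refine IsUnit.of_mul_eq_one (AdjoinRoot.of f (2 : F)⁻¹) ?_
      rw [← map_ofNat (AdjoinRoot.of f) 2, ← map_mul, mul_inv_cancel₀ h2, map_one]
    · refine IsUnit.of_mul_eq_one (AdjoinRoot.root f ^ (N - 1)) ?_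
      rw [← pow_succ', Nat.sub_add_cancel (Nat.pos_of_ne_zero hN0), hroot]
  have hu : IsUnit (AdjoinRoot.of f c) := by
    refine IsUnit.of_mul_eq_one (AdjoinRoot.of f c⁻¹) ?_
    rw [← map_mul, mul_inv_cancel₀ hc, map_one]
  have hfix : τ (AdjoinRoot.of f c) = AdjoinRoot.of f c := by
    rw [hτdef, AdjoinRoot.lift_of]
  obtain ⟨y, hy⟩ := Cfsg.Agent.Lib.helper48.normSurj_of_finite (AdjoinRoot f) τ hττ
    (AdjoinRoot.root f) hθ (AdjoinRoot.of f c) hu hfix
  obtain ⟨P, rfl⟩ := AdjoinRoot.mk_surjective y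
  rw [hτmk, ← AdjoinRoot.mk_C, ← map_mul, ← sub_eq_zero, ← map_sub, AdjoinRoot.mk_eq_zero] at hy
  obtain ⟨M, hM⟩ := hy
  refine ⟨P, ?_⟩
  have h1 := congrArg (aeval J) hM
  have hfJ : aeval J f = 0 := by
    rw [hfdef, map_sub, map_pow, aeval_X, aeval_C, hJN, map_one, sub_self]
  rw [map_mul, hfJ, zero_mul, map_sub, map_mul, aeval_comp, map_neg, aeval_X, aeval_C,
    Algebra.algebraMap_eq_smul_one, sub_eq_zero] at h1
  rw [← h1]
  have hcomm : aeval (-J) P = aeval J (P.comp (-X)) := by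
    rw [aeval_comp, map_neg, aeval_X]
  rw [hcomm, ← map_mul, ← map_mul, mul_comm]

/-- a polynomial in `J` solving the norm equation is a similarity -/
theorem sim_of_poly_norm (h2 : (2 : F) ≠ 0) (Q : QuadraticForm F (ι → F)) (J : Matrix ι ι F)
    (hJ : IsSkewMat Q J) (P : F[X]) (c : F)
    (hP : aeval (-J) P * aeval J P = c • (1 : Matrix ι ι F)) (v : ι → F) :
    Q ((aeval J P) *ᵥ v) = c * Q v := by
  have h1 := polar_aeval_skew Q J hJ P v ((aeval J P) *ᵥ v)
  rw [Matrix.mulVec_mulVec, hP, Matrix.smul_mulVec, Matrix.one_mulVec, QuadraticMap.polar_smul_right,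
    QuadraticMap.polar_self, QuadraticMap.polar_self] at h1
  simp only [smul_eq_mul, nsmul_eq_mul, Nat.cast_ofNat] at h1
  have h3 : (2 : F) * Q ((aeval J P) *ᵥ v) = 2 * (c * Q v) := by linear_combination h1
  exact mul_left_cancel₀ h2 h3

theorem aeval_commute_of_commute (J S : Matrix ι ι F) (h : J * S = S * J) (P : F[X]) :
    aeval J P * S = S * aeval J P := by
  induction P using Polynomial.induction_on' with
  | add p q hp hq => rw [map_add, add_mul, mul_add, hp, hq]
  | monomial n a =>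
    rw [aeval_monomial, Algebra.algebraMap_eq_smul_one, Matrix.smul_mul, Matrix.one_mul, Matrix.smul_mul,
      Matrix.mul_smul]
    congr 1
    exact ((Commute.pow_left (show Commute J S from h) n)).eq

/-- a similarity commuting with an invertible skew-adjoint operator has determinant `c ^ (n/2)` -/
theorem det_of_skew_commute (h2 : (2 : F) ≠ 0) (Q : QuadraticForm F (ι → F))
    (hQ : (QuadraticMap.polarBilin Q).Nondegenerate) (J : Matrix ι ι F) (hJ : IsSkewMat Q J)
    (hJu : IsUnit J) (k : ℕ) (hk : Fintype.card ι = 2 * k) (H : Matrix ι ι F)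
    (hHJ : H * J = J * H) (c : F) (hc : c ≠ 0) (hH : ∀ v, Q (H *ᵥ v) = c * Q v) :
    H.det = c ^ k := by
  classical
  rcases Nat.eq_zero_or_pos k with hk0 | hkpos
  · subst hk0
    have : IsEmpty ι := Fintype.card_eq_zero_iff.mp (by rw [hk])
    rw [Matrix.det_isEmpty, pow_zero]
  have hHp : ∀ u v, QuadraticMap.polar ⇑Q (H *ᵥ u) (H *ᵥ v) = c * QuadraticMap.polar ⇑Q u v := by
    intro u v
    unfold QuadraticMap.polar
    rw [← Matrix.mulVec_add, hH, hH, hH]
    ring
  obtain ⟨ω, hω⟩ : ∃ ω : (ι → F) →ₗ[F] (ι → F) →ₗ[F] F,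
      ∀ u v, ω u v = QuadraticMap.polar ⇑Q (J *ᵥ u) v :=
    ⟨(QuadraticMap.polarBilin Q).comp (Matrix.toLin' J), fun u v => rfl⟩
  have halt : ∀ v, ω v v = 0 := by
    intro v
    rw [hω]
    have h := hJ v v
    rw [QuadraticMap.polar_comm ⇑Q v (J *ᵥ v)] at h
    have h' : (2 : F) * QuadraticMap.polar ⇑Q (J *ᵥ v) v = 0 := by linear_combination h
    exact (mul_eq_zero.mp h').resolve_left h2
  have hnd : ∀ v, (∀ w, ω v w = 0) → v = 0 := by
    intro v hv
    have h0 : J *ᵥ v = 0 :=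
      hQ.1 _ (fun y => by rw [QuadraticMap.polarBilin_apply_apply, ← hω]; exact hv y)
    obtain ⟨g, hg⟩ := hJu
    have : v = (↑g⁻¹ : Matrix ι ι F) *ᵥ (J *ᵥ v) := by
      rw [Matrix.mulVec_mulVec, ← hg, Units.inv_mul, Matrix.one_mulVec]
    rw [this, h0, Matrix.mulVec_zero]
  have hdim : Module.finrank F (ι → F) = 2 * k := by rw [Module.finrank_fintype_fun_eq_card, hk]
  obtain ⟨e, f, hee, hff, hef⟩ := Cfsg.Agent.Lib.helper17.exists_symp_basis k ω halt hnd hdim
  have hskew : ∀ u v, ω u v = - ω v u := by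
    intro u v
    rw [hω, hω, hJ, QuadraticMap.polar_comm]
  have hfe : ∀ a b, ω (f a) (e b) = if a = b then -1 else 0 := by
    intro a b
    rw [hskew, hef]
    by_cases hab : a = b
    · subst hab
      simp
    · rw [if_neg hab, if_neg (Ne.symm hab), neg_zero]
  obtain ⟨b₀, hb₀⟩ : ∃ b₀ : Fin k ⊕ Fin k → (ι → F), b₀ = Sum.elim e f := ⟨_, rfl⟩
  have hli : LinearIndependent F b₀ := by
    rw [Fintype.linearIndependent_iff]
    intro g hg i
    rcases i with a | a
    · have h := congrArg (fun z => ω z (f a)) hg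
      simp only [map_sum, LinearMap.sum_apply, map_smul, LinearMap.smul_apply, smul_eq_mul, map_zero,
        LinearMap.zero_apply, Fintype.sum_sum_type, hb₀, Sum.elim_inl, Sum.elim_inr, map_add,
        LinearMap.add_apply, hef, hff] at h
      simpa using h
    · have h := congrArg (fun z => ω z (e a)) hg
      simp only [map_sum, LinearMap.sum_apply, map_smul, LinearMap.smul_apply, smul_eq_mul, map_zero,
        LinearMap.zero_apply, Fintype.sum_sum_type, hb₀, Sum.elim_inl, Sum.elim_inr, map_add,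
        LinearMap.add_apply, hee, hfe] at h
      simpa using h
  have hcard : Fintype.card (Fin k ⊕ Fin k) = Module.finrank F (ι → F) := by
    rw [hdim, Fintype.card_sum, Fintype.card_fin, two_mul]
  have : Nonempty (Fin k ⊕ Fin k) := ⟨Sum.inl ⟨0, hkpos⟩⟩
  obtain ⟨bb, hbb⟩ : ∃ bb : Module.Basis (Fin k ⊕ Fin k) F (ι → F), ⇑bb = b₀ :=
    ⟨basisOfLinearIndependentOfCardEqFinrank hli hcard, coe_basisOfLinearIndependentOfCardEqFinrank _ _⟩
  obtain ⟨H', hH'⟩ : ∃ H' : Matrix (Fin k ⊕ Fin k) (Fin k ⊕ Fin k) F,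
      H' = LinearMap.toMatrix bb bb (Matrix.toLin' H) := ⟨_, rfl⟩
  have hdet : H'.det = H.det := by
    rw [hH', LinearMap.det_toMatrix, LinearMap.det_toLin']
  have hexp : ∀ j, H *ᵥ b₀ j = ∑ a, H' a j • b₀ a := by
    intro j
    have h := bb.sum_repr (Matrix.toLin' H (bb j))
    rw [Matrix.toLin'_apply] at h
    rw [hbb] at h
    rw [← h]
    refine Finset.sum_congr rfl (fun a _ => ?_)
    rw [hH', LinearMap.toMatrix_apply, hbb, Matrix.toLin'_apply]
  obtain ⟨Ω₀, hΩ₀⟩ : ∃ Ω₀ : Matrix (Fin k ⊕ Fin k) (Fin k ⊕ Fin k) F,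
      ∀ a b, Ω₀ a b = ω (b₀ a) (b₀ b) := ⟨Matrix.of (fun a b => ω (b₀ a) (b₀ b)), fun a b => rfl⟩
  have hΩJ : Ω₀ = -Matrix.J (Fin k) F := by
    ext a b
    rw [hΩ₀, hb₀, Matrix.J]
    rcases a with a | a <;> rcases b with b | b
    · simp [hee]
    · simp [hef, Matrix.one_apply]
    · simp [hfe, Matrix.one_apply]
      split_ifs <;> simp
    · simp [hff]
  have hmain : H'.transpose * Ω₀ * H' = c • Ω₀ := by
    ext i j
    have h1 : ω (H *ᵥ b₀ i) (H *ᵥ b₀ j) = c * ω (b₀ i) (b₀ j) := by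
      rw [hω, hω, Matrix.mulVec_mulVec, ← hHJ, ← Matrix.mulVec_mulVec, hHp]
    rw [hexp i, hexp j] at h1
    simp only [map_sum, LinearMap.sum_apply, map_smul, LinearMap.smul_apply, smul_eq_mul] at h1
    rw [Matrix.smul_apply, smul_eq_mul, hΩ₀, ← h1, Matrix.mul_apply]
    simp only [Matrix.mul_apply, Matrix.transpose_apply, hΩ₀]
    refine Finset.sum_congr rfl (fun a _ => ?_)
    rw [mul_comm]
  have hmainJ : H'.transpose * Matrix.J (Fin k) F * H' = c • Matrix.J (Fin k) F := by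
    have h := hmain
    rw [hΩJ] at h
    have h' := congrArg (fun M => -M) h
    simpa using h'
  obtain ⟨D, hD⟩ : ∃ D : Matrix (Fin k ⊕ Fin k) (Fin k ⊕ Fin k) F,
      D = Matrix.fromBlocks (c⁻¹ • (1 : Matrix (Fin k) (Fin k) F)) 0 0 1 := ⟨_, rfl⟩
  have hDt : D.transpose = D := by
    rw [hD, Matrix.fromBlocks_transpose]
    simp
  have hDJD : D * Matrix.J (Fin k) F * D = c⁻¹ • Matrix.J (Fin k) F := by
    rw [hD, Matrix.J, Matrix.fromBlocks_multiply, Matrix.fromBlocks_multiply, Matrix.fromBlocks_smul]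
    simp
  have hsymp : (H' * D) ∈ Matrix.symplecticGroup (Fin k) F := by
    rw [SymplecticGroup.mem_iff', Matrix.transpose_mul, hDt]
    calc D * H'.transpose * Matrix.J (Fin k) F * (H' * D)
        = D * (H'.transpose * Matrix.J (Fin k) F * H') * D := by simp only [Matrix.mul_assoc]
      _ = Matrix.J (Fin k) F := by
        rw [hmainJ, Matrix.mul_smul, Matrix.smul_mul, hDJD, smul_smul, mul_inv_cancel₀ hc, one_smul]
  have h1 := SymplecticGroup.det_eq_one hsymp
  have hDdet : D.det = (c⁻¹) ^ k := by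
    rw [hD, Matrix.det_fromBlocks_zero₂₁, Matrix.det_smul, Matrix.det_one, mul_one,
      mul_one, Fintype.card_fin]
  rw [Matrix.det_mul, hDdet, hdet, inv_pow] at h1
  have hck : c ^ k ≠ 0 := pow_ne_zero _ hc
  field_simp at h1
  exact h1

end

end Cfsg.Agent.Lib.helper42
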