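import Cfsg.Agent.Lib.helper42.Dickson2
import Cfsg.Agent.Lib.helper50.SymForm2

/-!
The two classes of maximal totally singular subspaces of a hyperbolic quadratic space.

* `even_rank_sub_one_of_stabilizes`: an isometry stabilising a totally singular subspace `U` of half the
  dimension has `rank (g - 1)` even (any field, any characteristic).
* `parity_inf_map`: for such `U` and any isometry `g` (isometry group generated by reflections),
  `dim U - dim (U ∩ g U) ≡ rank (g - 1) (mod 2)`.
-/

set_option autoImplicit false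
set_option linter.unusedSectionVars false

namespace Cfsg.Agent.Lib.helper42

open Matrix Cfsg Cfsg.Agent.Lib.helper17 Module

section
variable {ι : Type} [Fintype ι] [DecidableEq ι] {F : Type*} [Field F]

/-- rank–nullity for the image of a subspace -/
theorem finrank_map_add_finrank_inf_ker {V : Type*} [AddCommGroup V] [Module F V]
    [FiniteDimensional F V] (U : Submodule F V) (N : V →ₗ[F] V) :
    finrank F (U.map N) + finrank F (U ⊓ LinearMap.ker N : Submodule F V) = finrank F U := by
  have h := LinearMap.finrank_range_add_finrank_ker (N.domRestrict U)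
  rw [LinearMap.range_domRestrict, LinearMap.ker_domRestrict] at h
  rw [← h, ← Submodule.map_comap_subtype, Submodule.finrank_map_subtype_eq]

theorem polarBilin_isRefl (Q : QuadraticForm F (ι → F)) : (QuadraticMap.polarBilin Q).IsRefl := by
  intro x y h
  rw [QuadraticMap.polarBilin_apply_apply] at h ⊢
  rw [QuadraticMap.polar_comm]
  exact h

/-- the orthogonal complement of a subspace for the polar form -/
def polOrth (Q : QuadraticForm F (ι → F)) (U : Submodule F (ι → F)) : Submodule F (ι → F) :=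
  LinearMap.BilinForm.orthogonal (QuadraticMap.polarBilin Q) U

theorem mem_polOrth (Q : QuadraticForm F (ι → F)) (U : Submodule F (ι → F)) (x : ι → F) :
    x ∈ polOrth Q U ↔ ∀ u ∈ U, QuadraticMap.polar Q u x = 0 := by
  unfold polOrth
  rw [LinearMap.BilinForm.mem_orthogonal_iff]
  rfl

theorem finrank_polOrth (Q : QuadraticForm F (ι → F))
    (hQ : (QuadraticMap.polarBilin Q).Nondegenerate) (U : Submodule F (ι → F)) :
    finrank F (polOrth Q U) = Fintype.card ι - finrank F U := by
  unfold polOrth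
  rw [LinearMap.BilinForm.finrank_orthogonal hQ, Module.finrank_fintype_fun_eq_card]

theorem polOrth_polOrth (Q : QuadraticForm F (ι → F))
    (hQ : (QuadraticMap.polarBilin Q).Nondegenerate) (U : Submodule F (ι → F)) :
    polOrth Q (polOrth Q U) = U := by
  unfold polOrth
  exact LinearMap.BilinForm.orthogonal_orthogonal hQ (polarBilin_isRefl Q) U

theorem polar_eq_zero_of_ts (Q : QuadraticForm F (ι → F)) (U : Submodule F (ι → F))
    (hU : ∀ u ∈ U, Q u = 0) {x y : ι → F} (hx : x ∈ U) (hy : y ∈ U) :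
    QuadraticMap.polar Q x y = 0 := by
  unfold QuadraticMap.polar
  rw [hU _ (U.add_mem hx hy), hU x hx, hU y hy]
  ring

/-- a totally singular subspace of half the dimension is its own orthogonal complement -/
theorem orthogonal_eq_self_of_ts (Q : QuadraticForm F (ι → F))
    (hQ : (QuadraticMap.polarBilin Q).Nondegenerate) (U : Submodule F (ι → F))
    (hU : ∀ u ∈ U, Q u = 0) (hdim : 2 * finrank F U = Fintype.card ι) :
    polOrth Q U = U := by
  symm
  apply Submodule.eq_of_le_of_finrank_le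
  · intro u hu
    rw [mem_polOrth]
    intro n hn
    exact polar_eq_zero_of_ts Q U hU hn hu
  · rw [finrank_polOrth Q hQ]
    omega

/-- a vector orthogonal to a totally singular subspace of half the dimension lies in it -/
theorem mem_of_polar_eq_zero_of_ts (Q : QuadraticForm F (ι → F))
    (hQ : (QuadraticMap.polarBilin Q).Nondegenerate) (U : Submodule F (ι → F))
    (hU : ∀ u ∈ U, Q u = 0) (hdim : 2 * finrank F U = Fintype.card ι) (x : ι → F)
    (hx : ∀ u ∈ U, QuadraticMap.polar Q u x = 0) : x ∈ U := by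
  rw [← orthogonal_eq_self_of_ts Q hQ U hU hdim, mem_polOrth]
  exact hx

theorem mulVecLin_injective_of_isometry (Q : QuadraticForm F (ι → F))
    (hQ : (QuadraticMap.polarBilin Q).Nondegenerate) (G : Matrix ι ι F)
    (hG : ∀ x, Q (G *ᵥ x) = Q x) : Function.Injective G.mulVecLin := by
  rw [← LinearMap.ker_eq_bot, LinearMap.ker_eq_bot']
  intro x hx
  rw [Matrix.mulVecLin_apply] at hx
  apply eq_zero_of_polar Q hQ
  intro y
  rw [← polar_mulVec_of_isometry Q G hG, hx, QuadraticMap.polar_zero_left]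

/-- an isometry mapping `U` into itself maps `U` onto itself -/
theorem map_eq_self_of_isometry (Q : QuadraticForm F (ι → F))
    (hQ : (QuadraticMap.polarBilin Q).Nondegenerate) (U : Submodule F (ι → F)) (G : Matrix ι ι F)
    (hG : ∀ x, Q (G *ᵥ x) = Q x) (hGU : ∀ u ∈ U, G *ᵥ u ∈ U) : U.map G.mulVecLin = U := by
  apply Submodule.eq_of_le_of_finrank_le
  · rintro _ ⟨u, hu, rfl⟩
    exact hGU u hu
  · exact (Submodule.equivMapOfInjective G.mulVecLin
      (mulVecLin_injective_of_isometry Q hQ G hG) U).finrank_eq.le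

/-- **Stabilisers of maximal totally singular subspaces have even Dickson invariant**: an isometry mapping
into itself a totally singular subspace of half the dimension has `rank (g - 1)` even. -/
theorem even_rank_sub_one_of_stabilizes (Q : QuadraticForm F (ι → F))
    (hQ : (QuadraticMap.polarBilin Q).Nondegenerate) (U : Submodule F (ι → F))
    (hU : ∀ u ∈ U, Q u = 0) (hdim : 2 * finrank F U = Fintype.card ι) (G : Matrix ι ι F)
    (hG : ∀ x, Q (G *ᵥ x) = Q x) (hGU : ∀ u ∈ U, G *ᵥ u ∈ U) : Even (G - 1).rank := by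
  classical
  have hNapp : ∀ x, (G - 1).mulVecLin x = G *ᵥ x - x := fun x => by
    rw [Matrix.mulVecLin_apply, Matrix.sub_mulVec, Matrix.one_mulVec]
  -- the two basic identities
  have hF1 : ∀ x y, QuadraticMap.polar Q (G *ᵥ x - x) y
      = - QuadraticMap.polar Q (G *ᵥ x) (G *ᵥ y - y) := by
    intro x y
    rw [QuadraticMap.polar_sub_left, QuadraticMap.polar_sub_right, polar_mulVec_of_isometry Q G hG]
    ring
  have hF2 : ∀ x, QuadraticMap.polar Q (G *ᵥ x - x) x = - Q (G *ᵥ x - x) := by
    intro x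
    rw [quad_sub, hG, QuadraticMap.polar_sub_left, QuadraticMap.polar_self, two_smul]
    ring
  have hGU' := map_eq_self_of_isometry Q hQ U G hG hGU
  have hNU : ∀ u ∈ U, G *ᵥ u - u ∈ U := fun u hu => U.sub_mem (hGU u hu) hu
  -- T = (N U)^⊥
  have hTmem : ∀ y, y ∈ polOrth Q (U.map (G - 1).mulVecLin)
      ↔ ∀ u ∈ U, QuadraticMap.polar Q (G *ᵥ u - u) y = 0 := by
    intro y
    rw [mem_polOrth]
    constructor
    · intro h u hu
      have := h _ (Submodule.mem_map_of_mem hu)
      rw [hNapp] at this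
      exact this
    · rintro h _ ⟨u, hu, rfl⟩
      rw [hNapp]
      exact h u hu
  have hTU : ∀ y, y ∈ polOrth Q (U.map (G - 1).mulVecLin)
      → G *ᵥ y - y ∈ U := by
    intro y hy
    rw [hTmem] at hy
    apply mem_of_polar_eq_zero_of_ts Q hQ U hU hdim
    intro u' hu'
    rw [← hGU'] at hu'
    obtain ⟨u, hu, rfl⟩ := hu'
    rw [Matrix.mulVecLin_apply]
    have := hF1 u y
    rw [hy u hu] at this
    exact neg_eq_zero.mp this.symm
  -- U and the fixed space lie in T
  have hUT : U ≤ polOrth Q (U.map (G - 1).mulVecLin) := by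
    intro u' hu'
    rw [hTmem]
    intro u hu
    exact polar_eq_zero_of_ts Q U hU (hNU u hu) hu'
  have hKmem : ∀ k, k ∈ LinearMap.ker (G - 1).mulVecLin ↔ G *ᵥ k = k := by
    intro k
    rw [LinearMap.mem_ker, hNapp, sub_eq_zero]
  have hpolK : ∀ x k, k ∈ LinearMap.ker (G - 1).mulVecLin →
      QuadraticMap.polar Q (G *ᵥ x - x) k = 0 := by
    intro x k hk
    rw [hKmem] at hk
    rw [hF1, hk, sub_self, QuadraticMap.polar_zero_right, neg_zero]
  have hKT : LinearMap.ker (G - 1).mulVecLin ≤ polOrth Q (U.map (G - 1).mulVecLin) := by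
    intro k hk
    rw [hTmem]
    intro u _
    exact hpolK u k hk
  have hRT : U ⊔ LinearMap.ker (G - 1).mulVecLin ≤ polOrth Q (U.map (G - 1).mulVecLin) :=
    sup_le hUT hKT
  obtain ⟨C', hC'⟩ := Submodule.exists_isCompl (U ⊔ LinearMap.ker (G - 1).mulVecLin)
  have hinf : (C' ⊓ polOrth Q (U.map (G - 1).mulVecLin)) ⊓ (U ⊔ LinearMap.ker (G - 1).mulVecLin)
      = ⊥ := by
    rw [eq_bot_iff]
    intro x hx
    have h1 : x ∈ (U ⊔ LinearMap.ker (G - 1).mulVecLin) ⊓ C' := ⟨hx.2, hx.1.1⟩
    rw [hC'.inf_eq_bot] at h1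
    exact h1
  have hsup : (C' ⊓ polOrth Q (U.map (G - 1).mulVecLin)) ⊔ (U ⊔ LinearMap.ker (G - 1).mulVecLin)
      = polOrth Q (U.map (G - 1).mulVecLin) := by
    rw [sup_comm, ← sup_inf_assoc_of_le _ hRT, hC'.sup_eq_top, top_inf_eq]
  -- the alternating form on the complement
  have halt : ∀ c : ↥(C' ⊓ polOrth Q (U.map (G - 1).mulVecLin)),
      (((QuadraticMap.polarBilin Q).comp (G - 1).mulVecLin).domRestrict₁₂
        (C' ⊓ polOrth Q (U.map (G - 1).mulVecLin)) (C' ⊓ polOrth Q (U.map (G - 1).mulVecLin))) c c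
        = 0 := by
    intro c
    rw [LinearMap.domRestrict₁₂_apply, LinearMap.comp_apply, QuadraticMap.polarBilin_apply_apply,
      hNapp, hF2, hU _ (hTU _ c.2.2), neg_zero]
  have hnd : ∀ c : ↥(C' ⊓ polOrth Q (U.map (G - 1).mulVecLin)),
      (∀ c' : ↥(C' ⊓ polOrth Q (U.map (G - 1).mulVecLin)),
        (((QuadraticMap.polarBilin Q).comp (G - 1).mulVecLin).domRestrict₁₂
        (C' ⊓ polOrth Q (U.map (G - 1).mulVecLin)) (C' ⊓ polOrth Q (U.map (G - 1).mulVecLin))) c c'
        = 0) → c = 0 := by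
    intro c hc
    have h1 : ∀ t ∈ polOrth Q (U.map (G - 1).mulVecLin),
        QuadraticMap.polar Q (G *ᵥ (c : ι → F) - c) t = 0 := by
      intro t ht
      rw [← hsup] at ht
      obtain ⟨c', hc', r, hr, rfl⟩ := Submodule.mem_sup.mp ht
      obtain ⟨u, hu, k, hk, rfl⟩ := Submodule.mem_sup.mp hr
      have e1 := hc ⟨c', hc'⟩
      rw [LinearMap.domRestrict₁₂_apply, LinearMap.comp_apply, QuadraticMap.polarBilin_apply_apply,
        hNapp] at e1
      rw [QuadraticMap.polar_add_right, QuadraticMap.polar_add_right, e1, hpolK _ k hk,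
        polar_eq_zero_of_ts Q U hU (hTU _ c.2.2) hu]
      ring
    have h2 : G *ᵥ (c : ι → F) - c ∈ polOrth Q (polOrth Q (U.map (G - 1).mulVecLin)) := by
      rw [mem_polOrth]
      intro t ht
      rw [QuadraticMap.polar_comm]
      exact h1 t ht
    rw [polOrth_polOrth Q hQ] at h2
    obtain ⟨u, hu, hu'⟩ := h2
    rw [hNapp] at hu'
    have h3 : (c : ι → F) ∈ U ⊔ LinearMap.ker (G - 1).mulVecLin := by
      have h4 : (c : ι → F) - u ∈ LinearMap.ker (G - 1).mulVecLin := by
        rw [hKmem, Matrix.mulVec_sub]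
        have : G *ᵥ (c : ι → F) = G *ᵥ u - u + c := by rw [hu']; abel
        rw [this]
        abel
      have h5 : (c : ι → F) = u + ((c : ι → F) - u) := by abel
      rw [h5]
      exact Submodule.add_mem_sup hu h4
    have h6 : (c : ι → F) ∈ (C' ⊓ polOrth Q (U.map (G - 1).mulVecLin))
        ⊓ (U ⊔ LinearMap.ker (G - 1).mulVecLin) := ⟨c.2, h3⟩
    rw [hinf] at h6
    exact Subtype.ext h6
  have heven := Cfsg.Agent.Lib.helper50.even_finrank_of_alt_nondeg _ _ _ halt hnd rfl
  -- dimension count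
  have d1 := Submodule.finrank_sup_add_finrank_inf_eq
    (C' ⊓ polOrth Q (U.map (G - 1).mulVecLin)) (U ⊔ LinearMap.ker (G - 1).mulVecLin)
  rw [hsup, hinf, finrank_bot, add_zero] at d1
  have d2 := finrank_polOrth Q hQ (U.map (G - 1).mulVecLin)
  have d3 := finrank_map_add_finrank_inf_ker U (G - 1).mulVecLin
  have d4 := Submodule.finrank_sup_add_finrank_inf_eq U (LinearMap.ker (G - 1).mulVecLin)
  have d5 := rank_sub_one_add_finrank_fixSub G
  have d6 : fixSub G = LinearMap.ker (G - 1).mulVecLin := rfl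
  rw [d6] at d5
  rw [Nat.even_iff] at heven ⊢
  omega

/-- the image of a totally singular subspace under an isometry is totally singular -/
theorem ts_map (Q : QuadraticForm F (ι → F)) (U : Submodule F (ι → F)) (hU : ∀ u ∈ U, Q u = 0)
    (G : Matrix ι ι F) (hG : ∀ x, Q (G *ᵥ x) = Q x) : ∀ w ∈ U.map G.mulVecLin, Q w = 0 := by
  rintro _ ⟨u, hu, rfl⟩
  rw [Matrix.mulVecLin_apply, hG]
  exact hU u hu

theorem finrank_map_of_isometry (Q : QuadraticForm F (ι → F))
    (hQ : (QuadraticMap.polarBilin Q).Nondegenerate) (U : Submodule F (ι → F)) (G : Matrix ι ι F)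
    (hG : ∀ x, Q (G *ᵥ x) = Q x) : finrank F (U.map G.mulVecLin) = finrank F U :=
  ((Submodule.equivMapOfInjective G.mulVecLin
    (mulVecLin_injective_of_isometry Q hQ G hG) U).finrank_eq).symm

/-- **The parity theorem**: for a totally singular subspace `U` of half the dimension and an isometry `g`,
`dim U - dim (U ∩ g U) ≡ rank (g - 1) (mod 2)`. -/
theorem parity_inf_map (Q : QuadraticForm F (ι → F))
    (hQ : (QuadraticMap.polarBilin Q).Nondegenerate) (U : Submodule F (ι → F))
    (hU : ∀ u ∈ U, Q u = 0) (hdim : 2 * finrank F U = Fintype.card ι) :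
    ∀ (k : ℕ) (G : Matrix ι ι F), (∀ x, Q (G *ᵥ x) = Q x) →
      finrank F U = finrank F (U ⊓ U.map G.mulVecLin : Submodule F (ι → F)) + k →
      (G - 1).rank % 2 = k % 2 := by
  intro k
  induction k with
  | zero =>
    intro G hG hk
    have h1 : U ⊓ U.map G.mulVecLin = U :=
      Submodule.eq_of_le_of_finrank_le inf_le_left (by omega)
    have h2 : U ≤ U.map G.mulVecLin := inf_eq_left.mp h1
    have h3 : U = U.map G.mulVecLin :=
      Submodule.eq_of_le_of_finrank_le h2 (by rw [finrank_map_of_isometry Q hQ U G hG])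
    have h4 : ∀ u ∈ U, G *ᵥ u ∈ U := by
      intro u hu
      have := Submodule.mem_map_of_mem (f := G.mulVecLin) hu
      rw [← h3] at this
      exact this
    have := even_rank_sub_one_of_stabilizes Q hQ U hU hdim G hG h4
    rw [Nat.even_iff] at this
    omega
  | succ k ih =>
    intro G hG hk
    have hex : ∃ e ∈ U, ∃ w ∈ U.map G.mulVecLin, QuadraticMap.polar Q e w ≠ 0 := by
      by_contra hcon
      push Not at hcon
      have h2 : U.map G.mulVecLin ≤ U := fun w hw =>
        mem_of_polar_eq_zero_of_ts Q hQ U hU hdim w (fun u hu => hcon u hu w hw)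
      have h3 : U.map G.mulVecLin = U :=
        Submodule.eq_of_le_of_finrank_le h2 (by rw [finrank_map_of_isometry Q hQ U G hG])
      rw [h3, inf_idem] at hk
      omega
    obtain ⟨e, he, w, hw, hew⟩ := hex
    have hQe : Q e = 0 := hU e he
    have hQw : Q w = 0 := ts_map Q U hU G hG w hw
    have hv : Q (w - e) ≠ 0 := by
      rw [quad_sub, hQw, hQe, QuadraticMap.polar_comm]
      simpa using hew
    have hRw : reflectionMatrix ⇑Q (w - e) *ᵥ w = e :=
      reflectionMatrix_sub_mulVec Q e w (by rw [hQw, hQe]) hv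
    have hRfix : ∀ x, x ∈ U → x ∈ U.map G.mulVecLin → reflectionMatrix ⇑Q (w - e) *ᵥ x = x := by
      intro x hx hx'
      apply reflectionMatrix_mulVec_of_polar_eq_zero
      rw [QuadraticMap.polar_sub_left, polar_eq_zero_of_ts Q _ (ts_map Q U hU G hG) hw hx',
        polar_eq_zero_of_ts Q U hU he hx, sub_zero]
    have hG' : ∀ x, Q ((reflectionMatrix ⇑Q (w - e) * G) *ᵥ x) = Q x := fun x => by
      rw [← Matrix.mulVec_mulVec, reflectionMatrix_preserves Q _ hv, hG]
    have hlt : U ⊓ U.map G.mulVecLin < U ⊓ U.map (reflectionMatrix ⇑Q (w - e) * G).mulVecLin := by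
      rw [SetLike.lt_iff_le_and_exists]
      refine ⟨?_, e, ⟨he, ?_⟩, ?_⟩
      · rintro x ⟨hx, hx'⟩
        refine ⟨hx, ?_⟩
        have hfix := hRfix x hx hx'
        obtain ⟨u, hu, rfl⟩ := hx'
        refine ⟨u, hu, ?_⟩
        rw [Matrix.mulVecLin_apply, ← Matrix.mulVec_mulVec]
        rw [Matrix.mulVecLin_apply] at hfix
        exact hfix
      · obtain ⟨u, hu, rfl⟩ := hw
        refine ⟨u, hu, ?_⟩
        rw [Matrix.mulVecLin_apply, ← Matrix.mulVec_mulVec]
        rw [Matrix.mulVecLin_apply] at hRw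
        exact hRw
      · rintro ⟨-, he'⟩
        exact hew (polar_eq_zero_of_ts Q _ (ts_map Q U hU G hG) he' hw)
    have hle : (U ⊓ U.map (reflectionMatrix ⇑Q (w - e) * G).mulVecLin)
        ⊓ LinearMap.ker (QuadraticMap.polarBilin Q (w - e)) ≤ U ⊓ U.map G.mulVecLin := by
      rintro x ⟨⟨hx, hx'⟩, hx''⟩
      refine ⟨hx, ?_⟩
      have hx3 : QuadraticMap.polar ⇑Q (w - e) x = 0 := by
        have := LinearMap.mem_ker.mp hx''
        rwa [QuadraticMap.polarBilin_apply_apply] at this
      have hfix := reflectionMatrix_mulVec_of_polar_eq_zero Q (w - e) x hx3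
      obtain ⟨u, hu, rfl⟩ := hx'
      refine ⟨u, hu, ?_⟩
      rw [Matrix.mulVecLin_apply, ← Matrix.mulVec_mulVec] at hfix
      have h5 : reflectionMatrix ⇑Q (w - e) *ᵥ (reflectionMatrix ⇑Q (w - e) *ᵥ (G *ᵥ u)) = G *ᵥ u := by
        rw [Matrix.mulVec_mulVec, reflectionMatrix_mul_self Q _ hv, Matrix.one_mulVec]
      rw [hfix] at h5
      rw [Matrix.mulVecLin_apply, Matrix.mulVecLin_apply, ← Matrix.mulVec_mulVec]
      exact h5.symm
    have d1 := Submodule.finrank_lt_finrank_of_lt hlt
    have d2 := finrank_le_inf_ker_add_one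
      (U ⊓ U.map (reflectionMatrix ⇑Q (w - e) * G).mulVecLin) (QuadraticMap.polarBilin Q (w - e))
    have d3 := Submodule.finrank_mono hle
    have d4 := ih (reflectionMatrix ⇑Q (w - e) * G) hG' (by omega)
    have d5 := rank_sub_one_add_finrank_fixSub G
    have d6 := rank_sub_one_add_finrank_fixSub (reflectionMatrix ⇑Q (w - e) * G)
    rcases finrank_fixSub_flip Q hQ G hG (w - e) hv with h | h
    · omega
    · omega

/-- if `dim (U ∩ g U) = dim U` then `g` maps `U` into itself -/
theorem mulVec_mem_of_finrank_inf_eq (Q : QuadraticForm F (ι → F))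
    (hQ : (QuadraticMap.polarBilin Q).Nondegenerate) (U : Submodule F (ι → F)) (G : Matrix ι ι F)
    (hG : ∀ x, Q (G *ᵥ x) = Q x)
    (hk : finrank F U ≤ finrank F (U ⊓ U.map G.mulVecLin : Submodule F (ι → F))) :
    ∀ u ∈ U, G *ᵥ u ∈ U := by
  have h1 : U ⊓ U.map G.mulVecLin = U := Submodule.eq_of_le_of_finrank_le inf_le_left hk
  have h2 : U ≤ U.map G.mulVecLin := inf_eq_left.mp h1
  have h3 : U = U.map G.mulVecLin :=
    Submodule.eq_of_le_of_finrank_le h2 (by rw [finrank_map_of_isometry Q hQ U G hG])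
  intro u hu
  have := Submodule.mem_map_of_mem (f := G.mulVecLin) hu
  rw [← h3] at this
  exact this

/-- membership in `U` is reflected by an isometry stabilising `U` -/
theorem mem_of_mulVec_mem (Q : QuadraticForm F (ι → F))
    (hQ : (QuadraticMap.polarBilin Q).Nondegenerate) (U : Submodule F (ι → F)) (G : Matrix ι ι F)
    (hG : ∀ x, Q (G *ᵥ x) = Q x) (hGU : ∀ u ∈ U, G *ᵥ u ∈ U) (x : ι → F) (hx : G *ᵥ x ∈ U) :
    x ∈ U := by
  have h := map_eq_self_of_isometry Q hQ U G hG hGU
  rw [← h] at hx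
  obtain ⟨u, hu, hu'⟩ := hx
  have := mulVecLin_injective_of_isometry Q hQ G hG hu'
  rw [← this]
  exact hu

/-- elements of `Ω` have even Dickson invariant -/
theorem even_rank_of_mem_Omega (Q : QuadraticForm F (ι → F))
    (hQ : (QuadraticMap.polarBilin Q).Nondegenerate) (hgen : reflSubgroup Q = ⊤)
    (g : ↥(Cfsg.isometryGroup F ⇑Q)) (hg : g ∈ Cfsg.Omega F ⇑Q) :
    Even ((((g : Matrix.GeneralLinearGroup ι F) : Matrix ι ι F) - 1).rank) :=
  (mem_ker_dickson_iff Q hQ hgen g).mp
    (Abelianization.commutator_subset_ker (dickson Q hQ hgen) hg)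

/-- **`Ω` preserves the two classes**: for `g ∈ Ω` and `U` totally singular of half the dimension, the
codimension of `U ∩ g U` in `U` is even. -/
theorem Omega_parity (Q : QuadraticForm F (ι → F))
    (hQ : (QuadraticMap.polarBilin Q).Nondegenerate) (hgen : reflSubgroup Q = ⊤)
    (U : Submodule F (ι → F)) (hU : ∀ u ∈ U, Q u = 0) (hdim : 2 * finrank F U = Fintype.card ι)
    (g : ↥(Cfsg.isometryGroup F ⇑Q)) (hg : g ∈ Cfsg.Omega F ⇑Q) (k : ℕ)
    (hk : finrank F U = finrank F (U ⊓ U.map
      ((g : Matrix.GeneralLinearGroup ι F) : Matrix ι ι F).mulVecLin : Submodule F (ι → F)) + k) :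
    Even k := by
  have h1 := parity_inf_map Q hQ U hU hdim k _ ((mem_isometryGroup_iff _ _).mp g.2) hk
  have h2 := even_rank_of_mem_Omega Q hQ hgen g hg
  rw [Nat.even_iff] at h2 ⊢
  omega

/-- a non-singular vector orthogonal to a given vector, in dimension at least three -/
theorem exists_nonsing_perp (Q : QuadraticForm F (ι → F))
    (hQ : (QuadraticMap.polarBilin Q).Nondegenerate) (hcard : 3 ≤ Fintype.card ι) (e : ι → F) :
    ∃ a, Q a ≠ 0 ∧ QuadraticMap.polar Q a e = 0 := by
  by_contra hcon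
  push Not at hcon
  have hmem : ∀ x, x ∈ polOrth Q (Submodule.span F {e}) ↔ QuadraticMap.polar Q x e = 0 := by
    intro x
    rw [mem_polOrth]
    constructor
    · intro h
      rw [QuadraticMap.polar_comm]
      exact h e (Submodule.mem_span_singleton_self e)
    · intro h u hu
      obtain ⟨c, rfl⟩ := Submodule.mem_span_singleton.mp hu
      rw [QuadraticMap.polar_smul_left, QuadraticMap.polar_comm, h, smul_zero]
  have hts : ∀ x ∈ polOrth Q (Submodule.span F {e}), Q x = 0 := by
    intro x hx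
    by_contra h
    exact hcon x h ((hmem x).mp hx)
  have hle : polOrth Q (Submodule.span F {e}) ≤ polOrth Q (polOrth Q (Submodule.span F {e})) := by
    intro x hx
    rw [mem_polOrth]
    intro u hu
    exact polar_eq_zero_of_ts Q _ hts hu hx
  have d1 := Submodule.finrank_mono hle
  have d2 := finrank_polOrth Q hQ (polOrth Q (Submodule.span F {e}))
  have d3 := finrank_polOrth Q hQ (Submodule.span F {e})
  have d4 : finrank F (Submodule.span F {e}) ≤ 1 :=
    le_trans (finrank_span_le_card ({e} : Set (ι → F))) (by simp)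
  omega

/-- the formula for the product of the reflections in `a` and `a + e`, `e` singular and orthogonal to `a` -/
theorem refl_mul_refl_add_mulVec (Q : QuadraticForm F (ι → F)) (a e : ι → F) (ha : Q a ≠ 0)
    (he : Q e = 0) (hae : QuadraticMap.polar Q a e = 0) (x : ι → F) :
    reflectionMatrix ⇑Q a *ᵥ (reflectionMatrix ⇑Q (a + e) *ᵥ x)
      = x + ((Q a)⁻¹ * QuadraticMap.polar Q e x) • a
        - ((Q a)⁻¹ * QuadraticMap.polar Q (a + e) x) • e := by
  have hb : Q (a + e) = Q a := by
    rw [QuadraticMap.map_add (⇑Q) a e, he, hae, add_zero, add_zero]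
  rw [reflectionMatrix_mulVec Q (a + e) x, hb, Matrix.mulVec_add, Matrix.mulVec_smul,
    Matrix.mulVec_add, reflectionMatrix_mulVec_self Q a ha,
    reflectionMatrix_mulVec_of_polar_eq_zero Q a e hae, reflectionMatrix_mulVec Q a x,
    QuadraticMap.polar_add_left]
  module

/-- the product of the reflections in `a` and `a + e` (`e` singular, orthogonal to `a`) as an element of `Ω` -/
theorem exists_eichler (Q : QuadraticForm F (ι → F))
    (hQ : (QuadraticMap.polarBilin Q).Nondegenerate) (a e : ι → F) (ha : Q a ≠ 0)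
    (he : Q e = 0) (hae : QuadraticMap.polar Q a e = 0) :
    ∃ g : ↥(Cfsg.isometryGroup F ⇑Q), g ∈ Cfsg.Omega F ⇑Q ∧
      ∀ x, ((g : Matrix.GeneralLinearGroup ι F) : Matrix ι ι F) *ᵥ x
        = x + ((Q a)⁻¹ * QuadraticMap.polar Q e x) • a
          - ((Q a)⁻¹ * QuadraticMap.polar Q (a + e) x) • e := by
  have hb : Q (a + e) = Q a := by
    rw [QuadraticMap.map_add (⇑Q) a e, he, hae, add_zero, add_zero]
  have hb' : Q (a + e) ≠ 0 := by rw [hb]; exact ha
  refine ⟨reflectionIsom Q a ha * reflectionIsom Q (a + e) hb',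
    refl_mul_refl_mem_commutator_of_eq Q hQ a (a + e) ha hb' hb, fun x => ?_⟩
  rw [Subgroup.coe_mul, Units.val_mul, reflectionIsom_coe, reflectionIsom_coe,
    ← Matrix.mulVec_mulVec]
  exact refl_mul_refl_add_mulVec Q a e ha he hae x

end

end Cfsg.Agent.Lib.helper42
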