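import Cfsg.Agent.Lib.helper42.TwoClasses
import Cfsg.Agent.Lib.helper95.OmegaTools
import Cfsg.Agent.S0786

/-!
Consequences of the two-classes theory for subgroups of `Cfsg.Geo.omegaGL`:

* `exists_Omega_moving`: Eichler-type elements of `Ω` stabilising a totally singular subspace and moving
  a vector by a non-singular vector.
* `exists_max_ts_ge`: in a space of plus type every totally singular subspace lies in a totally singular
  subspace of half the dimension.
* `stab_max_ts_lt_omegaGL`, `stabilizes_of_stabilizes_hyperplane`, `exists_Omega_stab_not_stab`,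
  `not_map_eq_of_odd`: the pieces of the non-maximality statements.
-/

set_option autoImplicit false
set_option linter.unusedSectionVars false

namespace Cfsg.Agent.Lib.helper42

open Matrix Cfsg Cfsg.Geo Cfsg.Agent.Lib.helper17 Module

section
variable {ι : Type} [Fintype ι] [DecidableEq ι] {F : Type*} [Field F]

theorem polarBilin_nondeg_of_isNondeg (Q : (ι → F) → F) (hQ : IsNondegenerateQuadraticForm Q) :
    (QuadraticMap.polarBilin (Cfsg.Agent.Lib.helper95.qfOfNondeg Q hQ)).Nondegenerate := by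
  constructor
  · intro x hx
    by_contra hx0
    obtain ⟨y, hy⟩ := (hQ.nondegenerate x hx0).2
    exact hy (hx y)
  · intro y hy
    by_contra hy0
    obtain ⟨x, hx⟩ := (hQ.nondegenerate y hy0).1
    exact hx (hy x)

theorem mem_polOrth_span_singleton (Q : QuadraticForm F (ι → F)) (e x : ι → F) :
    x ∈ polOrth Q (Submodule.span F {e}) ↔ QuadraticMap.polar Q e x = 0 := by
  rw [mem_polOrth]
  constructor
  · intro h
    exact h e (Submodule.mem_span_singleton_self e)
  · intro h u hu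
    obtain ⟨c, rfl⟩ := Submodule.mem_span_singleton.mp hu
    rw [QuadraticMap.polar_smul_left, h, smul_zero]

theorem polOrth_anti (Q : QuadraticForm F (ι → F)) {A B : Submodule F (ι → F)} (h : A ≤ B) :
    polOrth Q B ≤ polOrth Q A := by
  intro x hx
  rw [mem_polOrth] at hx ⊢
  exact fun u hu => hx u (h hu)

theorem polOrth_sup (Q : QuadraticForm F (ι → F)) (A B : Submodule F (ι → F)) :
    polOrth Q (A ⊔ B) = polOrth Q A ⊓ polOrth Q B := by
  ext x
  rw [Submodule.mem_inf, mem_polOrth, mem_polOrth, mem_polOrth]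
  constructor
  · intro h
    exact ⟨fun u hu => h u (Submodule.mem_sup_left hu), fun u hu => h u (Submodule.mem_sup_right hu)⟩
  · rintro ⟨h1, h2⟩ u hu
    obtain ⟨a, ha, b, hb, rfl⟩ := Submodule.mem_sup.mp hu
    rw [QuadraticMap.polar_add_left, h1 a ha, h2 b hb, add_zero]

/-- the value of `Q` on `p • a - b • e`, `e` singular and orthogonal to `a` -/
theorem quad_smul_sub_smul (Q : QuadraticForm F (ι → F)) (a e : ι → F) (he : Q e = 0)
    (hae : QuadraticMap.polar Q a e = 0) (p b : F) : Q (p • a - b • e) = p * p * Q a := by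
  rw [quad_sub, QuadraticMap.map_smul, QuadraticMap.map_smul, he, QuadraticMap.polar_smul_left,
    QuadraticMap.polar_smul_right, hae]
  simp

/-- **Eichler-type elements**: for `e` in a totally singular subspace `U` and `x` not orthogonal to `e`
there is `g ∈ Ω` stabilising `U` such that `g x - x` is non-singular. -/
theorem exists_Omega_moving (Q : QuadraticForm F (ι → F))
    (hQ : (QuadraticMap.polarBilin Q).Nondegenerate) (hcard : 3 ≤ Fintype.card ι)
    (U : Submodule F (ι → F)) (hU : ∀ u ∈ U, Q u = 0) (e x : ι → F) (he : e ∈ U)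
    (hex : QuadraticMap.polar Q e x ≠ 0) :
    ∃ g : ↥(Cfsg.isometryGroup F ⇑Q), g ∈ Cfsg.Omega F ⇑Q ∧
      (∀ u ∈ U, ((g : Matrix.GeneralLinearGroup ι F) : Matrix ι ι F) *ᵥ u ∈ U) ∧
      Q (((g : Matrix.GeneralLinearGroup ι F) : Matrix ι ι F) *ᵥ x - x) ≠ 0 := by
  obtain ⟨a, ha, hae⟩ := exists_nonsing_perp Q hQ hcard e
  obtain ⟨g, hg, hgx⟩ := exists_eichler Q hQ a e ha (hU e he) hae
  refine ⟨g, hg, ?_, ?_⟩
  · intro u hu
    rw [hgx, polar_eq_zero_of_ts Q U hU he hu, mul_zero, zero_smul, add_zero]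
    exact U.sub_mem hu (U.smul_mem _ he)
  · rw [hgx]
    have h1 : x + ((Q a)⁻¹ * QuadraticMap.polar Q e x) • a
        - ((Q a)⁻¹ * QuadraticMap.polar Q (a + e) x) • e - x
        = ((Q a)⁻¹ * QuadraticMap.polar Q e x) • a
          - ((Q a)⁻¹ * QuadraticMap.polar Q (a + e) x) • e := by abel
    rw [h1, quad_smul_sub_smul Q a e (hU e he) hae]
    have h2 : (Q a)⁻¹ * QuadraticMap.polar Q e x ≠ 0 := mul_ne_zero (inv_ne_zero ha) hex
    exact mul_ne_zero (mul_ne_zero h2 h2) ha

/-- a singular vector not orthogonal to a given non-zero singular vector -/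
theorem exists_singular_polar_ne_zero (Q : QuadraticForm F (ι → F))
    (hQ : (QuadraticMap.polarBilin Q).Nondegenerate) (u : ι → F) (hu : u ≠ 0) (hQu : Q u = 0) :
    ∃ f, Q f = 0 ∧ QuadraticMap.polar Q f u ≠ 0 := by
  obtain ⟨y, hy⟩ := exists_polar_ne_zero Q hQ u hu
  refine ⟨y - (Q y / QuadraticMap.polar Q u y) • u, ?_, ?_⟩
  · rw [quad_sub, QuadraticMap.map_smul, hQu, QuadraticMap.polar_smul_right,
      QuadraticMap.polar_comm (⇑Q) y u]
    simp only [smul_eq_mul, mul_zero, add_zero]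
    rw [div_mul_cancel₀ _ hy, sub_self]
  · rw [QuadraticMap.polar_sub_left, QuadraticMap.polar_smul_left, QuadraticMap.polar_self, hQu,
      smul_zero, smul_zero, sub_zero, QuadraticMap.polar_comm]
    exact hy

/-- `Ω` does not stabilise a non-zero totally singular subspace -/
theorem exists_Omega_not_stab (Q : QuadraticForm F (ι → F))
    (hQ : (QuadraticMap.polarBilin Q).Nondegenerate) (hcard : 3 ≤ Fintype.card ι)
    (U : Submodule F (ι → F)) (hU : ∀ u ∈ U, Q u = 0) (hne : U ≠ ⊥) :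
    ∃ g : ↥(Cfsg.isometryGroup F ⇑Q), g ∈ Cfsg.Omega F ⇑Q ∧
      ∃ x ∈ U, ((g : Matrix.GeneralLinearGroup ι F) : Matrix ι ι F) *ᵥ x ∉ U := by
  obtain ⟨u, hu, hu0⟩ := Submodule.exists_mem_ne_zero_of_ne_bot hne
  obtain ⟨f, hf, hfu⟩ := exists_singular_polar_ne_zero Q hQ u hu0 (hU u hu)
  have hts : ∀ v ∈ Submodule.span F {f}, Q v = 0 := by
    intro v hv
    obtain ⟨c, rfl⟩ := Submodule.mem_span_singleton.mp hv
    rw [QuadraticMap.map_smul, hf, smul_zero]
  obtain ⟨g, hg, -, hgx⟩ := exists_Omega_moving Q hQ hcard (Submodule.span F {f}) hts f u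
    (Submodule.mem_span_singleton_self f) hfu
  refine ⟨g, hg, u, hu, fun hcon => hgx (hU _ (U.sub_mem hcon hu))⟩

/-- in a space of plus type every totally singular subspace lies in one of half the dimension -/
theorem exists_max_ts_ge (Q : QuadraticForm F (ι → F))
    (hQ : (QuadraticMap.polarBilin Q).Nondegenerate) (U0 : Submodule F (ι → F))
    (hU0 : ∀ u ∈ U0, Q u = 0) (hdim0 : 2 * finrank F U0 = Fintype.card ι)
    (W : Submodule F (ι → F)) (hW : ∀ w ∈ W, Q w = 0) :
    ∃ U1 : Submodule F (ι → F), W ≤ U1 ∧ (∀ u ∈ U1, Q u = 0) ∧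
      2 * finrank F U1 = Fintype.card ι := by
  refine ⟨W ⊔ (U0 ⊓ polOrth Q W), le_sup_left, ?_, ?_⟩
  · intro x hx
    obtain ⟨w, hw, v, hv, rfl⟩ := Submodule.mem_sup.mp hx
    have h1 : QuadraticMap.polar Q w v = 0 := (mem_polOrth Q W v).mp hv.2 w hw
    have h2 := QuadraticMap.map_add (⇑Q) w v
    rw [h2, hW w hw, hU0 v hv.1, h1]
    simp
  · have hWW : W ≤ polOrth Q W := by
      intro w hw
      rw [mem_polOrth]
      exact fun u hu => polar_eq_zero_of_ts Q W hW hu hw
    have e1 : W ⊓ (U0 ⊓ polOrth Q W) = U0 ⊓ W := by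
      apply le_antisymm
      · exact fun x hx => ⟨hx.2.1, hx.1⟩
      · exact fun x hx => ⟨hx.2, hx.1, hWW hx.2⟩
    have e2 : polOrth Q (U0 ⊔ W) = U0 ⊓ polOrth Q W := by
      rw [polOrth_sup, orthogonal_eq_self_of_ts Q hQ U0 hU0 hdim0]
    have d1 := Submodule.finrank_sup_add_finrank_inf_eq W (U0 ⊓ polOrth Q W)
    have d2 := finrank_polOrth Q hQ (U0 ⊔ W)
    have d3 := Submodule.finrank_sup_add_finrank_inf_eq U0 W
    have d4 : finrank F (U0 ⊔ W : Submodule F (ι → F)) ≤ Fintype.card ι := by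
      have := Submodule.finrank_le (U0 ⊔ W)
      rwa [Module.finrank_fintype_fun_eq_card] at this
    rw [e1] at d1
    rw [e2] at d2
    omega

/-- an element of `Ω` stabilising a hyperplane of a maximal totally singular subspace stabilises the
subspace itself -/
theorem stabilizes_of_stabilizes_hyperplane (Q : QuadraticForm F (ι → F))
    (hQ : (QuadraticMap.polarBilin Q).Nondegenerate) (hgen : reflSubgroup Q = ⊤)
    (U1 : Submodule F (ι → F)) (hU1 : ∀ u ∈ U1, Q u = 0)
    (hdim1 : 2 * finrank F U1 = Fintype.card ι) (W : Submodule F (ι → F)) (hWU : W ≤ U1)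
    (hWd : finrank F U1 ≤ finrank F W + 1)
    (g : ↥(Cfsg.isometryGroup F ⇑Q)) (hg : g ∈ Cfsg.Omega F ⇑Q)
    (hgW : ∀ w ∈ W, ((g : Matrix.GeneralLinearGroup ι F) : Matrix ι ι F) *ᵥ w ∈ W) :
    ∀ u ∈ U1, ((g : Matrix.GeneralLinearGroup ι F) : Matrix ι ι F) *ᵥ u ∈ U1 := by
  have hiso := (mem_isometryGroup_iff _ _).mp g.2
  have hmap := map_eq_self_of_isometry Q hQ W _ hiso hgW
  have hle : W ≤ U1 ⊓ U1.map ((g : Matrix.GeneralLinearGroup ι F) : Matrix ι ι F).mulVecLin := by
    intro w hw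
    refine ⟨hWU hw, ?_⟩
    have h1 : w ∈ W.map ((g : Matrix.GeneralLinearGroup ι F) : Matrix ι ι F).mulVecLin := by
      rw [hmap]; exact hw
    exact Submodule.map_mono hWU h1
  have d1 := Submodule.finrank_mono hle
  have d2 : finrank F (U1 ⊓ U1.map ((g : Matrix.GeneralLinearGroup ι F) : Matrix ι ι F).mulVecLin
      : Submodule F (ι → F)) ≤ finrank F U1 := Submodule.finrank_mono inf_le_left
  have hev := Omega_parity Q hQ hgen U1 hU1 hdim1 g hg
    (finrank F U1 - finrank F (U1 ⊓ U1.map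
      ((g : Matrix.GeneralLinearGroup ι F) : Matrix ι ι F).mulVecLin : Submodule F (ι → F)))
    (by omega)
  rw [Nat.even_iff] at hev
  exact mulVec_mem_of_finrank_inf_eq Q hQ U1 _ hiso (by omega)

/-- an element of `Ω` stabilising a totally singular subspace `U1` but not a given proper non-zero
subspace `W` of it -/
theorem exists_Omega_stab_not_stab (Q : QuadraticForm F (ι → F))
    (hQ : (QuadraticMap.polarBilin Q).Nondegenerate)
    (U1 : Submodule F (ι → F)) (hU1 : ∀ u ∈ U1, Q u = 0) (W : Submodule F (ι → F)) (hWU : W ≤ U1)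
    (hne : W ≠ ⊥) (hlt : W ≠ U1) :
    ∃ g : ↥(Cfsg.isometryGroup F ⇑Q), g ∈ Cfsg.Omega F ⇑Q ∧
      (∀ u ∈ U1, ((g : Matrix.GeneralLinearGroup ι F) : Matrix ι ι F) *ᵥ u ∈ U1) ∧
      ∃ w ∈ W, ((g : Matrix.GeneralLinearGroup ι F) : Matrix ι ι F) *ᵥ w ∉ W := by
  obtain ⟨w0, hw0, hw00⟩ := Submodule.exists_mem_ne_zero_of_ne_bot hne
  obtain ⟨e, he, heW⟩ := SetLike.exists_of_lt (lt_of_le_of_ne hWU hlt)
  -- a vector orthogonal to `e` but not to `w0`
  have hy : ∃ y, QuadraticMap.polar Q e y = 0 ∧ QuadraticMap.polar Q w0 y ≠ 0 := by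
    by_contra hcon
    push Not at hcon
    have h1 : polOrth Q (Submodule.span F {e}) ≤ polOrth Q (Submodule.span F {w0}) := by
      intro y hy
      rw [mem_polOrth_span_singleton] at hy ⊢
      exact hcon y hy
    have h2 := polOrth_anti Q h1
    rw [polOrth_polOrth Q hQ, polOrth_polOrth Q hQ] at h2
    obtain ⟨c, hc⟩ := Submodule.mem_span_singleton.mp (h2 (Submodule.mem_span_singleton_self w0))
    have hc0 : c ≠ 0 := by
      rintro rfl
      rw [zero_smul] at hc
      exact hw00 hc.symm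
    apply heW
    have : e = c⁻¹ • w0 := by rw [← hc, smul_smul, inv_mul_cancel₀ hc0, one_smul]
    rw [this]
    exact W.smul_mem _ hw0
  obtain ⟨y, hye, hyw⟩ := hy
  have hew0 : QuadraticMap.polar Q e w0 = 0 := polar_eq_zero_of_ts Q U1 hU1 he (hWU hw0)
  -- a non-singular such vector
  have ha : ∃ a, Q a ≠ 0 ∧ QuadraticMap.polar Q a e = 0 ∧ QuadraticMap.polar Q a w0 ≠ 0 := by
    by_cases hQy : Q y = 0
    · refine ⟨y + w0, ?_, ?_, ?_⟩
      · have h2 := QuadraticMap.map_add (⇑Q) y w0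
        rw [h2, hQy, hU1 w0 (hWU hw0), zero_add, zero_add, QuadraticMap.polar_comm]
        exact hyw
      · rw [QuadraticMap.polar_add_left, QuadraticMap.polar_comm (⇑Q) y e, hye,
          QuadraticMap.polar_comm (⇑Q) w0 e, hew0, add_zero]
      · rw [QuadraticMap.polar_add_left, QuadraticMap.polar_self, hU1 w0 (hWU hw0), smul_zero,
          add_zero, QuadraticMap.polar_comm]
        exact hyw
    · refine ⟨y, hQy, ?_, ?_⟩
      · rw [QuadraticMap.polar_comm]; exact hye
      · rw [QuadraticMap.polar_comm]; exact hyw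
  obtain ⟨a, hQa, hae, haw⟩ := ha
  obtain ⟨g, hg, hgx⟩ := exists_eichler Q hQ a e hQa (hU1 e he) hae
  refine ⟨g, hg, ?_, w0, hw0, ?_⟩
  · intro u hu
    rw [hgx, polar_eq_zero_of_ts Q U1 hU1 he hu, mul_zero, zero_smul, add_zero]
    exact U1.sub_mem hu (U1.smul_mem _ he)
  · rw [hgx, hew0, mul_zero, zero_smul, add_zero, QuadraticMap.polar_add_left, hew0, add_zero]
    intro hcon
    have h3 : ((Q a)⁻¹ * QuadraticMap.polar Q a w0) • e ∈ W := by
      have := W.sub_mem hw0 hcon
      rwa [sub_sub_cancel] at this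
    have h4 : (Q a)⁻¹ * QuadraticMap.polar Q a w0 ≠ 0 := mul_ne_zero (inv_ne_zero hQa) haw
    exact heW ((W.smul_mem_iff h4).mp h3)

/-- an element of `Ω` cannot map a maximal totally singular subspace of odd dimension to a complement -/
theorem not_map_eq_of_odd (Q : QuadraticForm F (ι → F))
    (hQ : (QuadraticMap.polarBilin Q).Nondegenerate) (hgen : reflSubgroup Q = ⊤)
    (U : Submodule F (ι → F)) (hU : ∀ u ∈ U, Q u = 0) (hdim : 2 * finrank F U = Fintype.card ι)
    (hodd : Odd (finrank F U)) (U' : Submodule F (ι → F)) (hdisj : U ⊓ U' = ⊥)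
    (g : ↥(Cfsg.isometryGroup F ⇑Q)) (hg : g ∈ Cfsg.Omega F ⇑Q) :
    U.map ((g : Matrix.GeneralLinearGroup ι F) : Matrix ι ι F).mulVecLin ≠ U' := by
  intro hcon
  have hev := Omega_parity Q hQ hgen U hU hdim g hg (finrank F U)
    (by rw [hcon, hdisj, finrank_bot, zero_add])
  rw [Nat.even_iff] at hev
  rw [Nat.odd_iff] at hodd
  omega

/-- an isometry mapping `U` into itself lies in the stabiliser of `U` -/
theorem mem_subspaceStabilizer_of_isometry (Q : QuadraticForm F (ι → F))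
    (hQ : (QuadraticMap.polarBilin Q).Nondegenerate) (U : Submodule F (ι → F))
    (g : Matrix.GeneralLinearGroup ι F) (hg : ∀ x, Q ((g : Matrix ι ι F) *ᵥ x) = Q x)
    (hgU : ∀ u ∈ U, (g : Matrix ι ι F) *ᵥ u ∈ U) : g ∈ subspaceStabilizer U :=
  fun v => ⟨fun hv => hgU v hv, fun hv => mem_of_mulVec_mem Q hQ U _ hg hgU v hv⟩

end

end Cfsg.Agent.Lib.helper42
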