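import Mathlib
import Cfsg.Agent.Lib.helper16.U34CDefs

set_option autoImplicit false

namespace Cfsg.Agent.Lib.helper16.U34C

open scoped commutatorElement

/-- One layer of normal forms: `u ^ e * m` with `e < 2` and `m` in the lower layer. -/
private def h42_L {H : Type*} [Group H] (u : H) (M : Set H) : Set H :=
  {n | ∃ e : ℕ, e < 2 ∧ ∃ m ∈ M, n = u ^ e * m}

private theorem h42_L_cen {H : Type*} [Group H] (u c : H) (hc : ∀ g : H, Commute c g) (M : Set H)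
    (Mc : ∀ m ∈ M, c * m ∈ M) : ∀ n ∈ h42_L u M, c * n ∈ h42_L u M := by
  rintro n ⟨e, he, m, hm, rfl⟩
  refine ⟨e, he, c * m, Mc m hm, ?_⟩
  rw [← mul_assoc, (hc (u ^ e)).eq, mul_assoc]

private theorem h42_L_self {H : Type*} [Group H] (a b u : H) (hu : u ^ 2 = a * b) (M : Set H)
    (Ma : ∀ m ∈ M, a * m ∈ M) (Mb : ∀ m ∈ M, b * m ∈ M) :
    ∀ n ∈ h42_L u M, u * n ∈ h42_L u M := by
  rintro n ⟨e, he, m, hm, rfl⟩
  interval_cases e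
  · exact ⟨1, by norm_num, m, hm, by simp⟩
  · refine ⟨0, by norm_num, a * (b * m), Ma _ (Mb _ hm), ?_⟩
    rw [pow_one, pow_zero, one_mul, ← mul_assoc, ← sq, hu, mul_assoc]

private theorem h42_L_other {H : Type*} [Group H] (u v c : H) (_hc : ∀ g : H, Commute c g)
    (hvu : v * u = u * v * c) (M : Set H) (Mc : ∀ m ∈ M, c * m ∈ M) (Mv : ∀ m ∈ M, v * m ∈ M) :
    ∀ n ∈ h42_L u M, v * n ∈ h42_L u M := by
  rintro n ⟨e, he, m, hm, rfl⟩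
  interval_cases e
  · exact ⟨0, by norm_num, v * m, Mv m hm, by simp⟩
  · refine ⟨1, by norm_num, v * (c * m), Mv _ (Mc m hm), ?_⟩
    rw [pow_one, ← mul_assoc, hvu]
    simp only [mul_assoc]

/-- PIECE B2 (racer copy of helper42). -/
theorem helper42_card_le_of_gens {H : Type*} [Group H] (u0 u1 u2 u3 a b x : H)
    (h : Gens u0 u1 u2 u3 a b x)
    (hgen : Subgroup.closure {u0, u1, u2, u3, a, b, x} = ⊤) :
    Finite H ∧ Nat.card H ≤ 320 := by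
  classical
  obtain ⟨Zc, hZc⟩ : ∃ Zc : Set H, Zc = {z | ∃ i j : ℕ, z = a ^ i * b ^ j} := ⟨_, rfl⟩
  have Zc_cent : ∀ z ∈ Zc, ∀ g : H, Commute z g := by
    intro z hz g
    rw [hZc] at hz
    obtain ⟨i, j, rfl⟩ := hz
    exact ((h.ac g).pow_left i).mul_left ((h.bc g).pow_left j)
  have Zc_a : ∀ z ∈ Zc, a * z ∈ Zc := by
    intro z hz
    rw [hZc] at hz ⊢
    obtain ⟨i, j, rfl⟩ := hz
    exact ⟨i + 1, j, by rw [pow_succ', mul_assoc]⟩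
  have Zc_b : ∀ z ∈ Zc, b * z ∈ Zc := by
    intro z hz
    rw [hZc] at hz ⊢
    obtain ⟨i, j, rfl⟩ := hz
    refine ⟨i, j + 1, ?_⟩
    rw [pow_succ' b, ← mul_assoc, ← mul_assoc, (h.bc (a ^ i)).eq]
  have N3a : ∀ n ∈ h42_L u3 Zc, a * n ∈ h42_L u3 Zc := h42_L_cen u3 a h.ac Zc Zc_a
  have N3b : ∀ n ∈ h42_L u3 Zc, b * n ∈ h42_L u3 Zc := h42_L_cen u3 b h.bc Zc Zc_b
  have N3u3 : ∀ n ∈ h42_L u3 Zc, u3 * n ∈ h42_L u3 Zc := h42_L_self a b u3 h.sq3 Zc Zc_a Zc_b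
  obtain ⟨N3, hN3⟩ : ∃ N3 : Set H, N3 = h42_L u3 Zc := ⟨_, rfl⟩
  rw [← hN3] at N3a N3b N3u3
  have N2a : ∀ n ∈ h42_L u2 N3, a * n ∈ h42_L u2 N3 := h42_L_cen u2 a h.ac N3 N3a
  have N2b : ∀ n ∈ h42_L u2 N3, b * n ∈ h42_L u2 N3 := h42_L_cen u2 b h.bc N3 N3b
  have N2u2 : ∀ n ∈ h42_L u2 N3, u2 * n ∈ h42_L u2 N3 := h42_L_self a b u2 h.sq2 N3 N3a N3b
  have N2u3 : ∀ n ∈ h42_L u2 N3, u3 * n ∈ h42_L u2 N3 :=
    h42_L_other u2 u3 a h.ac h.c23 N3 N3a N3u3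
  obtain ⟨N2, hN2⟩ : ∃ N2 : Set H, N2 = h42_L u2 N3 := ⟨_, rfl⟩
  rw [← hN2] at N2a N2b N2u2 N2u3
  have N1a : ∀ n ∈ h42_L u1 N2, a * n ∈ h42_L u1 N2 := h42_L_cen u1 a h.ac N2 N2a
  have N1b : ∀ n ∈ h42_L u1 N2, b * n ∈ h42_L u1 N2 := h42_L_cen u1 b h.bc N2 N2b
  have N1u1 : ∀ n ∈ h42_L u1 N2, u1 * n ∈ h42_L u1 N2 := h42_L_self a b u1 h.sq1 N2 N2a N2b
  have N1u2 : ∀ n ∈ h42_L u1 N2, u2 * n ∈ h42_L u1 N2 :=
    h42_L_other u1 u2 a h.ac h.c12 N2 N2a N2u2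
  have N1u3 : ∀ n ∈ h42_L u1 N2, u3 * n ∈ h42_L u1 N2 :=
    h42_L_other u1 u3 b h.bc h.c13 N2 N2b N2u3
  obtain ⟨N1, hN1⟩ : ∃ N1 : Set H, N1 = h42_L u1 N2 := ⟨_, rfl⟩
  rw [← hN1] at N1a N1b N1u1 N1u2 N1u3
  have N0a : ∀ n ∈ h42_L u0 N1, a * n ∈ h42_L u0 N1 := h42_L_cen u0 a h.ac N1 N1a
  have N0b : ∀ n ∈ h42_L u0 N1, b * n ∈ h42_L u0 N1 := h42_L_cen u0 b h.bc N1 N1b
  have N0u0 : ∀ n ∈ h42_L u0 N1, u0 * n ∈ h42_L u0 N1 := h42_L_self a b u0 h.sq0 N1 N1a N1b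
  have N0u1 : ∀ n ∈ h42_L u0 N1, u1 * n ∈ h42_L u0 N1 :=
    h42_L_other u0 u1 a h.ac h.c01 N1 N1a N1u1
  have N0u2 : ∀ n ∈ h42_L u0 N1, u2 * n ∈ h42_L u0 N1 :=
    h42_L_other u0 u2 b h.bc h.c02 N1 N1b N1u2
  have N0u3 : ∀ n ∈ h42_L u0 N1, u3 * n ∈ h42_L u0 N1 :=
    h42_L_other u0 u3 b h.bc h.c03 N1 N1b N1u3
  obtain ⟨N0, hN0⟩ : ∃ N0 : Set H, N0 = h42_L u0 N1 := ⟨_, rfl⟩
  rw [← hN0] at N0a N0b N0u0 N0u1 N0u2 N0u3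
  -- the central set lies in `N0`
  have Zc_sub : ∀ z ∈ Zc, z ∈ N0 := by
    intro z hz
    have h3 : z ∈ N3 := by rw [hN3]; exact ⟨0, by norm_num, z, hz, by simp⟩
    have h2 : z ∈ N2 := by rw [hN2]; exact ⟨0, by norm_num, z, h3, by simp⟩
    have h1 : z ∈ N1 := by rw [hN1]; exact ⟨0, by norm_num, z, h2, by simp⟩
    rw [hN0]; exact ⟨0, by norm_num, z, h1, by simp⟩
  have hab2 : a * b * (a * b) = 1 := by
    rw [← sq, (h.ac b).mul_pow, h.a2, h.b2, mul_one]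
  have pw : ∀ (g : H), (∀ n ∈ N0, g * n ∈ N0) → ∀ k : ℕ, ∀ n ∈ N0, g ^ k * n ∈ N0 := by
    intro g hg k
    induction k with
    | zero => intro n hn; simpa using hn
    | succ k ih => intro n hn; rw [pow_succ, mul_assoc]; exact ih _ (hg n hn)
  have inv_u : ∀ u : H, u ^ 2 = a * b → (∀ n ∈ N0, u * n ∈ N0) → ∀ n ∈ N0, u⁻¹ * n ∈ N0 := by
    intro u hu hun n hn
    have e : u⁻¹ = u * (a * b) := by
      apply inv_eq_of_mul_eq_one_right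
      rw [← mul_assoc, ← sq, hu, hab2]
    rw [e, mul_assoc, mul_assoc]
    exact hun _ (N0a _ (N0b _ hn))
  have hw : ∀ n ∈ N0, (u0 * u1 * u2 * u3)⁻¹ * n ∈ N0 := by
    intro n hn
    rw [mul_inv_rev, mul_inv_rev, mul_inv_rev]
    simp only [mul_assoc]
    exact inv_u u3 h.sq3 N0u3 _ (inv_u u2 h.sq2 N0u2 _ (inv_u u1 h.sq1 N0u1 _
      (inv_u u0 h.sq0 N0u0 _ hn)))
  have hconj : ∀ n ∈ N0, x * n * x⁻¹ ∈ N0 := by
    intro n hn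
    rw [hN0] at hn
    obtain ⟨e0, he0, n1, hn1, rfl⟩ := hn
    rw [hN1] at hn1
    obtain ⟨e1, he1, n2, hn2, rfl⟩ := hn1
    rw [hN2] at hn2
    obtain ⟨e2, he2, n3, hn3, rfl⟩ := hn2
    rw [hN3] at hn3
    obtain ⟨e3, he3, z, hz, rfl⟩ := hn3
    have hz' : x * z * x⁻¹ = z := by
      rw [← (Zc_cent z hz x).eq, mul_inv_cancel_right]
    have e : x * (u0 ^ e0 * (u1 ^ e1 * (u2 ^ e2 * (u3 ^ e3 * z)))) * x⁻¹
        = u1 ^ e0 * (u2 ^ e1 * (u3 ^ e2 * ((u0 * u1 * u2 * u3)⁻¹ ^ e3 * z))) := by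
      rw [← conj_mul, ← conj_pow, h.x0, ← conj_mul, ← conj_pow, h.x1, ← conj_mul, ← conj_pow, h.x2,
        ← conj_mul, ← conj_pow, h.x3, hz']
    rw [e]
    exact pw u1 N0u1 e0 _ (pw u2 N0u2 e1 _ (pw u3 N0u3 e2 _ (pw _ hw e3 _ (Zc_sub z hz))))
  obtain ⟨S, hS⟩ : ∃ S : Set H, S = {s | ∃ n ∈ N0, ∃ k : ℕ, s = n * x ^ k} := ⟨_, rfl⟩
  have S_of_N : ∀ g : H, (∀ n ∈ N0, g * n ∈ N0) → ∀ s ∈ S, g * s ∈ S := by
    intro g hg s hs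
    rw [hS] at hs ⊢
    obtain ⟨n, hn, k, rfl⟩ := hs
    exact ⟨g * n, hg n hn, k, by rw [mul_assoc]⟩
  have S_x : ∀ s ∈ S, x * s ∈ S := by
    intro s hs
    rw [hS] at hs ⊢
    obtain ⟨n, hn, k, rfl⟩ := hs
    exact ⟨x * n * x⁻¹, hconj n hn, k + 1, by rw [pow_succ']; group⟩
  have S_pow : ∀ (g : H), (∀ s ∈ S, g * s ∈ S) → ∀ k : ℕ, ∀ s ∈ S, g ^ k * s ∈ S := by
    intro g hg k
    induction k with
    | zero => intro s hs; simpa using hs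
    | succ k ih => intro s hs; rw [pow_succ, mul_assoc]; exact ih _ (hg s hs)
  have S_a := S_of_N a N0a
  have S_b := S_of_N b N0b
  have S_uinv : ∀ u : H, u ^ 2 = a * b → (∀ s ∈ S, u * s ∈ S) → ∀ s ∈ S, u⁻¹ * s ∈ S := by
    intro u hu hus s hs
    have e : u⁻¹ = u * (a * b) := by
      apply inv_eq_of_mul_eq_one_right
      rw [← mul_assoc, ← sq, hu, hab2]
    rw [e, mul_assoc, mul_assoc]
    exact hus _ (S_a _ (S_b _ hs))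
  have key : ∀ g : H, (∀ s ∈ S, g * s ∈ S) ∧ (∀ s ∈ S, g⁻¹ * s ∈ S) := by
    intro g
    have hg : g ∈ Subgroup.closure ({u0, u1, u2, u3, a, b, x} : Set H) := by
      rw [hgen]; trivial
    induction hg using Subgroup.closure_induction with
    | mem y hy =>
      simp only [Set.mem_insert_iff, Set.mem_singleton_iff] at hy
      rcases hy with rfl | rfl | rfl | rfl | rfl | rfl | rfl
      · exact ⟨S_of_N _ N0u0, S_uinv _ h.sq0 (S_of_N _ N0u0)⟩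
      · exact ⟨S_of_N _ N0u1, S_uinv _ h.sq1 (S_of_N _ N0u1)⟩
      · exact ⟨S_of_N _ N0u2, S_uinv _ h.sq2 (S_of_N _ N0u2)⟩
      · exact ⟨S_of_N _ N0u3, S_uinv _ h.sq3 (S_of_N _ N0u3)⟩
      · refine ⟨S_a, ?_⟩
        have e : y⁻¹ = y := by apply inv_eq_of_mul_eq_one_right; rw [← sq, h.a2]
        rw [e]; exact S_a
      · refine ⟨S_b, ?_⟩
        have e : y⁻¹ = y := by apply inv_eq_of_mul_eq_one_right; rw [← sq, h.b2]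
        rw [e]; exact S_b
      · refine ⟨S_x, ?_⟩
        have e : y⁻¹ = y ^ 4 := by
          apply inv_eq_of_mul_eq_one_right
          rw [← pow_succ', h.x5]
        rw [e]; exact S_pow _ S_x 4
    | one => exact ⟨fun s hs => by simpa using hs, fun s hs => by simpa using hs⟩
    | mul y z hy hz ihy ihz =>
      refine ⟨fun s hs => ?_, fun s hs => ?_⟩
      · rw [mul_assoc]; exact ihy.1 _ (ihz.1 s hs)
      · rw [mul_inv_rev, mul_assoc]; exact ihz.2 _ (ihy.2 s hs)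
    | inv y hy ih =>
      exact ⟨ih.2, by rw [inv_inv]; exact ih.1⟩
  have one_S : (1 : H) ∈ S := by
    rw [hS]
    exact ⟨1, Zc_sub 1 (by rw [hZc]; exact ⟨0, 0, by simp⟩), 0, by simp⟩
  have all_S : ∀ g : H, g ∈ S := by
    intro g
    have h1 := (key g).1 1 one_S
    rwa [mul_one] at h1
  obtain ⟨Φ, hΦdef⟩ : ∃ Φ : Fin 2 × Fin 2 × Fin 2 × Fin 2 × Fin 2 × Fin 2 × Fin 5 → H,
      ∀ p, Φ p = u0 ^ (p.1 : ℕ) * (u1 ^ (p.2.1 : ℕ) * (u2 ^ (p.2.2.1 : ℕ) *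
        (u3 ^ (p.2.2.2.1 : ℕ) * (a ^ (p.2.2.2.2.1 : ℕ) * b ^ (p.2.2.2.2.2.1 : ℕ))))) *
        x ^ (p.2.2.2.2.2.2 : ℕ) := ⟨_, fun _ => rfl⟩
  have hΦ : Function.Surjective Φ := by
    intro g
    have hg := all_S g
    rw [hS] at hg
    obtain ⟨n, hn, k, rfl⟩ := hg
    rw [hN0] at hn
    obtain ⟨e0, he0, n1, hn1, rfl⟩ := hn
    rw [hN1] at hn1
    obtain ⟨e1, he1, n2, hn2, rfl⟩ := hn1
    rw [hN2] at hn2
    obtain ⟨e2, he2, n3, hn3, rfl⟩ := hn2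
    rw [hN3] at hn3
    obtain ⟨e3, he3, z, hz, rfl⟩ := hn3
    rw [hZc] at hz
    obtain ⟨i, j, rfl⟩ := hz
    refine ⟨(⟨e0, he0⟩, ⟨e1, he1⟩, ⟨e2, he2⟩, ⟨e3, he3⟩, ⟨i % 2, Nat.mod_lt _ (by norm_num)⟩,
      ⟨j % 2, Nat.mod_lt _ (by norm_num)⟩, ⟨k % 5, Nat.mod_lt _ (by norm_num)⟩), ?_⟩
    rw [hΦdef]
    show u0 ^ e0 * (u1 ^ e1 * (u2 ^ e2 * (u3 ^ e3 * (a ^ (i % 2) * b ^ (j % 2))))) * x ^ (k % 5) = _
    rw [← pow_eq_pow_mod i h.a2, ← pow_eq_pow_mod j h.b2, ← pow_eq_pow_mod k h.x5]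
  have hfin : Finite H := Finite.of_surjective Φ hΦ
  refine ⟨hfin, ?_⟩
  calc Nat.card H ≤ Nat.card (Fin 2 × Fin 2 × Fin 2 × Fin 2 × Fin 2 × Fin 2 × Fin 5) :=
        Nat.card_le_card_of_surjective Φ hΦ
    _ = 320 := by simp [Nat.card_eq_fintype_card]

end Cfsg.Agent.Lib.helper16.U34C
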